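import Groth.Agent.Sga3.H827.DSFlat
import Groth.Agent.Sga3B.Pts
import Groth.Prelude.Def_NonAbH2
import Mathlib.AlgebraicGeometry.Sites.Fpqc
import Mathlib.Data.ZMod.Basic

/-!
# The Kummer sequence of diagonalisable groups is exact for the fppf topology
-/

set_option autoImplicit false
universe u
open CategoryTheory MonoidalCategory CartesianMonoidalCategory MonObj GrpObj AlgebraicGeometry Limits
open Groth.Agent.Sga3B Groth.Agent.Sga3B.DSPts

namespace K720.Kummer

variable (S : Scheme.{u})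

lemma isMonHom_DSmap {M N : Type} [AddCommGroup M] [AddCommGroup N] (lam : M →+ N) :
    IsMonHom (Red.DSmap S lam) := by
  apply Pts.isMonHom_of_points
  intro X x y
  rw [← DSPts.dsEquiv_dsChar ((x * y) ≫ Red.DSmap S lam),
    ← DSPts.dsEquiv_dsChar (x ≫ Red.DSmap S lam), ← DSPts.dsEquiv_dsChar (y ≫ Red.DSmap S lam),
    ← map_mul]
  congr 1
  rw [DSPts.dsChar_DSmap, DSPts.dsChar_DSmap, DSPts.dsChar_DSmap, DSPts.dsChar_mul]
  rfl

lemma mono_DSmap {M N : Type} [AddCommGroup M] [AddCommGroup N] (lam : M →+ N)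
    (hlam : Function.Surjective lam) : Mono (Red.DSmap S lam) where
  right_cancellation {T} x y h := by
    obtain ⟨χ, rfl⟩ := (dsEquiv T N).surjective x
    obtain ⟨χ', rfl⟩ := (dsEquiv T N).surjective y
    rw [dsEquiv_DSmap, dsEquiv_DSmap] at h
    have h1 := (dsEquiv T M).injective h
    have h3 : χ = χ' := by
      refine MonoidHom.ext fun n => ?_
      obtain ⟨m, hm⟩ := hlam n.toAdd
      have h2 := DFunLike.congr_fun h1 (Multiplicative.ofAdd m)
      change χ (Multiplicative.ofAdd (lam m)) = χ' (Multiplicative.ofAdd (lam m)) at h2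
      rw [hm] at h2
      exact h2
    rw [h3]

variable {S}

lemma dsChar_injective {T : Over S} {M : Type} [AddCommGroup M] {x y : T ⟶ Red.DS S M}
    (h : dsChar x = dsChar y) : x = y := (dsEquiv T M).symm.injective h

lemma dsChar_one {T : Over S} {M : Type} [AddCommGroup M] : dsChar (1 : T ⟶ Red.DS S M) = 1 :=
  map_one (dsEquiv T M).symm

lemma mul_DSmap {T : Over S} {M N : Type} [AddCommGroup M] [AddCommGroup N] (φ : M →+ N)
    (x y : T ⟶ Red.DS S N) : (x * y) ≫ Red.DSmap S φ = (x ≫ Red.DSmap S φ) * (y ≫ Red.DSmap S φ) := by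
  apply dsChar_injective
  rw [dsChar_DSmap, dsChar_mul, dsChar_mul, dsChar_DSmap, dsChar_DSmap]
  rfl

lemma one_DSmap {T : Over S} {M N : Type} [AddCommGroup M] [AddCommGroup N] (φ : M →+ N) :
    (1 : T ⟶ Red.DS S N) ≫ Red.DSmap S φ = 1 := by
  apply dsChar_injective
  rw [dsChar_DSmap, dsChar_one, dsChar_one]
  rfl

/-- The composite of the two maps of the Kummer sequence is trivial. -/
lemma comp_eq_one (n : ℕ) :
    Red.DSmap S (Int.castAddHom (ZMod n)) ≫ Red.chi S (n : ℤ) = 1 := by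
  apply dsChar_injective
  rw [dsChar_one]
  refine MonoidHom.ext fun m => ?_
  have h : dsChar (Red.DSmap S (Int.castAddHom (ZMod n)) ≫ Red.chi S (n : ℤ)) =
    (dsChar (Red.DSmap S (Int.castAddHom (ZMod n)))).comp
      (AddMonoidHom.toMultiplicative (zmultiplesHom ℤ (n : ℤ))) := dsChar_DSmap _ _
  have h2 : dsChar (Red.DSmap S (Int.castAddHom (ZMod n))) =
      (dsChar (𝟙 _)).comp (AddMonoidHom.toMultiplicative (Int.castAddHom (ZMod n))) := by
    rw [← dsChar_DSmap, Category.id_comp]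
  rw [h, h2]
  change dsChar (𝟙 _) (Multiplicative.ofAdd (Int.castAddHom (ZMod n) (m.toAdd • (n : ℤ)))) = 1
  have h3 : Int.castAddHom (ZMod n) (m.toAdd • (n : ℤ)) = 0 := by simp
  rw [h3]
  exact map_one _

/-- The translation square of the Kummer sequence is cartesian. -/
lemma isPullback (n : ℕ) :
    IsPullback (fst (Red.DS S ℤ) (Red.DS S (ZMod n)))
      ((Red.DS S ℤ ◁ Red.DSmap S (Int.castAddHom (ZMod n))) ≫ μ[Red.DS S ℤ])
      (Red.chi S (n : ℤ)) (Red.chi S (n : ℤ)) := by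
  have hmul : ∀ {T : Over S} (x : T ⟶ Red.DS S ℤ) (z : T ⟶ Red.DS S (ZMod n)),
      lift x z ≫ (Red.DS S ℤ ◁ Red.DSmap S (Int.castAddHom (ZMod n))) ≫ μ[Red.DS S ℤ] =
        x * (z ≫ Red.DSmap S (Int.castAddHom (ZMod n))) := by
    intro T x z
    rw [← Category.assoc, lift_whiskerLeft]
    rfl
  have hchi : ∀ {T : Over S} (x : T ⟶ Red.DS S ℤ), dsChar (x ≫ Red.chi S (n : ℤ)) =
      (dsChar x).comp (AddMonoidHom.toMultiplicative (zmultiplesHom ℤ (n : ℤ))) :=
    fun x => dsChar_DSmap _ _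
  have hmc : ∀ {T : Over S} (x y : T ⟶ Red.DS S ℤ), (x * y) ≫ Red.chi S (n : ℤ) =
      (x ≫ Red.chi S (n : ℤ)) * (y ≫ Red.chi S (n : ℤ)) := fun x y => mul_DSmap _ x y
  have hcomp : ∀ {T : Over S} (z : T ⟶ Red.DS S (ZMod n)),
      (z ≫ Red.DSmap S (Int.castAddHom (ZMod n))) ≫ Red.chi S (n : ℤ) = 1 := by
    intro T z
    rw [Category.assoc, comp_eq_one, MonObj.comp_one]
  have hlift : ∀ {T : Over S} (x y : T ⟶ Red.DS S ℤ), x ≫ Red.chi S (n : ℤ) = y ≫ Red.chi S (n : ℤ) →
      ∃ z : T ⟶ Red.DS S (ZMod n), x * (z ≫ Red.DSmap S (Int.castAddHom (ZMod n))) = y := by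
    intro T x y hxy
    have h1 : (x⁻¹ * y) ≫ Red.chi S (n : ℤ) = 1 := by
      rw [hmc, ← hxy, ← hmc, inv_mul_cancel]
      exact one_DSmap _
    have h2 := hchi (x⁻¹ * y)
    rw [h1, dsChar_one] at h2
    let χ : Multiplicative ℤ →* Γ(T.left, ⊤) := dsChar (x⁻¹ * y)
    have h3 : χ (Multiplicative.ofAdd (n : ℤ)) = 1 := by
      have := DFunLike.congr_fun h2 (Multiplicative.ofAdd (1 : ℤ))
      simp only [MonoidHom.one_apply, MonoidHom.comp_apply, AddMonoidHom.toMultiplicative_apply_apply,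
        toAdd_ofAdd, zmultiplesHom_apply, one_smul] at this
      exact this.symm
    -- the character of `ℤ/n`
    let χu : Multiplicative ℤ →* (Γ(T.left, ⊤))ˣ := χ.toHomUnits
    let ψ : ℤ →+ Additive (Γ(T.left, ⊤))ˣ := MonoidHom.toAdditiveRight.symm.symm χu
    have hψ : ψ (n : ℤ) = 0 := by
      apply Additive.toMul.injective
      apply Units.ext
      exact h3
    let ψ' : ZMod n →+ Additive (Γ(T.left, ⊤))ˣ := ZMod.lift n ⟨ψ, hψ⟩
    let z : T ⟶ Red.DS S (ZMod n) := dsEquiv T (ZMod n)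
      ((Units.coeHom _).comp (AddMonoidHom.toMultiplicativeLeft ψ'))
    refine ⟨z, ?_⟩
    have h4 : z ≫ Red.DSmap S (Int.castAddHom (ZMod n)) = x⁻¹ * y := by
      apply dsChar_injective
      rw [dsChar_DSmap, dsChar_dsEquiv]
      refine MonoidHom.ext fun m => ?_
      change ((Additive.toMul (ψ' ((m.toAdd : ℤ) : ZMod n)) : (Γ(T.left, ⊤))ˣ) : Γ(T.left, ⊤)) = χ m
      rw [ZMod.lift_coe]
      rfl
    rw [h4, mul_inv_cancel_left]
  have hw : fst (Red.DS S ℤ) (Red.DS S (ZMod n)) ≫ Red.chi S (n : ℤ) =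
      ((Red.DS S ℤ ◁ Red.DSmap S (Int.castAddHom (ZMod n))) ≫ μ[Red.DS S ℤ]) ≫ Red.chi S (n : ℤ) := by
    have h := hmul (fst (Red.DS S ℤ) (Red.DS S (ZMod n))) (snd _ _)
    rw [lift_fst_snd, Category.id_comp] at h
    rw [h, hmc, hcomp]
    exact (_root_.mul_one (fst (Red.DS S ℤ) (Red.DS S (ZMod n)) ≫ Red.chi S (n : ℤ))).symm
  refine ⟨⟨hw⟩, ⟨PullbackCone.IsLimit.mk _ (fun s => lift s.fst (hlift s.fst s.snd s.condition).choose)
    (fun s => lift_fst _ _) (fun s => ?_) (fun s m h1 h2 => ?_)⟩⟩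
  · rw [hmul]
    exact (hlift s.fst s.snd s.condition).choose_spec
  · have hz := (hlift s.fst s.snd s.condition).choose_spec
    apply CartesianMonoidalCategory.hom_ext
    · rw [lift_fst, h1]
    · rw [lift_snd]
      have hmono := mono_DSmap S (Int.castAddHom (ZMod n)) (ZMod.intCast_surjective)
      rw [← cancel_mono (Red.DSmap S (Int.castAddHom (ZMod n)))]
      have hm : m = lift (m ≫ fst _ _) (m ≫ snd _ _) := by
        rw [← comp_lift, lift_fst_snd, Category.comp_id]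
      rw [hm, hmul] at h2
      rw [h1, ← hz] at h2
      have h3 := congrArg (s.fst⁻¹ * ·) h2
      simpa only [inv_mul_cancel_left] using h3

/-- The `n`-th power map on the multiplicative group is an fppf covering of its target. -/
lemma flat_chi (n : ℕ) (hn : 0 < n) : Flat (Red.chi S (n : ℤ)).left :=
  Groth.Agent.Sga3.H827.DSFlat.flat_DSmap _ _ (by
    intro a b h
    simp only [zmultiplesHom_apply, smul_eq_mul] at h
    exact mul_right_cancel₀ (by exact_mod_cast hn.ne') h)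

lemma surjective_chi (n : ℕ) (hn : 0 < n) : Surjective (Red.chi S (n : ℤ)).left :=
  Groth.Agent.Sga3.H827.DSFlat.surjective_DSmap _ _ (by
    intro a b h
    simp only [zmultiplesHom_apply, smul_eq_mul] at h
    exact mul_right_cancel₀ (by exact_mod_cast hn.ne') h)

lemma locallyOfFinitePresentation_chi (n : ℕ) : LocallyOfFinitePresentation (Red.chi S (n : ℤ)).left := by
  refine MorphismProperty.of_isPullback (P := @LocallyOfFinitePresentation)
    (Groth.Agent.Sga3.H827.DSFlat.isPullback (zmultiplesHom ℤ (n : ℤ)) S) ?_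
  change LocallyOfFinitePresentation (Spec.map _)
  rw [HasRingHomProperty.Spec_iff (P := @LocallyOfFinitePresentation)]
  have hN : IsNoetherianRing (ULift.{u} ℤ) := isNoetherianRing_of_ringEquiv ℤ ULift.ringEquiv.symm
  have hft : @Algebra.FiniteType (ULift.{u} ℤ) (MonoidAlgebra (ULift.{u} ℤ) (Multiplicative ℤ)) _ _
    MonoidAlgebra.algebra := MonoidAlgebra.finiteType_of_fg
  have hN' : IsNoetherianRing (MonoidAlgebra (ULift.{u} ℤ) (Multiplicative ℤ)) :=
    Algebra.FiniteType.isNoetherianRing (ULift.{u} ℤ) _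
  refine (RingHom.FinitePresentation.of_finiteType).1 ?_
  let a : ULift.{u} ℤ →+* MonoidAlgebra (ULift.{u} ℤ) (Multiplicative ℤ) :=
    @algebraMap (ULift.{u} ℤ) (MonoidAlgebra (ULift.{u} ℤ) (Multiplicative ℤ)) _ _ MonoidAlgebra.algebra
  have h1 : a.FiniteType := RingHom.finiteType_algebraMap.2 hft
  have h3 : ((MonoidAlgebra.mapDomainAlgHom (ULift.{u} ℤ) (ULift.{u} ℤ)
      (AddMonoidHom.toMultiplicative (zmultiplesHom ℤ (n : ℤ)))).toRingHom.comp a).FiniteType := by
    rw [uliftInt_ringHom_ext (((MonoidAlgebra.mapDomainAlgHom (ULift.{u} ℤ) (ULift.{u} ℤ)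
      (AddMonoidHom.toMultiplicative (zmultiplesHom ℤ (n : ℤ)))).toRingHom.comp a)) a]
    exact h1
  exact RingHom.FiniteType.of_comp_finiteType (f := a) h3

lemma isLocallyTrivialFor (n : ℕ) (hn : 0 < n) :
    NonAbH1.IsLocallyTrivialFor Scheme.fppfPrecoverage
      (Over.mk (Red.chi S (n : ℤ)).left : Over (Red.Gm S).left) := by
  have := flat_chi (S := S) n hn
  have := surjective_chi (S := S) n hn
  have := locallyOfFinitePresentation_chi (S := S) n
  refine ⟨Presieve.singleton (Red.chi S (n : ℤ)).left, ?_, ?_⟩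
  · rw [Scheme.fppfPrecoverage, Scheme.singleton_mem_precoverage_iff]
    exact ⟨(inferInstance : Surjective (Red.chi S (n : ℤ)).left).surj, ⟨inferInstance, inferInstance⟩⟩
  · rintro S' f ⟨⟩
    exact ⟨𝟙 _, Category.id_comp _⟩

theorem main (n : ℕ) (hn : 0 < n) :
    NonAbH1.IsExactSeq Scheme.fppfPrecoverage
      (Red.DSmap S (Int.castAddHom (ZMod n))) (Red.chi S (n : ℤ)) :=
  ⟨isMonHom_DSmap _ _, isMonHom_DSmap _ _, comp_eq_one n, isPullback n, isLocallyTrivialFor n hn⟩

end K720.Kummer
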