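import Groth.Agent.EtCoh.K720.Lev1Tw

/-!
# Equivariant maps from a torsor and sections of twists

* `wOm : Ω¹ × Ω¹ → Ω²`, `mOm2 : Ω² × O → Ω²`, pairings; `Gs F`: compatible families of sections (global sections);
* `Pairing.left β a : B ⟶ C` for a global section `a`;
* `Equi T φ`: equivariant maps `T → F` along `φ : A ⟶ F`;
* `sig ρ β β' : B ⟶ tw T β`, `b ↦ (b, g ↦ β' (ρ g) b)`.
-/

set_option autoImplicit false

universe u

open CategoryTheory CategoryTheory.Limits AlgebraicGeometry Opposite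

noncomputable section

namespace K720.Equi

open K611.Gam K611.Gam2 K611.Frame K611.Top K611.Sh K611.Seq K611.Seq2 K720.Sym K720.Tw K720.Pair K720.Nu
  K720.Lev1 KaehlerDifferential

variable {X : Scheme.{u}}

/-- Global sections, as compatible families. -/
structure Gs (F : EtCoh.Ab X) where
  /-- the sections -/
  v : ∀ V : X.Etale, EtCoh.sect F V
  nat : ∀ {V W : X.Etale} (k : W ⟶ V), rs F k (v V) = v W

theorem Gs.ext {F : EtCoh.Ab X} {a b : Gs F} (h : ∀ V, a.v V = b.v V) : a = b := by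
  obtain ⟨a, ha⟩ := a
  obtain ⟨b, hb⟩ := b
  have : a = b := funext h
  subst this
  rfl

instance (F : EtCoh.Ab X) : Zero (Gs F) := ⟨⟨fun _ => 0, fun _ => map_zero _⟩⟩

/-- The image of a global section. -/
def Gs.map {F G : EtCoh.Ab X} (φ : F ⟶ G) (a : Gs F) : Gs G := ⟨fun V => ap φ V (a.v V), fun k => by rw [← ap_rs, a.nat]⟩

/-- Global sections from locally defined compatible sections. -/
theorem exists_gs (F : EtCoh.Ab X) (P : ∀ V : X.Etale, EtCoh.sect F V → Prop)
    (hres : ∀ {V W : X.Etale} (k : W ⟶ V) (s : EtCoh.sect F V), P V s → P W (rs F k s))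
    (huniq : ∀ (V : X.Etale) (s s' : EtCoh.sect F V), P V s → P V s' → s = s')
    (hloc : ∀ (V : X.Etale) (x : V.left), ∃ (W : X.Etale) (k : W ⟶ V) (w : W.left), k.left w = x ∧ ∃ s, P W s) :
    ∃ a : Gs F, ∀ (V : X.Etale) (s : EtCoh.sect F V), P V s → a.v V = s := by
  have hV : ∀ V : X.Etale, ∃ a : EtCoh.sect F V, ∀ (W : X.Etale) (k : W ⟶ V) (s : EtCoh.sect F W), P W s →
      rs F k a = s := by
    intro V
    let R : Sieve V :=
      { arrows := fun W k => ∃ s, P W s
        downward_closed := fun {W Z} k hk l => by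
          obtain ⟨s, hs⟩ := hk
          exact ⟨rs F l s, hres l s hs⟩ }
    obtain ⟨a, ha⟩ := Groth.Agent.Etbase.EtSections.exists_glue F V R
      (fun x => by
        obtain ⟨W, k, w, hw, hs⟩ := hloc V x
        exact ⟨W, k, w, hs, hw⟩)
      (fun W k hk => hk.choose)
      (fun W Z k hk l hl => huniq Z _ _ (hres l _ hk.choose_spec) hl.choose_spec)
    refine ⟨a, fun W k s hs => ?_⟩
    exact (ha W k ⟨s, hs⟩).trans (huniq W _ _ (Exists.choose_spec (⟨s, hs⟩ : ∃ s, P W s)) hs)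
  choose a ha using hV
  refine ⟨⟨a, fun {V W} k => ?_⟩, fun V s hs => ?_⟩
  · refine Groth.Agent.Etbase.EtSite.sect_ext F W _ _ fun x => ?_
    obtain ⟨Z, l, z, hz, s, hs⟩ := hloc W x
    refine ⟨Z, l, z, hz, ?_⟩
    change rs F l (rs F k (a V)) = rs F l (a W)
    rw [← rs_comp, ha V Z (l ≫ k) s hs, ha W Z l s hs]
  · have := ha V V (𝟙 V) s hs
    rwa [rs_id] at this

variable {A B C : EtCoh.Ab X}

/-- Pairing with a global section. -/
def left (β : Pairing A B C) (a : Gs A) : B ⟶ C :=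
  mkHom (fun V => β.app V (a.v V)) (fun k s => by rw [← β.nat, a.nat])

theorem ap_left (β : Pairing A B C) (a : Gs A) (V : X.Etale) (b : EtCoh.sect B V) :
    ap (left β a) V b = β.app V (a.v V) b := rfl

/-- Equivariant maps from a torsor along `φ : A ⟶ F`. -/
structure Eqv {F : EtCoh.Ab X} (T : Tor A) (φ : A ⟶ F) where
  /-- the maps -/
  r : ∀ V : X.Etale, T.pt V → EtCoh.sect F V
  nat : ∀ {V W : X.Etale} (k : W ⟶ V) (g : T.pt V), r W (T.rp k g) = rs F k (r V g)
  tr : ∀ (V : X.Etale) (g : T.pt V) (x : EtCoh.sect A V), r V (T.tr g x) = r V g + ap φ V x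

/-- The section of the twist attached to an equivariant map. -/
def sig {F : EtCoh.Ab X} {T : Tor A} {φ : A ⟶ F} (ρ : Eqv T φ) (β : Pairing A B C) (β' : Pairing F B C)
    (hβ : ∀ (U : X.Etale) (a : EtCoh.sect A U) (b : EtCoh.sect B U), β.app U a b = β'.app U (ap φ U a) b) :
    B ⟶ tw T β :=
  mkHom (fun U =>
    { toFun := fun b => mk T β b (fun V f g => β'.app V (ρ.r V g) (rs B f b))
        (fun V W k f g => by rw [← β'.nat, ρ.nat, rs_comp])
        (fun V f g x => by rw [ρ.tr, map_add, AddMonoidHom.add_apply, hβ])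
      map_zero' := grp_ext rfl fun V f g => by
        change β'.app V (ρ.r V g) (rs B f 0) = 0
        rw [map_zero, map_zero]
      map_add' := fun b b' => grp_ext rfl fun V f g => by
        change β'.app V (ρ.r V g) (rs B f (b + b')) = β'.app V (ρ.r V g) (rs B f b) + β'.app V (ρ.r V g) (rs B f b')
        rw [map_add, map_add] })
    (fun {V W} k s => grp_ext rfl fun Z f g => by
      change β'.app Z (ρ.r Z g) (rs B f (rs B k s)) = β'.app Z (ρ.r Z g) (rs B (f ≫ k) s)
      rw [rs_comp])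

section sig

variable {F : EtCoh.Ab X} {T : Tor A} {φ : A ⟶ F} (ρ : Eqv T φ) (β : Pairing A B C) (β' : Pairing F B C)
    (hβ : ∀ (U : X.Etale) (a : EtCoh.sect A U) (b : EtCoh.sect B U), β.app U a b = β'.app U (ap φ U a) b)

theorem sig_π : sig ρ β β' hβ ≫ π T β = 𝟙 B := hom_ext fun _ _ => rfl

theorem π_sig (U : X.Etale) (b : EtCoh.sect B U) : ap (π T β) U (ap (sig ρ β β' hβ) U b) = b := rfl

theorem ev_sig (U : X.Etale) (b : EtCoh.sect B U) (g : T.pt U) :
    ev T β g (ap (sig ρ β β' hβ) U b) = β'.app U (ρ.r U g) b := by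
  change β'.app U (ρ.r U g) (rs B (𝟙 U) b) = _
  rw [rs_id]

end sig

/-! ### Wedge products -/

variable (p : ℕ)

/-- `Ω¹ × Ω¹ → Ω²`. -/
def wOm : Bi.{u} p OmF OmF Om2F where
  app B _ := AddMonoidHom.mk' (fun x => AddMonoidHom.mk' (fun y => w (B := B) x y) (fun y y' => w_add_right x y y'))
    (fun x x' => AddMonoidHom.ext fun y => w_add_left x x' y)
  nat B C _ _ f a b := (omap2_w f.hom a b).symm

theorem wOm_apply {B : CommRingCat.{u}} (hB : (p : B) = 0) (x y : Ω[B⁄ℤ]) : (wOm p).app B hB x y = w x y := rfl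

/-- `Ω² × O → Ω²`. -/
def mOm2 : Bi.{u} p Om2F GaF Om2F where
  app B _ := AddMonoidHom.mk' (fun x => AddMonoidHom.mk' (fun a => (toB a) • (show Om2 B from x))
      (fun a a' => add_smul (toB a) (toB a') (show Om2 B from x)))
    (fun x x' => AddMonoidHom.ext fun a => smul_add (toB a) (show Om2 B from x) (show Om2 B from x'))
  nat B C _ _ f a b := (omap2_smul f.hom (toB b) a).symm

theorem mOm2_apply {B : CommRingCat.{u}} (hB : (p : B) = 0) (x : Om2 B) (a : B) :
    (mOm2 p).app B hB x (show GaF.obj B from a) = a • x := rfl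

variable {p} [hp : Fact p.Prime] (h : (p : Γ(X, ⊤)) = 0)

/-- `Ω¹ × Ω¹ → Ω²` on sheaves. -/
abbrev wΩ : Pairing (sh OmF X) (sh OmF X) (sh Om2F X) := (wOm p).sh h

/-- `Ω² × O → Ω²` on sheaves. -/
abbrev mΩ : Pairing (sh Om2F X) (sh GaF X) (sh Om2F X) := (mOm2 p).sh h

omit hp in
theorem bΩ_eq (U : X.Etale) (a : EtCoh.sect (sh (nuF p) X) U) (b : EtCoh.sect (sh OmF X) U) :
    (bΩ h).app U a b = (wΩ h).app U (ap ((dlN p).sh h) U a) b := by
  refine sect_induction₂ a b _ _ fun V g a₀ b₀ ha hb => ?_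
  rw [← (bΩ h).nat, ← (wΩ h).nat, ← ap_rs, ← ha, ← hb, Bi.sh_un]
  change _ = (wΩ h).app V (((dlN p).sh h).hom.app (op V) (un (nuF p) V a₀)) (un OmF V b₀)
  rw [NT.sh_un, Bi.sh_un]
  congr 1
  obtain ⟨v, rfl⟩ := cu_surjective a₀
  rfl

/-- The section `Ω¹ → tw(Ω¹, Ω²)` attached to an equivariant map `T → Ω¹`. -/
abbrev sg {T : Tor (sh (nuF p) X)} (ρ : Eqv T ((dlN p).sh h)) : sh OmF X ⟶ GO h T :=
  sig ρ (bΩ h) (wΩ h) (bΩ_eq h)

end K720.Equi
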