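import Groth.Agent.EtCoh.K720.H1Kill
import Groth.Agent.Sga5.H854.PushConst
import Groth.Agent.Sga5.FlcEmbed
import Groth.Agent.Sga4A.IntegralSection

/-!
# Killing cohomology classes by finite étale covers

* `exists_trivialize`: on a connected scheme a finite locally constant sheaf is trivialised by a finite étale
  surjective morphism.
* `hp_eq_zero_comp`: a class killed by `g` is killed by `g' ≫ g`.
* `Kills`: the K(π,1)-condition and its behaviour under finite étale covers.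
-/

set_option autoImplicit false
universe u
open CategoryTheory CategoryTheory.Limits AlgebraicGeometry Opposite Abelian
open scoped Groth.Agent.Etcore.EtInst
open Groth.Agent.Etcore.EtInst

namespace K720.KPi1

open Groth.Agent.Etcore.HpullCalc Groth.Agent.Etcore.HQ Groth.Agent.Etcore Groth.Agent.EtpbcB
open Groth.Agent

attribute [local instance] Groth.Agent.Etcore.HQ.pfl

/-- `ζ` is killed by a finite étale surjective morphism. -/
def Kills {Y : Scheme.{u}} (F : EtCoh.Ab Y) (q : ℕ) (ζ : HH Y F q) : Prop :=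
  ∃ (Y' : Scheme.{u}) (g : Y' ⟶ Y), IsFinite g ∧ Etale g ∧ Surjective g ∧ hp g F q ζ = 0

theorem kills_iff {Y : Scheme.{u}} (F : EtCoh.Ab Y) (q : ℕ) (ζ : HH Y F q) :
    Kills F q ζ ↔ ∃ (Y' : Scheme.{u}) (g : Y' ⟶ Y), IsFinite g ∧ Etale g ∧ Surjective g ∧
      ∀ [PreservesFiniteLimits (EtCoh.pull g)], EtCore.Hpull g F q ζ = 0 := by
  constructor
  · rintro ⟨Y', g, h1, h2, h3, h⟩
    exact ⟨Y', g, h1, h2, h3, h⟩
  · rintro ⟨Y', g, h1, h2, h3, h⟩
    exact ⟨Y', g, h1, h2, h3, h⟩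

theorem HHmap_iso_eq_zero {X : Scheme.{u}} {F G : EtCoh.Ab X} (e : F ≅ G) (n : ℕ) (x : HH X F n) :
    HHmap e.hom n x = 0 ↔ x = 0 := by
  constructor
  · intro h
    have := (HHmap_bijective e.hom n).1 (a₁ := x) (a₂ := 0) (by rw [h, map_zero])
    exact this
  · rintro rfl
    exact map_zero _

/-- A class dies under `g ≫ f` iff its pullback by `f` dies under `g`. -/
theorem hp_hp_eq_zero_iff {X Y Z : Scheme.{u}} (g : X ⟶ Y) (f : Y ⟶ Z) (G : EtCoh.Ab Z) (n : ℕ)
    (x : HH Z G n) : hp g _ n (hp f G n x) = 0 ↔ hp (g ≫ f) G n x = 0 := by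
  rw [hp_comp]
  exact HHmap_iso_eq_zero ((EtCore.pullComp g f).app G) n _

theorem Kills.of_map_iso {Y : Scheme.{u}} {F G : EtCoh.Ab Y} (e : F ≅ G) (q : ℕ) (ζ : HH Y F q)
    (h : Kills G q (HHmap e.hom q ζ)) : Kills F q ζ := by
  obtain ⟨Y', g, h1, h2, h3, h⟩ := h
  refine ⟨Y', g, h1, h2, h3, ?_⟩
  rw [hp_map] at h
  exact (HHmap_iso_eq_zero ((EtCoh.pull g).mapIso e) q _).1 h

/-- If the pullback of `ζ` to a finite étale cover can be killed then `ζ` can be killed. -/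
theorem Kills.of_pull {X Y : Scheme.{u}} (f : X ⟶ Y) [IsFinite f] [Etale f] [Surjective f]
    (F : EtCoh.Ab Y) (q : ℕ) (ζ : HH Y F q) (h : Kills ((EtCoh.pull f).obj F) q (hp f F q ζ)) :
    Kills F q ζ := by
  obtain ⟨X', g, h1, h2, h3, h⟩ := h
  refine ⟨X', g ≫ f, inferInstance, inferInstance, inferInstance, ?_⟩
  exact (hp_hp_eq_zero_iff g f F q ζ).1 h

/-- If `ζ` can be killed, so can its pullback. -/
theorem Kills.pull {X Y : Scheme.{u}} (f : X ⟶ Y)
    (F : EtCoh.Ab Y) (q : ℕ) (ζ : HH Y F q) (h : Kills F q ζ) :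
    Kills ((EtCoh.pull f).obj F) q (hp f F q ζ) := by
  obtain ⟨Y', g, h1, h2, h3, h⟩ := h
  refine ⟨pullback f g, pullback.fst f g, inferInstance, inferInstance, inferInstance, ?_⟩
  rw [hp_hp_eq_zero_iff, pullback.condition, ← hp_hp_eq_zero_iff, h, map_zero]

theorem Kills.map {Y : Scheme.{u}} {F G : EtCoh.Ab Y} (φ : F ⟶ G) (q : ℕ) (ζ : HH Y F q)
    (h : Kills F q ζ) : Kills G q (HHmap φ q ζ) := by
  obtain ⟨Y', g, h1, h2, h3, h⟩ := h
  refine ⟨Y', g, h1, h2, h3, ?_⟩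
  rw [hp_map, h, map_zero]

theorem exists_push {X Y : Scheme.{u}} (f : X ⟶ Y) [IsFinite f] (F : EtCoh.Ab X) (q : ℕ)
    (ζ : HH X F q) : ∃ η : HH Y ((EtCoh.push f).obj F) q,
      HHmap ((EtCoh.pullPushAdj f).counit.app F) q (hp f _ q η) = ζ := by
  have := Sga4A.EtSplit.preservesFiniteColimits_push f
  obtain ⟨η, h⟩ := (Sga5.H854.PushConst.bijective_pl_id f F q).2 ζ
  rw [Sga5.H854.PushConst.pl_apply, Sga5.H854.PushConst.ad_id] at h
  exact ⟨η, h⟩

/-- If a preimage of `ζ` in the cohomology of the direct image can be killed, so can `ζ`. -/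
theorem Kills.of_push {X Y : Scheme.{u}} (f : X ⟶ Y) [IsFinite f] (F : EtCoh.Ab X) (q : ℕ)
    (ζ : HH X F q) (h : ∀ η : HH Y ((EtCoh.push f).obj F) q, Kills ((EtCoh.push f).obj F) q η) :
    Kills F q ζ := by
  obtain ⟨η, rfl⟩ := exists_push f F q ζ
  exact ((h η).pull f).map _

/-- A finite locally constant sheaf on a connected scheme is trivialised by a finite étale surjective
morphism. -/
theorem exists_trivialize {X : Scheme.{u}} [ConnectedSpace X] {F : EtCoh.Ab X}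
    (hF : EtCoh.IsFiniteLocallyConstant F) {ν : ℕ} (hν : EtCoh.KilledBy ν F) :
    ∃ (T : X.Etale) (_ : IsFinite T.hom) (_ : Surjective T.hom) (M : Type) (_ : AddCommGroup M)
      (_ : Finite M), (∀ m : M, ν • m = 0) ∧
      Nonempty ((EtCoh.pull T.hom).obj F ≅ EtCoh.const T.left M) := by
  obtain ⟨x⟩ := (inferInstance : Nonempty X)
  obtain ⟨T, hT, t, ht, M, h1, h2, φ, hφ⟩ := Sga5.FlcCover.exists_at hF x
  refine ⟨T, hT, ⟨?_⟩, M, h1, h2, fun m => ?_, ?_⟩
  · have ho : IsOpen (Set.range T.hom) := T.hom.isOpenMap.isOpen_range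
    have hc : IsClosed (Set.range T.hom) := T.hom.isClosedMap.isClosed_range
    have h : IsClopen (X := X) (Set.range T.hom) := ⟨hc, ho⟩
    have h' : (Set.range T.hom : Set X) = Set.univ := IsClopen.eq_univ h ⟨_, t, rfl⟩
    exact Set.range_eq_univ.1 h'
  · apply (hφ t).1
    rw [map_nsmul, hν]
    exact Groth.Agent.EtpbcA.ConsVan.Van.zero _
  · exact (EtpbcA.OverSite2.restr_iso_const_iff T F _).1 (EtpbcA.ConsFLC.nonempty_iso_const φ hφ)

end K720.KPi1
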