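import Groth.Agent.S0103
import Groth.Agent.Sga7.H762.HConst
import Groth.Agent.EtCoh.K720.KPi1

/-!
# Finite `p`-groups on affine schemes of characteristic `p`, and the K(π,1)-property
-/

set_option autoImplicit false
universe u
open CategoryTheory CategoryTheory.Limits AlgebraicGeometry Opposite Abelian
open scoped Groth.Agent.Etcore.EtInst
open Groth.Agent.Etcore.EtInst

namespace K720.AffCharP

open Groth.Agent

theorem subsingleton_of_iso {X : Scheme.{u}} {F G : EtCoh.Ab X} (e : F ≅ G) (q : ℕ)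
    (h : Subsingleton (EtCoh.H X F q)) : Subsingleton (EtCoh.H X G q) := by
  refine subsingleton_of_forall_eq 0 fun x => ?_
  obtain ⟨y, hy⟩ := (HHmap_bijective e.hom q).2 x
  rw [← hy]
  have : y = 0 := Subsingleton.elim (α := EtCoh.H X F q) _ _
  rw [this, map_zero]

/-- Constant sheaves of isomorphic groups. -/
noncomputable def constIso (X : Scheme.{u}) {M N : Type} [AddCommGroup M] [AddCommGroup N] (e : M ≃+ N) :
    EtCoh.const X M ≅ EtCoh.const X N :=
  (constantSheaf X.smallEtaleTopology AddCommGrpCat.{u + 1}).mapIso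
    (AddEquiv.toAddCommGrpIso (X := AddCommGrpCat.of (ULift.{u + 1} M))
      (Y := AddCommGrpCat.of (ULift.{u + 1} N)) ((AddEquiv.ulift.trans e).trans AddEquiv.ulift.symm))

theorem H_const_finite (S : Scheme.{u}) [IsAffine S] (p : ℕ) [hp : Fact p.Prime] [CharP Γ(S, ⊤) p]
    (q : ℕ) (hq : 2 ≤ q) (h : ℕ) (k : ℕ) :
    ∀ (M : Type) [AddCommGroup M] [Finite M], (∀ m : M, p ^ h • m = 0) → Nat.card M ≤ k →
      Subsingleton (EtCoh.H S (EtCoh.const S M) q) := by
  induction k with
  | zero =>
    intro M _ _ _ hk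
    exact absurd (Nat.card_pos (α := M)) (by omega)
  | succ k ih =>
    intro M _ _ hM hk
    by_cases h1 : Nat.card M = 1
    · have : Subsingleton M := (Nat.card_eq_one_iff_unique.1 h1).1
      have hz : IsZero (AddCommGrpCat.of (ULift.{u + 1} M)) := by
        have : Subsingleton (ULift.{u + 1} M) := inferInstance
        exact AddCommGrpCat.isZero_of_subsingleton _
      have hz2 : IsZero (EtCoh.const S M) :=
        Functor.map_isZero (constantSheaf S.smallEtaleTopology AddCommGrpCat.{u + 1}) hz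
      exact AddCommGrpCat.subsingleton_of_isZero ((EtCoh.HF S q).map_isZero hz2)
    · obtain ⟨l, hl, hlM⟩ := Nat.exists_prime_and_dvd h1
      have : Fact l.Prime := ⟨hl⟩
      obtain ⟨x, hx⟩ := exists_prime_addOrderOf_dvd_card' (G := M) l hlM
      have hlp : l = p := by
        have h2 : addOrderOf x ∣ p ^ h := addOrderOf_dvd_of_nsmul_eq_zero (hM x)
        rw [hx] at h2
        exact (Nat.prime_dvd_prime_iff_eq hl hp.out).1 (hl.dvd_of_dvd_pow h2)
      subst hlp
      let H := AddSubgroup.zmultiples x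
      have hH : Nat.card H = l := (Nat.card_zmultiples x).trans hx
      have e : H ≃+ ZMod l := addEquivOfAddCyclicCardEq (by rw [hH, Nat.card_zmod])
      have hs1 : Subsingleton (EtCoh.H S (EtCoh.const S H) q) :=
        subsingleton_of_iso (constIso S e.symm) q (S0103.result S l q hq)
      have h3 : Nat.card (M ⧸ H) ≤ k := by
        have h2 := AddSubgroup.card_eq_card_quotient_mul_card_addSubgroup H
        rw [hH] at h2
        have h3 : 0 < Nat.card (M ⧸ H) := Nat.card_pos
        have h4 := hl.two_le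
        nlinarith
      have hs3 : Subsingleton (EtCoh.H S (EtCoh.const S (M ⧸ H)) q) := by
        refine ih (M ⧸ H) (fun m => ?_) h3
        obtain ⟨m, rfl⟩ := QuotientAddGroup.mk_surjective m
        rw [← QuotientAddGroup.mk_nsmul, hM]
        rfl
      refine subsingleton_of_forall_eq 0 fun y => ?_
      obtain ⟨z, rfl⟩ := Sga7.H762.HConst.exact_mid (Y := S) (n := q) H.subtype
        (QuotientAddGroup.mk' H) H.subtype_injective (QuotientAddGroup.mk'_surjective H)
        (fun y => by
          refine (QuotientAddGroup.eq_zero_iff y).trans ⟨fun hy => ⟨⟨y, hy⟩, rfl⟩, ?_⟩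
          rintro ⟨z, rfl⟩
          exact z.2) y (Subsingleton.elim _ _)
      rw [Subsingleton.elim z 0, map_zero]

theorem main (p : ℕ) [Fact p.Prime] (X : Scheme.{u}) [IsAffine X]
    [ConnectedSpace ↥X] [CharP Γ(X, ⊤) p] (F : EtCoh.Ab X) (hF : EtCoh.IsFiniteLocallyConstant F)
    (h : ℕ) (htor : EtCoh.KilledBy (p ^ h) F) (q : ℕ) (hq : 0 < q) (ζ : HH X F q) :
    KPi1.Kills F q ζ := by
  obtain ⟨q, rfl⟩ : ∃ q', q = q' + 1 := ⟨q - 1, by omega⟩
  obtain rfl | ⟨q, rfl⟩ : q = 0 ∨ ∃ q', q = q' + 1 := by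
    rcases q with _ | q
    · exact Or.inl rfl
    · exact Or.inr ⟨q, rfl⟩
  · obtain ⟨P, h1, h2, h3⟩ := H1Kill.exists_kill_H1 hF (pow_pos (Nat.Prime.pos Fact.out) h) htor ζ
    exact ⟨P.left, P.hom, h1, inferInstance, h2, h3⟩
  · obtain ⟨T, h1, h2, M, _, _, hM, ⟨e⟩⟩ := KPi1.exists_trivialize hF htor
    refine ⟨T.left, T.hom, h1, inferInstance, h2, ?_⟩
    have hX : IsAffine ((Functor.fromPUnit X).obj T.right) := (inferInstance : IsAffine X)
    have : IsAffine T.left := isAffine_of_isAffineHom T.hom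
    have : Nonempty T.left := by
      obtain ⟨x⟩ := (inferInstance : Nonempty X)
      obtain ⟨t, -⟩ := T.hom.surjective x
      exact ⟨t⟩
    have : CharP Γ(T.left, ⊤) p := by
      have h3 : (p : Γ(X, ⊤)) = 0 := CharP.cast_eq_zero _ p
      have h4 : (p : Γ(T.left, ⊤)) = 0 := by
        rw [← map_natCast (Scheme.Hom.appTop T.hom).hom p, h3, map_zero]
      have : Nonempty (⊤ : T.left.Opens) := by
        obtain ⟨t⟩ := this
        exact ⟨⟨t, trivial⟩⟩
      have : Nontrivial Γ(T.left, ⊤) := inferInstance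
      exact (CharP.charP_iff_prime_eq_zero Fact.out).2 h4
    have hs := subsingleton_of_iso e.symm (q + 1 + 1) (H_const_finite T.left p (q + 1 + 1) (by omega) h _ M hM le_rfl)
    exact Subsingleton.elim (α := EtCoh.H T.left ((EtCoh.pull T.hom).obj F) (q + 1 + 1)) _ _

end K720.AffCharP
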