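import Groth.Agent.EtCoh.K720.SplitRho
import Groth.Agent.EtCoh.K611.Om2L
import Groth.Agent.Dual.H366.ConSec

/-!
# Node D2: a functional on the twist which is nonzero on `Ω²` splits the twist
-/

set_option autoImplicit false

universe u

open CategoryTheory CategoryTheory.Limits AlgebraicGeometry Opposite

noncomputable section

namespace K720.Split

open K611.Gam K611.Gam2 K611.Frame K611.Top K611.Om K611.Sh K611.Seq K611.Seq2 K611.Zar K611.Glue K611.Dict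
  K611.Dual K720.Tw K720.Pair K720.Nu K720.Lev1 K720.Equi K720.Loc Groth.Agent.Etbase.ZarEtCoh
  Groth.Agent.Etbase.ZarEtH

variable {X : Scheme.{u}}

section main

variable {p : ℕ} [hp : Fact p.Prime] (h : (p : Γ(X, ⊤)) = 0) {N L : X.Modules} (TN : ModL (omBC p) N)
  (TL : ModL (om2BC p) L) {T : Tor (sh (nuF p) X)} {ι : Type u} {U : ι → X.Opens} {e : ∀ i, T.pt (ob (U i))}
  (S : Sp N L U (phi h TN TL e)) (hU : ⨆ i, U i = ⊤)
  {𝓑 : X.Opens → Prop} (h𝓑 : IsBase X 𝓑) (haff : ∀ V, 𝓑 V → IsAffineOpen V) (hG : ∀ V, 𝓑 V → GoodN p 2 Γ(X, V))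

theorem ab_app {M M' : X.Modules} (f : M ⟶ M') (V : X.Opens) (m : Γ(M, V)) :
    ((ulZ X).map (ab f)).hom.app (op V) (ULift.up m : ULift.{u + 1} ((Coh.toAb M).obj.obj (op V))) =
      (ULift.up (f.app V m) : ULift.{u + 1} ((Coh.toAb M').obj.obj (op V))) := rfl

theorem hom_ext_ul {M : X.Modules} {G : EtZar.Ab X} (α β : (ulZ X).obj (Coh.toAb M) ⟶ G)
    (H : ∀ (V : X.Opens) (m : Γ(M, V)),
      α.hom.app (op V) (ULift.up m : ULift.{u + 1} ((Coh.toAb M).obj.obj (op V))) =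
        β.hom.app (op V) (ULift.up m : ULift.{u + 1} ((Coh.toAb M).obj.obj (op V)))) : α = β := by
  apply Sheaf.hom_ext
  ext V s
  exact H V.unop (ULift.down (show ULift.{u + 1} ((Coh.toAb M).obj.obj (op V.unop)) from s))

include S hU h𝓑 haff hG in
/-- Node D2 for a given twisted module. -/
theorem d2_of_sp
    (hdual : ∀ t : Coh.HH X L 2 →+ ZMod p, t ≠ 0 → ∀ F : X.Modules, Coh.IsQCoh F → Function.Bijective
      (fun φ : F ⟶ L => (t.comp (AddMonoidHom.mk'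
        (fun x => Sheaf.H.map ((SheafOfModules.toSheaf X.ringCatSheaf).map φ) 2 x) (map_add _)) :
          Coh.HH X F 2 →+ ZMod p))) (hL : Coh.IsQCoh L)
    (Λ : EtCoh.H X (GO h T) 2 →+ ZMod p)
    (hΛ : ∃ m : EtCoh.H X (sh Om2F X) 2, Λ (Sheaf.H.map (Tw.ι T (bΩ h)) 2 m) ≠ 0) :
    ∃ ρ : Eqv T ((dlN p).sh h), ∀ x : EtCoh.H X (sh OmF X) 2, Λ (Sheaf.H.map (sg h ρ) 2 x) = 0 := by
  obtain ⟨c, hc⟩ := exists_c (S := S) h hU
  -- compatibility on `L`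
  have hca : (ulZ X).map (ab S.a) ≫ c = (TL.toMod.θ (om2BC p) h).hom ≫ (EtZar.resZar X).map (Tw.ι T (bΩ h)) :=
    hom_ext_ul _ _ fun V l => (hc V (S.a.app V l) _ (Q_a h V l)).trans rfl
  have hcH : ∀ x : Coh.HH X L 2, compH c 2 (Sheaf.H.map (ab S.a) 2 x) =
      Sheaf.H.map (Tw.ι T (bΩ h)) 2 (TL.cmp (om2BC p) h 2 x) := fun x => compH_map _ _ _ _ hca 2 x
  let t : Coh.HH X L 2 →+ ZMod p :=
    (Λ.comp (AddMonoidHom.mk' (fun x => Sheaf.H.map (Tw.ι T (bΩ h)) 2 x) (map_add _))).comp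
      (TL.cmp (om2BC p) h 2).toAddMonoidHom
  have ht : t ≠ 0 := by
    obtain ⟨m, hm⟩ := hΛ
    intro h0
    apply hm
    obtain ⟨x, rfl⟩ := (TL.cmp (om2BC p) h 2).surjective m
    exact DFunLike.congr_fun h0 x
  have hd := hdual t ht
  -- the retraction
  obtain ⟨r, hr⟩ := (hd S.M S.hM).2 (Λ.comp (compH c 2))
  have hr' : ∀ x : Coh.HH X S.M 2, t (Sheaf.H.map (ab r) 2 x) = Λ (compH c 2 x) := fun x => DFunLike.congr_fun hr x
  have hra : S.a ≫ r = 𝟙 L := by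
    apply (hd L hL).1
    ext x
    change t (Sheaf.H.map (ab (S.a ≫ r)) 2 x) = t (Sheaf.H.map (ab (𝟙 L)) 2 x)
    have e1 : ab (S.a ≫ r) = ab S.a ≫ ab r := (SheafOfModules.toSheaf X.ringCatSheaf).map_comp _ _
    have e2 : ab (𝟙 L) = 𝟙 _ := (SheafOfModules.toSheaf X.ringCatSheaf).map_id _
    rw [e1, e2, Sheaf.H.map_comp_apply, Sheaf.H.map_id_apply, hr', hcH]
    rfl
  obtain ⟨ρ, hρ⟩ := exists_rho h S r h𝓑 haff hG
  obtain ⟨R, hR⟩ := exists_eqv h hra h𝓑 haff hG hρ hU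
  obtain ⟨σ, h1, h2, h3⟩ := exists_split h (S := S) (r := r) hra
  have hcs : (ulZ X).map (ab σ) ≫ c = (TN.toMod.θ (omBC p) h).hom ≫ (EtZar.resZar X).map (sg h R) :=
    hom_ext_ul _ _ fun V n => (hc V (σ.app V n) _ (Q_split h hρ R hR h1 h3 V n)).trans rfl
  refine ⟨R, fun x => ?_⟩
  obtain ⟨y, rfl⟩ := (TN.cmp (omBC p) h 2).surjective x
  have e1 : compH c 2 (Sheaf.H.map (ab σ) 2 y) = Sheaf.H.map (sg h R) 2 (TN.cmp (omBC p) h 2 y) :=
    compH_map _ _ _ _ hcs 2 y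
  rw [← e1, ← hr', ← Sheaf.H.map_comp_apply]
  have e2 : ab σ ≫ ab r = 0 := ((SheafOfModules.toSheaf X.ringCatSheaf).map_comp σ r).symm.trans
    ((congrArg ab h2).trans ((SheafOfModules.toSheaf X.ringCatSheaf).map_zero _ _))
  rw [e2]
  change t (((Sheaf.functorH _ 2).map (0 : Coh.toAb N ⟶ Coh.toAb L)).hom y) = 0
  rw [Functor.map_zero]
  exact map_zero t

end main

section final

variable (k : Type u) [Field k] [Finite k] (p : ℕ) [hp : Fact p.Prime] [CharP k p] (X : Scheme.{u})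
  (f : X ⟶ Spec (.of k)) [AlgebraicGeometry.IsIntegral X] [IsProper f] [SmoothOfRelativeDimension 2 f]
  (h : (p : Γ(X, ⊤)) = 0)

omit [AlgebraicGeometry.IsIntegral X] in
/-- Node D2. -/
theorem d2 (L : X.Modules) (hL : ExtPow.IsExtPow 2 (Omega.sheaf f) L) (hLq : Coh.IsQCoh L)
    (hdual : ∀ t : Coh.HH X L 2 →+ ZMod p, t ≠ 0 → ∀ F : X.Modules, Coh.IsQCoh F → Function.Bijective
      (fun φ : F ⟶ L => (t.comp (AddMonoidHom.mk'
        (fun x => Sheaf.H.map ((SheafOfModules.toSheaf X.ringCatSheaf).map φ) 2 x) (map_add _)) :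
          Coh.HH X F 2 →+ ZMod p)))
    (T : Tor (sh (nuF p) X))
    (hT : ∀ x : X, ∃ V : X.Opens, x ∈ V ∧ Nonempty (T.pt ((EtZar.zarToEt X).obj V)))
    (Λ : EtCoh.H X (GO h T) 2 →+ ZMod p)
    (hΛ : ∃ m : EtCoh.H X (sh Om2F X) 2, Λ (Sheaf.H.map (Tw.ι T (bΩ h)) 2 m) ≠ 0) :
    ∃ ρ : Eqv T ((dlN p).sh h), ∀ x : EtCoh.H X (sh OmF X) 2, Λ (Sheaf.H.map (sg h ρ) 2 x) = 0 := by
  choose U hxU he using hT
  let e : ∀ x : X, T.pt (ob (U x)) := fun x => (he x).some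
  have hU : ⨆ x, U x = ⊤ := by
    refine eq_top_iff.2 fun x _ => ?_
    exact TopologicalSpace.Opens.mem_iSup.2 ⟨x, hxU x⟩
  have h𝓑 : IsBase X fun V => IsAffineOpen V ∧ GoodN p 2 Γ(X, V) := fun x U hx => by
    obtain ⟨V, h1, h2, h3, h4⟩ := K611.Charts2.exists_goodN p k X f 2 x U hx
    exact ⟨V, ⟨h1, h4⟩, h2, h3⟩
  obtain ⟨TL⟩ := K611.Om2L.exists_om2L p f hL h
  have hNq : Coh.IsQCoh (Omega.sheaf f) := Groth.Agent.Dual.H366.ConSec.isQCoh_omega f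
  obtain ⟨S⟩ := exists_sp h (omL p f) TL e hNq hLq hU
  exact d2_of_sp h (omL p f) TL S hU h𝓑 (fun V hV => hV.1) (fun V hV => hV.2) hdual hLq Λ hΛ

end final

end K720.Split
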