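import Groth.Agent.Etalg.FLCTorsor
import Groth.Agent.EtpbcB.NKillH
import Groth.Agent.Etcore.RpushLoc
import Groth.Agent.Etcore.IntLam

/-!
# Degree one classes with finite locally constant coefficients die on a finite étale cover

`exists_kill_H1`.
-/

set_option autoImplicit false
universe u
open CategoryTheory CategoryTheory.Limits AlgebraicGeometry Opposite Abelian
open scoped Groth.Agent.Etcore.EtInst
open Groth.Agent.Etcore.EtInst

namespace K720.H1Kill

open Groth.Agent.Etcore.HpullCalc Groth.Agent.Etcore.HQ Groth.Agent.Etcore Groth.Agent.EtpbcB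
open Groth.Agent.Etalg.FLCTorsor

attribute [local instance] Groth.Agent.Etcore.HQ.pfl

variable {Y : Scheme.{u}}

/-- The pullback of a degree zero class is the class of the section. -/
theorem hp_zero_eq_sec {Z : Scheme.{u}} (g : Z ⟶ Y) (Q : EtCoh.Ab Y) (x : HH Y Q 0) :
    hp g Q 0 x = sec Q g (W := EtCoh.top Y) g (Category.comp_id _) (H0 Y Q x) := by
  apply (H0 Z ((EtCoh.pull g).obj Q)).injective
  rw [hp_zero, H0_sec, unitSec_apply]

/-- A degree zero class of the cokernel which lifts on `P` has zero pullback of the connecting class. -/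
theorem hp_comp_extClass_eq_zero {S : ShortComplex (EtCoh.Ab Y)} (hS : S.ShortExact) (P : Y.Etale)
    (x : HH Y S.X₃ 0) (k : EtCoh.sect S.X₂ P)
    (hk : S.g.hom.app (op P) k = S.X₃.obj.map (toTop P).op (H0 Y S.X₃ x)) :
    hp P.hom S.X₁ 1 (Ext.comp x hS.extClass rfl) = 0 := by
  rw [hp_extClass P.hom hS rfl x]
  have h1 : hp P.hom S.X₃ 0 x = map S.g P.hom 0 (sec S.X₂ P.hom (W := P) (𝟙 P.left) (Category.id_comp _) k) := by
    rw [hp_zero_eq_sec, map_sec, hk]
    refine (sec_res S.X₃ P.hom (𝟙 P.left) (Category.id_comp _) (toTop P) P.hom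
      (Category.comp_id _) ?_ (H0 Y S.X₃ x)).symm
    have := MorphismProperty.Over.w (toTop P)
    refine Eq.trans ?_ (Eq.trans (Category.comp_id _).symm this)
    exact Category.id_comp _
  rw [h1]
  exact δ_map hS P.hom 0 _

theorem nsmul_comp' {C : Type*} [Category* C] [Abelian C] [HasExt.{u + 1} C] {A B D : C} (m : ℕ)
    {a b c : ℕ} (x : Ext.{u + 1} A B a) (e : Ext.{u + 1} B D b) (h : a + b = c) :
    (m • x).comp e h = m • x.comp e h :=
  map_nsmul (AddMonoidHom.mk' (fun x : Ext.{u + 1} A B a => x.comp e h)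
    (fun x y => Ext.add_comp x y e h)) m x

theorem exists_kill_H1 {F : EtCoh.Ab Y} (hF : EtCoh.IsFiniteLocallyConstant F) {n : ℕ} (hn : 0 < n)
    (hk : EtCoh.KilledBy n F) (ζ : HH Y F 1) :
    ∃ P : Y.Etale, IsFinite P.hom ∧ Surjective P.hom ∧ hp P.hom F 1 ζ = 0 := by
  have hS := RpushLoc.injSeq_shortExact F
  obtain ⟨x, hx⟩ := NKillH.H_exact₁ hS 0 ζ (Ext.eq_zero_of_injective _)
  have h1 : (n • x).comp hS.extClass (rfl : 0 + 1 = 0 + 1) = 0 := by
    rw [nsmul_comp', hx]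
    exact IntLam.nsmul_H_eq_zero hk 1 ζ
  obtain ⟨t, ht⟩ := Ext.covariant_sequence_exact₃ (EtCoh.const Y ℤ) hS (n • x) (rfl : 0 + 1 = 0 + 1) h1
  obtain ⟨s, hs⟩ := NKillH.H_zero_divisible (RpushLoc.injSeq F).X₂ hn t
  let x' : HH Y (RpushLoc.injSeq F).X₃ 0 := x - HHmap (RpushLoc.injSeq F).g 0 s
  have hx' : Ext.comp x' hS.extClass (rfl : 0 + 1 = 0 + 1) = ζ := by
    have e1 : x' = x + -(HHmap (RpushLoc.injSeq F).g 0 s) := sub_eq_add_neg _ _
    have e2 := NKillH.comp_g_extClass hS s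
    have e3 : Ext.comp (HHmap (RpushLoc.injSeq F).g 0 s) hS.extClass (rfl : 0 + 1 = 0 + 1) = 0 := e2
    refine (congrArg (fun t => Ext.comp t hS.extClass (rfl : 0 + 1 = 0 + 1)) e1).trans ?_
    refine (Ext.add_comp _ _ _ _).trans ?_
    refine (congrArg₂ (fun a b => a + b) hx ((Ext.neg_comp _ _ _).trans (congrArg Neg.neg e3))).trans ?_
    exact (congrArg (fun t => ζ + t) neg_zero).trans (add_zero ζ)
  have hnx : n • H0 Y _ x' = 0 := by
    rw [← map_nsmul, smul_sub, ← map_nsmul, hs, HHmap_apply, ht, sub_self, map_zero]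
  obtain ⟨P, k, hP1, hP2, hk⟩ := exists_finite_lift hn hS hF (H0 Y _ x') hnx
  refine ⟨P, hP1, hP2, ?_⟩
  rw [← hx']
  exact hp_comp_extClass_eq_zero hS P x' k hk

end K720.H1Kill
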