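import Groth.Agent.Etrest.RAcyc
import Groth.Agent.EtpbcB.Acyc
import Mathlib.Algebra.Homology.DerivedCategory.Ext.ExactSequences
import Mathlib.CategoryTheory.Abelian.Refinements
import Mathlib.Algebra.Homology.DerivedCategory.Ext.EnoughInjectives

/-!
# Ext groups of the kernel of an epimorphism of acyclic objects which becomes mono after `R`

`main`: `L ⊣ R`, `R` preserving injectives, `G` acyclic for `R`, `φ : G → G` epi with `R φ` mono.  Then
`Ext^{n+1}(L Z, ker φ) ≃ Ext^n(Z, coker (R φ))`.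
-/

set_option autoImplicit false
universe w w' v v' u u'
open CategoryTheory CategoryTheory.Limits CategoryTheory.Abelian

namespace K720.KerShift

section One

variable {C : Type u} [Category.{v} C] [Abelian C] [HasExt.{w} C]
variable {S : ShortComplex C} (hS : S.ShortExact) (X : C)

include hS

/-- dimension shifting in positive degrees -/
theorem nonempty_shift [Injective S.X₂] (n : ℕ) :
    Nonempty (Ext.{w} X S.X₃ (n + 1) ≃+ Ext.{w} X S.X₁ (n + 2)) := by
  refine ⟨AddEquiv.ofBijective (hS.extClass.postcomp X (rfl : n + 1 + 1 = n + 2)) ⟨?_, ?_⟩⟩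
  · rw [injective_iff_map_eq_zero]
    intro x hx
    obtain ⟨y, hy⟩ := Ext.covariant_sequence_exact₃ X hS x (n₁ := n + 2) rfl hx
    rw [← hy, Ext.eq_zero_of_injective y, Ext.zero_comp]
  · intro x
    obtain ⟨y, hy⟩ := Ext.covariant_sequence_exact₁ X hS x (Ext.eq_zero_of_injective _)
      (n₀ := n + 1) rfl
    exact ⟨y, hy⟩

/-- dimension shifting in degree zero -/
theorem nonempty_shift_zero [Injective S.X₂] :
    Nonempty (Ext.{w} X S.X₃ 0 ⧸ ((Ext.mk₀ S.g).postcomp X (add_zero 0)).range ≃+ Ext.{w} X S.X₁ 1) := by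
  let δ : Ext.{w} X S.X₃ 0 →+ Ext.{w} X S.X₁ 1 := hS.extClass.postcomp X (rfl : 0 + 1 = 1)
  have hker : ((Ext.mk₀ S.g).postcomp X (add_zero 0)).range = δ.ker := by
    ext x
    constructor
    · rintro ⟨y, rfl⟩
      change (y.comp (Ext.mk₀ S.g) (add_zero 0)).comp hS.extClass rfl = 0
      rw [Ext.comp_assoc_of_second_deg_zero, hS.comp_extClass, Ext.comp_zero]
    · intro hx
      obtain ⟨y, hy⟩ := Ext.covariant_sequence_exact₃ X hS x (n₁ := 1) rfl hx
      exact ⟨y, hy⟩
  have hsurj : Function.Surjective δ := by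
    intro x
    obtain ⟨y, hy⟩ := Ext.covariant_sequence_exact₁ X hS x (Ext.eq_zero_of_injective _)
      (n₀ := 0) rfl
    exact ⟨y, hy⟩
  exact ⟨(QuotientAddGroup.quotientAddEquivOfEq hker).trans
    (QuotientAddGroup.quotientKerEquivOfSurjective δ hsurj)⟩

/-- comparison in positive degrees for an injective subobject -/
theorem nonempty_quot [Injective S.X₁] (n : ℕ) :
    Nonempty (Ext.{w} X S.X₂ (n + 1) ≃+ Ext.{w} X S.X₃ (n + 1)) := by
  refine ⟨AddEquiv.ofBijective ((Ext.mk₀ S.g).postcomp X (add_zero (n + 1))) ⟨?_, ?_⟩⟩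
  · rw [injective_iff_map_eq_zero]
    intro x hx
    obtain ⟨y, hy⟩ := Ext.covariant_sequence_exact₂ X hS x hx
    rw [← hy, Ext.eq_zero_of_injective y, Ext.zero_comp]
  · intro x
    obtain ⟨y, hy⟩ := Ext.covariant_sequence_exact₃ X hS x (n₁ := n + 2) rfl
      (Ext.eq_zero_of_injective _)
    exact ⟨y, hy⟩

theorem nonempty_quot_zero [Injective S.X₁] :
    Nonempty (Ext.{w} X S.X₂ 0 ⧸ ((Ext.mk₀ S.f).postcomp X (add_zero 0)).range ≃+ Ext.{w} X S.X₃ 0) := by
  let δ : Ext.{w} X S.X₂ 0 →+ Ext.{w} X S.X₃ 0 := (Ext.mk₀ S.g).postcomp X (add_zero 0)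
  have hker : ((Ext.mk₀ S.f).postcomp X (add_zero 0)).range = δ.ker := by
    ext x
    constructor
    · rintro ⟨y, rfl⟩
      change (y.comp (Ext.mk₀ S.f) (add_zero 0)).comp (Ext.mk₀ S.g) (add_zero 0) = 0
      rw [Ext.comp_assoc_of_second_deg_zero, Ext.mk₀_comp_mk₀, S.zero, Ext.mk₀_zero, Ext.comp_zero]
    · intro hx
      obtain ⟨y, hy⟩ := Ext.covariant_sequence_exact₂ X hS x hx
      exact ⟨y, hy⟩
  have hsurj : Function.Surjective δ := by
    intro x
    obtain ⟨y, hy⟩ := Ext.covariant_sequence_exact₃ X hS x (n₁ := 1) rfl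
      (Ext.eq_zero_of_injective _)
    exact ⟨y, hy⟩
  exact ⟨(QuotientAddGroup.quotientAddEquivOfEq hker).trans
    (QuotientAddGroup.quotientKerEquivOfSurjective δ hsurj)⟩

end One

section Ker

variable {C : Type u} [Category.{v} C] [Abelian C]
variable {G I : C} (φ : G ⟶ G) (ι : G ⟶ I)

/-- `0 → ker φ → I → Q' → 0`. -/
noncomputable abbrev kS : ShortComplex C :=
  ShortComplex.mk (kernel.ι φ ≫ ι) (cokernel.π (kernel.ι φ ≫ ι)) (cokernel.condition _)

theorem kS_shortExact [Mono ι] : (kS φ ι).ShortExact :=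
  { exact := ShortComplex.exact_of_g_is_cokernel _ (cokernelIsCokernel _)
    mono_f := inferInstanceAs (Mono (kernel.ι φ ≫ ι))
    epi_g := inferInstanceAs (Epi (cokernel.π _)) }

variable [Epi φ]

/-- the map `G → Q'` -/
noncomputable def a : G ⟶ cokernel (kernel.ι φ ≫ ι) :=
  (Abelian.epiIsCokernelOfKernel (KernelFork.ofι (kernel.ι φ) (kernel.condition φ))
    (kernelIsKernel φ)).desc (CokernelCofork.ofπ (ι ≫ cokernel.π (kernel.ι φ ≫ ι)) (by
      change kernel.ι φ ≫ ι ≫ _ = 0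
      rw [← Category.assoc, cokernel.condition]))

theorem φ_a : φ ≫ a φ ι = ι ≫ cokernel.π (kernel.ι φ ≫ ι) :=
  (Abelian.epiIsCokernelOfKernel (KernelFork.ofι (kernel.ι φ) (kernel.condition φ))
    (kernelIsKernel φ)).fac (CokernelCofork.ofπ (ι ≫ cokernel.π (kernel.ι φ ≫ ι)) (by
      change kernel.ι φ ≫ ι ≫ _ = 0
      rw [← Category.assoc, cokernel.condition])) WalkingParallelPair.one

/-- `0 → G → G ⊞ I → Q' → 0`. -/
noncomputable abbrev bS : ShortComplex C :=
  ShortComplex.mk (biprod.lift φ ι) (biprod.desc (a φ ι) (-cokernel.π (kernel.ι φ ≫ ι))) (by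
    rw [biprod.lift_desc, φ_a, Preadditive.comp_neg, add_neg_cancel])

theorem bS_shortExact [Mono ι] : (bS φ ι).ShortExact := by
  refine { exact := ?_, mono_f := ?_, epi_g := ?_ }
  · rw [ShortComplex.exact_iff_exact_up_to_refinements]
    intro W x hx
    have hx' : (x ≫ biprod.fst) ≫ a φ ι = (x ≫ biprod.snd) ≫ cokernel.π (kernel.ι φ ≫ ι) := by
      have h1 : x ≫ biprod.desc (a φ ι) (-cokernel.π (kernel.ι φ ≫ ι)) = 0 := hx
      rw [biprod.desc_eq, Preadditive.comp_add, Preadditive.comp_neg, Preadditive.comp_neg,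
        ← sub_eq_add_neg, sub_eq_zero] at h1
      rw [Category.assoc, Category.assoc]
      exact h1
    obtain ⟨W', p, hp, u, hu⟩ := surjective_up_to_refinements_of_epi φ (x ≫ biprod.fst)
    have h2 : (u ≫ ι - p ≫ x ≫ biprod.snd) ≫ cokernel.π (kernel.ι φ ≫ ι) = 0 := by
      rw [Preadditive.sub_comp, Category.assoc, ← φ_a, ← Category.assoc, ← hu, Category.assoc,
        hx', Category.assoc, Category.assoc, Category.assoc, sub_self]
    obtain ⟨s, hs⟩ : ∃ s : W' ⟶ kernel φ, s ≫ (kernel.ι φ ≫ ι) = u ≫ ι - p ≫ x ≫ biprod.snd := by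
      have hE := (kS_shortExact φ ι)
      have hm : Mono (kS φ ι).f := hE.mono_f
      exact ⟨hE.exact.lift _ h2, hE.exact.lift_f _ h2⟩
    refine ⟨W', p, hp, u - s ≫ kernel.ι φ, ?_⟩
    change p ≫ x = (u - s ≫ kernel.ι φ) ≫ biprod.lift φ ι
    apply biprod.hom_ext
    · rw [Category.assoc, Category.assoc, biprod.lift_fst, Preadditive.sub_comp, Category.assoc,
        kernel.condition, comp_zero, sub_zero, hu]
    · rw [Category.assoc, Category.assoc, biprod.lift_snd, Preadditive.sub_comp, Category.assoc,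
        hs, sub_sub_cancel]
  · change Mono (biprod.lift φ ι)
    have : Mono (biprod.lift φ ι ≫ biprod.snd) := by rw [biprod.lift_snd]; infer_instance
    exact mono_of_mono _ biprod.snd
  · change Epi (biprod.desc (a φ ι) (-cokernel.π (kernel.ι φ ≫ ι)))
    have h : biprod.inr ≫ biprod.desc (a φ ι) (-cokernel.π (kernel.ι φ ≫ ι)) =
      -cokernel.π (kernel.ι φ ≫ ι) := biprod.inr_desc _ _
    have : Epi (biprod.inr ≫ biprod.desc (a φ ι) (-cokernel.π (kernel.ι φ ≫ ι))) := by
      rw [h]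
      infer_instance
    exact epi_of_epi biprod.inr _

variable {D : Type u'} [Category.{v'} D] [Abelian D] (R : C ⥤ D) [R.Additive]
  [PreservesFiniteLimits R]

omit [Epi φ] in
theorem mono_map_π [Mono ι] [Mono (R.map φ)] : Mono (R.map (cokernel.π (kernel.ι φ ≫ ι))) := by
  have hE := kS_shortExact φ ι
  have hm : Mono (kS φ ι).f := hE.mono_f
  have h1 : ((kS φ ι).map R).Exact := hE.exact.map_of_mono_of_preservesKernel R hm inferInstance
  have h2 : R.map (kernel.ι φ) = 0 := by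
    rw [← cancel_mono (R.map φ), ← R.map_comp, kernel.condition, R.map_zero, zero_comp]
  refine (h1.mono_g_iff).2 ?_
  change R.map (kernel.ι φ ≫ ι) = 0
  rw [R.map_comp, h2, zero_comp]

variable [HasInjectiveResolutions C] {R} (hG : Groth.Agent.EtpbcB.Acyc.Acyclic R G)

include hG in
theorem shortExact_map [Mono ι] : ((bS φ ι).map R).ShortExact :=
  Groth.Agent.EtpbcB.Acyc.Acyclic.map_shortExact (bS_shortExact φ ι) hG

include hG in
omit [PreservesFiniteLimits R] in
theorem acyclic_Q [Mono ι] [Injective I] : Groth.Agent.EtpbcB.Acyc.Acyclic R (cokernel (kernel.ι φ ≫ ι)) := by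
  have h1 : Groth.Agent.EtpbcB.Acyc.Acyclic R (bS φ ι).X₂ := by
    have hs : (ShortComplex.mk (biprod.inl : G ⟶ G ⊞ I) biprod.snd (by simp)).ShortExact :=
      (ShortComplex.Splitting.ofHasBinaryBiproduct G I).shortExact
    refine Groth.Agent.EtpbcB.Acyc.Acyclic.mid (G := R)
      (S := ShortComplex.mk (biprod.inl : G ⟶ G ⊞ I) biprod.snd (by simp)) hs hG (Groth.Agent.EtpbcB.Acyc.acyclic_of_injective R I)
  exact Groth.Agent.EtpbcB.Acyc.Acyclic.right (bS_shortExact φ ι) hG h1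

include hG in
/-- The map `R Q' → coker (R φ)`. -/
theorem exists_c [Mono ι] [Mono (R.map φ)] :
    ∃ (c : R.obj (cokernel (kernel.ι φ ≫ ι)) ⟶ cokernel (R.map φ))
      (w : R.map (cokernel.π (kernel.ι φ ≫ ι)) ≫ c = 0),
      (ShortComplex.mk (R.map (cokernel.π (kernel.ι φ ≫ ι))) c w).ShortExact := by
  have hT := shortExact_map φ ι hG
  have hTe : Epi (R.map (bS φ ι).g) := hT.epi_g
  let z : R.obj (G ⊞ I) ⟶ cokernel (R.map φ) := R.map biprod.fst ≫ cokernel.π (R.map φ)
  have hz : ((bS φ ι).map R).f ≫ z = 0 := by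
    change R.map (biprod.lift φ ι) ≫ R.map biprod.fst ≫ cokernel.π (R.map φ) = 0
    rw [← Category.assoc, ← R.map_comp, biprod.lift_fst, cokernel.condition]
  let c : R.obj (cokernel (kernel.ι φ ≫ ι)) ⟶ cokernel (R.map φ) :=
    hT.gIsCokernel.desc (CokernelCofork.ofπ z hz)
  have hc : R.map (bS φ ι).g ≫ c = z :=
    hT.gIsCokernel.fac (CokernelCofork.ofπ z hz) WalkingParallelPair.one
  have hg1 : (biprod.inr : I ⟶ G ⊞ I) ≫ (bS φ ι).g = -cokernel.π (kernel.ι φ ≫ ι) :=
    biprod.inr_desc _ _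
  have hg2 : R.map (biprod.inr : I ⟶ G ⊞ I) ≫ R.map (bS φ ι).g =
      -R.map (cokernel.π (kernel.ι φ ≫ ι)) := by
    rw [← R.map_comp, hg1, R.map_neg]
  have w : R.map (cokernel.π (kernel.ι φ ≫ ι)) ≫ c = 0 := by
    rw [← neg_eq_zero, ← Preadditive.neg_comp, ← hg2, Category.assoc, hc]
    change R.map biprod.inr ≫ R.map biprod.fst ≫ cokernel.π (R.map φ) = 0
    rw [← Category.assoc, ← R.map_comp, biprod.inr_fst, R.map_zero, zero_comp]
  refine ⟨c, w, { exact := ?_, mono_f := mono_map_π φ ι R, epi_g := ?_ }⟩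
  · rw [ShortComplex.exact_iff_exact_up_to_refinements]
    intro W y hy
    change y ≫ c = 0 at hy
    obtain ⟨W', p, hp, x, hx⟩ := surjective_up_to_refinements_of_epi (R.map (bS φ ι).g) y
    have h1 : (x ≫ R.map biprod.fst) ≫ cokernel.π (R.map φ) = 0 := by
      have h2 : x ≫ z = 0 := by rw [← hc, ← Category.assoc, ← hx, Category.assoc, hy, comp_zero]
      rw [Category.assoc]
      exact h2
    have hE : (ShortComplex.mk (R.map φ) (cokernel.π (R.map φ)) (cokernel.condition _)).Exact :=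
      ShortComplex.exact_of_g_is_cokernel _ (cokernelIsCokernel _)
    have hm : Mono (ShortComplex.mk (R.map φ) (cokernel.π (R.map φ)) (cokernel.condition _)).f :=
      inferInstanceAs (Mono (R.map φ))
    let t : W' ⟶ R.obj G := hE.lift _ h1
    have ht : t ≫ R.map φ = x ≫ R.map biprod.fst := hE.lift_f _ h1
    refine ⟨W', p, hp, -((x - t ≫ R.map (biprod.lift φ ι)) ≫ R.map biprod.snd), ?_⟩
    change p ≫ y = _ ≫ R.map (cokernel.π (kernel.ι φ ≫ ι))
    rw [Preadditive.neg_comp, ← Preadditive.comp_neg, ← hg2]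
    have h3 : ((x - t ≫ R.map (biprod.lift φ ι)) ≫ R.map biprod.snd) ≫ R.map biprod.inr =
        x - t ≫ R.map (biprod.lift φ ι) := by
      have h4 : (x - t ≫ R.map (biprod.lift φ ι)) ≫ R.map biprod.fst = 0 := by
        rw [Preadditive.sub_comp, Category.assoc, ← R.map_comp, biprod.lift_fst, ht, sub_self]
      have h5 : R.map (biprod.fst ≫ biprod.inl + biprod.snd ≫ biprod.inr : G ⊞ I ⟶ G ⊞ I) = 𝟙 _ := by
        rw [biprod.total, R.map_id]
      rw [R.map_add, R.map_comp, R.map_comp] at h5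
      conv_rhs => rw [← Category.comp_id (x - t ≫ R.map (biprod.lift φ ι)), ← h5]
      rw [Preadditive.comp_add, ← Category.assoc, h4, zero_comp, zero_add, Category.assoc]
    rw [← Category.assoc, h3, Preadditive.sub_comp, ← hx, Category.assoc]
    have h6 : R.map (biprod.lift φ ι) ≫ R.map (bS φ ι).g = 0 := by
      rw [← R.map_comp]
      have : biprod.lift φ ι ≫ (bS φ ι).g = 0 := (bS φ ι).zero
      rw [this, R.map_zero]
    rw [h6, comp_zero, sub_zero]
  · have h7 : Epi (R.map (bS φ ι).g ≫ c) := by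
      rw [hc]
      have : Epi (R.map (biprod.fst : G ⊞ I ⟶ G)) := by
        have : IsSplitEpi (R.map (biprod.fst : G ⊞ I ⟶ G)) :=
          ⟨⟨⟨R.map biprod.inl, by rw [← R.map_comp, biprod.inl_fst, R.map_id]⟩⟩⟩
        infer_instance
      exact epi_comp _ _
    exact epi_of_epi (R.map (bS φ ι).g) c

end Ker

section Main

variable {C : Type u} [Category.{v} C] [Abelian C] [EnoughInjectives C] [HasExt.{w} C]
variable {D : Type u'} [Category.{v'} D] [Abelian D] [HasExt.{w'} D]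
variable {L : D ⥤ C} {R : C ⥤ D} [R.Additive] [PreservesFiniteLimits R] [PreservesFiniteLimits L]
  (adj : L ⊣ R)

include adj in
theorem main {G : C} (hG : ∀ q : ℕ, 0 < q → IsZero ((R.rightDerived q).obj G)) (φ : G ⟶ G) [Epi φ]
    [Mono (R.map φ)] (Z : D) (n : ℕ) :
    Nonempty (Ext.{w} (L.obj Z) (kernel φ) (n + 1) ≃+ Ext.{w'} Z (cokernel (R.map φ)) n) := by
  have hinj : ∀ J : C, Injective J → Injective (R.obj J) := fun J _ =>
    Injective.injective_of_adjoint adj J
  have : L.Additive := adj.left_adjoint_additive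
  let I := Injective.under G
  let ι : G ⟶ I := Injective.ι G
  have hI : Injective I := inferInstance
  have hRI : Injective (R.obj I) := hinj I hI
  let κ := kernel.ι φ ≫ ι
  have hS := kS_shortExact φ ι
  obtain ⟨c, w, hT⟩ := exists_c φ ι (R := R) hG
  have hQ := acyclic_Q φ ι (R := R) hG
  have i1 : Injective (kS φ ι).X₂ := hI
  have i2 : Injective (ShortComplex.mk (R.map (cokernel.π (kernel.ι φ ≫ ι))) c w).X₁ := hRI
  cases n with
  | zero =>
    obtain ⟨e1⟩ := nonempty_shift_zero hS (L.obj Z)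
    obtain ⟨e2⟩ := nonempty_quot_zero hT Z
    refine ⟨e1.symm.trans (AddEquiv.trans ?_ e2)⟩
    let f (A : C) : Ext.{w} (L.obj Z) A 0 ≃+ Ext.{w'} Z (R.obj A) 0 :=
      Ext.addEquiv₀.trans ((adj.homAddEquiv Z A).trans Ext.addEquiv₀.symm)
    have hf0 (A : C) (g : L.obj Z ⟶ A) : f A (Ext.mk₀ g) = Ext.mk₀ (adj.homEquiv Z A g) := by
      have h0 : Ext.addEquiv₀ (Ext.mk₀ g) = g :=
        (Ext.mk₀_bijective _ _).1 (Ext.mk₀_addEquiv₀_apply _)
      change Ext.addEquiv₀.symm (adj.homEquiv Z A (Ext.addEquiv₀ (Ext.mk₀ g))) = _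
      rw [h0]
      rfl
    have hf {A B : C} (g : A ⟶ B) (x : Ext.{w} (L.obj Z) A 0) :
        f B (x.comp (Ext.mk₀ g) (add_zero 0)) = (f A x).comp (Ext.mk₀ (R.map g)) (add_zero 0) := by
      obtain ⟨x, rfl⟩ := (Ext.mk₀_bijective _ _).2 x
      rw [Ext.mk₀_comp_mk₀, hf0, hf0, Ext.mk₀_comp_mk₀, Adjunction.homEquiv_naturality_right]
    refine QuotientAddGroup.congr _ _ (f _) ?_
    ext y
    constructor
    · rintro ⟨x, ⟨z, rfl⟩, rfl⟩
      exact ⟨f _ z, (hf _ z).symm⟩
    · rintro ⟨x, rfl⟩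
      refine ⟨((f _).symm x).comp (Ext.mk₀ (kS φ ι).g) (add_zero 0), ⟨_, rfl⟩, ?_⟩
      refine (hf _ _).trans ?_
      rw [(f _).apply_symm_apply]
      rfl
  | succ n =>
    obtain ⟨e1⟩ := nonempty_shift hS (L.obj Z) n
    obtain ⟨e2⟩ := nonempty_quot hT Z n
    obtain ⟨e3⟩ := Groth.Agent.Etrest.RAcyc.nonempty_extAddEquiv adj hinj hQ Z (n + 1)
    exact ⟨e1.symm.trans (e3.symm.trans e2)⟩

end Main

end K720.KerShift
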