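import Groth.Agent.EtCoh.K720.Nu
import Groth.Agent.EtCoh.K611.Seq2

/-!
# Level one: `ν = G_m/p`, `N = ker(Ω² → Ω²/dΩ¹)`, pairings and twists

* `dlN : ν → Ω¹`, `cg2N = cl2N - gam2N : Ω² → Ω²/dΩ¹`, `Nsh = ker`, `s : Q_p → N`;
* `bOm : ν × Ω¹ → Ω²`, `bQ : ν × Ω¹/dO → Ω²/dΩ¹`, `bN : ν × ν → N`;
* for a torsor `T` under `ν`: `0 → tw T bN → tw T bOm → tw T bQ → 0` is exact.
-/

set_option autoImplicit false

universe u

open CategoryTheory CategoryTheory.Limits AlgebraicGeometry Opposite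

noncomputable section

namespace K720.Lev1

open K611.Gam K611.Gam2 K611.Frame K611.Top K611.Sh K611.Seq K611.Seq2 K720.Sym K720.Tw K720.Pair K720.Nu
  KaehlerDifferential

variable (p : ℕ) [hp : Fact p.Prime]

/-! ### Ring level -/

omit hp in
theorem nsmul_om {B : CommRingCat.{u}} (hB : (p : B) = 0) (x : Ω[B⁄ℤ]) : p • x = 0 := by
  rw [← Nat.cast_smul_eq_nsmul B, hB, zero_smul]

omit hp in
theorem nsmul_om2 {B : CommRingCat.{u}} (hB : (p : B) = 0) (x : Om2 B) : p • x = 0 := by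
  rw [← Nat.cast_smul_eq_nsmul B, hB, zero_smul]

omit hp in
theorem nsmul_q2 {B : CommRingCat.{u}} (hB : (p : B) = 0) (x : Q2 B) : p • x = 0 := by
  obtain ⟨y, rfl⟩ := cl2_surjective B x
  change cl2 (p • y) = 0
  rw [nsmul_om2 p hB, cl2_zero]

theorem cl_dl {B : CommRingCat.{u}} (hB : (p : B) = 0) (v : Bˣ) : cl (dl v) = gam p hB (dl v) :=
  sub_eq_zero.1 (cg_dlog p hB (mkU v))

omit hp in
/-- `dlog : ν → Ω¹`. -/
def dlN : NT.{u} p (nuF p) OmF where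
  app B hB := mlift (dlh B) (fun x => nsmul_om p hB _)
  nat B C _ _ f a := by
    obtain ⟨v, rfl⟩ := cu_surjective a
    exact (omap_dl f.hom v).symm

omit hp in
theorem dlN_cu {B : CommRingCat.{u}} (hB : (p : B) = 0) (v : Bˣ) : (dlN p).app B hB (cu v) = dl v := rfl

/-- `Ω² → Ω²/dΩ¹`, `cl2 - gam2`. -/
def cg2N : NT.{u} p Om2F Q2F := (cl2N p).sub (gam2N p)

/-- `Q_p → Ω²`. -/
def syN : NT.{u} p (QnF p) Om2F where
  app B hB := mlift (A := TnF) (sy (B := B)) (fun x => nsmul_om2 p hB _)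
  nat B C _ _ f a := by
    obtain ⟨v, rfl⟩ := cm_surjective a
    exact (omap2_sy f.hom v).symm

omit hp in
theorem syN_sm {B : CommRingCat.{u}} (hB : (p : B) = 0) (v v' : Bˣ) :
    (syN p).app B hB (sm v v') = w (dl v) (dl v') := sy_sb v v'

theorem cg2_w_dl {B : CommRingCat.{u}} (hB : (p : B) = 0) (v v' : Bˣ) :
    cl2 (w (dl v) (dl v')) - gam2 p hB (w (dl v) (dl v')) = 0 := by
  rw [gam2_w p hB (cl_dl p hB v) (cl_dl p hB v') (d1_dl v'), sub_self]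

theorem cg2_sy {B : CommRingCat.{u}} (hB : (p : B) = 0) (z : (QnF p).obj B) :
    (cg2N p).app B hB ((syN p).app B hB z) = 0 := by
  obtain ⟨y, rfl⟩ := cm_surjective z
  refine tn_induction (B := B) (P := fun y => (cg2N p).app B hB ((syN p).app B hB (cm (A := TnF) y)) = 0) ?_ ?_ ?_ y
  · have : (cm (A := TnF) (m := p) (B := B) (0 : Tn B)) = 0 := map_zero cm
    rw [this, map_zero, map_zero]
  · intro x y hx hy
    have : (cm (A := TnF) (m := p) (B := B) (x + y)) = cm (A := TnF) x + cm (A := TnF) y := map_add cm _ _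
    rw [this, map_add, map_add, hx, hy, add_zero]
  · intro v v'
    change cl2 (sy (sb v v')) - gam2 p hB (sy (sb v v')) = 0
    rw [sy_sb, cg2_w_dl]

/-- `ν × Ω¹ → Ω²`. -/
def bOm : Bi.{u} p (nuF p) OmF Om2F where
  app B hB := mlift ((wB (B := B)).toAddMonoidHom.comp (dlh B) |> fun _ =>
      AddMonoidHom.mk' (fun v => AddMonoidHom.mk' (fun x => w (dl (toU (B := B) v)) x)
        (fun x x' => w_add_right _ _ _))
      (fun v v' => by
        apply AddMonoidHom.ext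
        intro x
        change w (dl (toU v * toU v')) x = w (dl (toU v)) x + w (dl (toU v')) x
        rw [dl_mul, w_add_left]))
    (fun v => by
      apply AddMonoidHom.ext
      intro x
      exact nsmul_om2 p hB _)
  nat B C _ _ f a b := by
    obtain ⟨v, rfl⟩ := cu_surjective a
    change w (dl (Units.map f.hom.toMonoidHom v)) (omap f.hom b) = omap2 f.hom (w (dl v) b)
    rw [omap2_w, omap_dl]

omit hp in
theorem bOm_cu {B : CommRingCat.{u}} (hB : (p : B) = 0) (v : Bˣ) (x : Ω[B⁄ℤ]) :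
    (bOm p).app B hB (cu v) x = w (dl v) x := rfl

/-- `ν × Ω¹/dO → Ω²/dΩ¹`. -/
def bQ : Bi.{u} p (nuF p) QF Q2F where
  app B hB := mlift (AddMonoidHom.mk' (fun v => wq (dl (toU (B := B) v)) (d1_dl _))
      (fun v v' => by
        apply AddMonoidHom.ext
        intro x
        obtain ⟨x, rfl⟩ := cl_surjective B x
        change cl2 (w (dl (toU v * toU v')) x) = cl2 (w (dl (toU v)) x) + cl2 (w (dl (toU v')) x)
        rw [dl_mul, w_add_left]
        rfl))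
    (fun v => by
      apply AddMonoidHom.ext
      intro x
      exact nsmul_q2 p hB _)
  nat B C _ _ f a b := by
    obtain ⟨v, rfl⟩ := cu_surjective a
    obtain ⟨x, rfl⟩ := cl_surjective B b
    change cl2 (w (dl (Units.map f.hom.toMonoidHom v)) (omap f.hom x)) = cl2 (omap2 f.hom (w (dl v) x))
    rw [omap2_w, omap_dl]

omit hp in
theorem bQ_cu {B : CommRingCat.{u}} (hB : (p : B) = 0) (v : Bˣ) (x : Ω[B⁄ℤ]) :
    (bQ p).app B hB (cu v) (cl x) = cl2 (w (dl v) x) := rfl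

omit hp in
theorem bQ_cu' {B : CommRingCat.{u}} (hB : (p : B) = 0) (v : Bˣ) (x : Q B) :
    (bQ p).app B hB (cu v) x = wq (dl v) (d1_dl v) x := rfl

omit hp in
theorem cl2_bOm {B : CommRingCat.{u}} (hB : (p : B) = 0) (a : (nuF p).obj B) (x : Ω[B⁄ℤ]) :
    (cl2N p).app B hB ((bOm p).app B hB a x) = (bQ p).app B hB a ((clN p).app B hB x) := by
  obtain ⟨v, rfl⟩ := cu_surjective a
  rfl

theorem gam2_bOm {B : CommRingCat.{u}} (hB : (p : B) = 0) (a : (nuF p).obj B) (x : Ω[B⁄ℤ]) :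
    (gam2N p).app B hB ((bOm p).app B hB a x) = (bQ p).app B hB a ((gamN p).app B hB x) := by
  obtain ⟨v, rfl⟩ := cu_surjective a
  exact (wq_gam p hB (d1_dl v) (cl_dl p hB v) x).symm

omit hp in
theorem syN_symB {B : CommRingCat.{u}} (hB : (p : B) = 0) (a b : (nuF p).obj B) :
    (syN p).app B hB ((symB p p).app B hB a b) = (bOm p).app B hB a ((dlN p).app B hB b) := by
  obtain ⟨v, rfl⟩ := cu_surjective a
  obtain ⟨v', rfl⟩ := cu_surjective b
  exact syN_sm p hB v v'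

/-! ### Local exactness -/

theorem inj_dlN : LocInj.{u} (Good p) (dlN p) := by
  intro B hg hB y hy q
  obtain ⟨v, rfl⟩ := cu_surjective y
  obtain ⟨C, f, hf, hC, r, hr, z, hz⟩ := exact_p_dlog p B hg hB (mkU v) hy q
  refine ⟨C, f, hf, r, hr, ?_⟩
  change (cm (GmF.map f (mkU v)) : (nuF p).obj C) = 0
  exact cm_eq_zero.2 ⟨z, hz⟩

theorem exact_dlN_cg : LocExact.{u} (Good p) (dlN p) (cgN p) := by
  intro B hg hB y hy q
  obtain ⟨C, f, hf, hC, r, hr, z, hz⟩ := exact_dlog_cg p B hg hB y hy q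
  exact ⟨C, f, hf, hC, r, hr, cm z, hz⟩

theorem dlN_cg {B : CommRingCat.{u}} (hB : (p : B) = 0) (a : (nuF p).obj B) :
    (cgN p).app B hB ((dlN p).app B hB a) = 0 := by
  obtain ⟨v, rfl⟩ := cu_surjective a
  exact cg_dlog p hB (mkU v)

omit hp in
/-- A unit with the same differential. -/
theorem exists_unit_coord {B : CommRingCat.{u}} (hB : (p : B) = 0) (x : B) (q : PrimeSpectrum B) :
    ∃ (C : CommRingCat.{u}) (f : B ⟶ C) (_ : f.hom.Etale) (_ : (p : C) = 0) (r : PrimeSpectrum C),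
      PrimeSpectrum.comap f.hom r = q ∧ ∃ v : Cˣ, D ℤ C v.val = omap f.hom (D ℤ B x) := by
  obtain ⟨x', hx', hr'⟩ : ∃ x' : B, D ℤ B x' = D ℤ B x ∧ x' ∉ q.asIdeal := by
    by_cases h : x ∈ q.asIdeal
    · refine ⟨x + 1, ?_, fun h' => ?_⟩
      · rw [map_add (D ℤ B), Derivation.map_one_eq_zero, add_zero]
      · exact q.isPrime.ne_top ((Ideal.eq_top_iff_one _).2 ((Ideal.add_mem_iff_right _ h).1 h'))
    · exact ⟨_, rfl, h⟩
  obtain ⟨C, f, hf, r, hr, hu⟩ := exists_away B x' q hr'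
  refine ⟨C, f, hf, cast_zero_of_hom p f hB, r, hr, hu.unit, ?_⟩
  rw [← hx', omap_D]
  rfl

theorem surj_cg2 : LocSurj.{u} (GoodN p 2) (cg2N p) := by
  rintro B ⟨hchar, F, hF⟩ hB y q
  obtain ⟨z, rfl⟩ := cl2_surjective B y
  obtain ⟨C, f, hf, hC, r, hr, v, hv⟩ := exists_unit_coord p hB (F.x 0) q
  obtain ⟨C₁, f₁, hf₁, hC₁, r₁, hr₁, v', hv'⟩ := exists_unit_coord p hC (f.hom (F.x 1)) r
  let v₁ : C₁ˣ := Units.map f₁.hom.toMonoidHom v
  obtain ⟨C₂, f₂, hf₂, r₂, hr₂, b, hb⟩ := exists_sol p C₁ hC₁ (v₁ * v') (f₁ (f (det F z))) r₁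
  have hC₂ := cast_zero_of_hom p f₂ hC₁
  have e1 : D ℤ C₁ v₁.val = omap f₁.hom (omap f.hom (D ℤ B (F.x 0))) := by
    rw [← hv, omap_D]
    rfl
  have e2 : D ℤ C₁ v'.val = omap f₁.hom (omap f.hom (D ℤ B (F.x 1))) := by
    rw [hv', omap_D f.hom]
  refine ⟨C₂, f ≫ f₁ ≫ f₂, ?_, hC₂, r₂, ?_, b • w (D ℤ C₂ (f₂.hom v₁.val)) (D ℤ C₂ (f₂.hom v'.val)), ?_⟩
  · exact etale_comp f.hom (f₂.hom.comp f₁.hom) hf (etale_comp f₁.hom f₂.hom hf₁ hf₂)
  · change PrimeSpectrum.comap f.hom (PrimeSpectrum.comap f₁.hom (PrimeSpectrum.comap f₂.hom r₂)) = q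
    rw [hr₂, hr₁, hr]
  · change cl2 (b • w (D ℤ C₂ (f₂.hom v₁.val)) (D ℤ C₂ (f₂.hom v'.val))) -
      gam2 p hC₂ (b • w (D ℤ C₂ (f₂.hom v₁.val)) (D ℤ C₂ (f₂.hom v'.val))) =
      qmap2 (f ≫ f₁ ≫ f₂).hom (cl2 z)
    rw [gam2_D, ← cl2_sub, ← sub_smul2, qmap2_cl2]
    congr 1
    have e3 : b - b ^ p * f₂.hom v₁.val ^ (p - 1) * f₂.hom v'.val ^ (p - 1) = f₂.hom (f₁ (f (det F z))) := by
      rw [mul_assoc, ← mul_pow, ← map_mul]
      exact hb
    rw [e3]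
    have e4 : omap2 (f ≫ f₁ ≫ f₂).hom z = omap2 f₂.hom (omap2 f₁.hom (omap2 f.hom z)) := by
      have h1 := DFunLike.congr_fun (omap2_comp f.hom (f₂.hom.comp f₁.hom)) z
      have h2 := DFunLike.congr_fun (omap2_comp f₁.hom f₂.hom) (omap2 f.hom z)
      exact h1.trans h2
    rw [e4]
    conv_rhs => rw [eq_det F z]
    rw [omap2_smul, omap2_smul, omap2_smul, vol, omap2_w, omap2_w, omap2_w, ← e1, ← e2, omap_D, omap_D]

end K720.Lev1
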