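import Groth.Agent.EtCoh.K720.Lev1

/-!
# Level one: sheaves, pairings and twists
-/

set_option autoImplicit false

universe u

open CategoryTheory CategoryTheory.Limits AlgebraicGeometry Opposite

noncomputable section

namespace K720.Lev1

open K611.Gam K611.Gam2 K611.Frame K611.Top K611.Sh K611.Seq K611.Seq2 K720.Sym K720.Tw K720.Pair K720.Nu
  KaehlerDifferential

variable {p : ℕ} [hp : Fact p.Prime] {X : Scheme.{u}} (h : (p : Γ(X, ⊤)) = 0)

/-- `N = ker(cl2 - gam2)`. -/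
def Nsh : EtCoh.Ab X := kernel ((cg2N p).sh (X := X) h)

/-- The inclusion. -/
def Nι : Nsh h ⟶ sh Om2F X := kernel.ι _

instance : Mono (Nι h) := inferInstanceAs (Mono (kernel.ι _))

theorem Nι_cg2 : Nι h ≫ (cg2N p).sh h = 0 := kernel.condition _

theorem syN_cg2 : (syN p).sh (X := X) h ≫ (cg2N p).sh h = 0 := by
  rw [← NT.sh_comp]
  exact NT.sh_eq_zero _ _ fun B hB z => cg2_sy p hB z

/-- `dlog ∧ dlog : Q_1 → N`. -/
def s : sh (QnF p) X ⟶ Nsh h := kernel.lift _ ((syN p).sh h) (syN_cg2 h)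

theorem s_Nι : s h ≫ Nι h = (syN p).sh h := kernel.lift_ι _ _ _

/-- `N → Ω² → Ω²/dΩ¹`. -/
def seqN : ShortComplex (EtCoh.Ab X) := ShortComplex.mk (Nι h) ((cg2N p).sh h) (Nι_cg2 h)

theorem seqN_shortExact (hX : HasCharts X (GoodN p 2)) : (seqN (X := X) h).ShortExact where
  exact := ShortComplex.exact_kernel _
  mono_f := inferInstanceAs (Mono (Nι h))
  epi_g := epi_sh hX h _ (surj_cg2 p)

theorem dlN_cgN : (dlN p).sh (X := X) h ≫ (cgN p).sh h = 0 := by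
  rw [← NT.sh_comp]
  exact NT.sh_eq_zero _ _ fun B hB z => dlN_cg p hB z

/-- `ν → Ω¹ → Ω¹/dO`. -/
def seqNu : ShortComplex (EtCoh.Ab X) := ShortComplex.mk ((dlN p).sh h) ((cgN p).sh h) (dlN_cgN h)

theorem seqNu_shortExact (hX : HasCharts X (Good p)) : (seqNu (X := X) h).ShortExact where
  exact := exact_sh hX h _ _ _ (exact_dlN_cg p)
  mono_f := mono_sh hX h _ (inj_dlN p)
  epi_g := epi_sh hX h _ (surj_cg p)

theorem mono_dlN (hX : HasCharts X (Good p)) : Mono ((dlN p).sh (X := X) h) := (seqNu_shortExact h hX).mono_f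

/-- Composition of a pairing with a map. -/
def _root_.K720.Tw.Pairing.cmp {A B C C' : EtCoh.Ab X} (β : Pairing A B C) (φ : C ⟶ C') : Pairing A B C' where
  app U := AddMonoidHom.mk' (fun a => (ap φ U).comp (β.app U a)) (fun a a' => by rw [map_add, AddMonoidHom.comp_add])
  nat k a b := by
    change ap φ _ (β.app _ (rs A k a) (rs B k b)) = rs C' k (ap φ _ (β.app _ a b))
    rw [β.nat, ap_rs]

/-- `ν × ν → N`. -/
def bN : Pairing (sh (nuF p) X) (sh (nuF p) X) (Nsh h) := ((symB p p).sh h).cmp (s h)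

/-- `ν × Ω¹ → Ω²`. -/
abbrev bΩ : Pairing (sh (nuF p) X) (sh OmF X) (sh Om2F X) := (bOm p).sh h

/-- `ν × Ω¹/dO → Ω²/dΩ¹`. -/
abbrev bq : Pairing (sh (nuF p) X) (sh QF X) (sh Q2F X) := (bQ p).sh h

theorem Nι_bN (U : X.Etale) (a b : EtCoh.sect (sh (nuF p) X) U) :
    ap (Nι h) U ((bN h).app U a b) = (bΩ h).app U a (ap ((dlN p).sh h) U b) := by
  change ap (Nι h) U (ap (s h) U (((symB p p).sh h).app U a b)) = _
  rw [← ap_comp, s_Nι]
  exact Bi.sh_compat _ _ _ _ h (fun R hR a b => syN_symB p hR a b) U a b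

omit hp in
theorem cl2_bΩ (U : X.Etale) (a : EtCoh.sect (sh (nuF p) X) U) (b : EtCoh.sect (sh OmF X) U) :
    ap ((cl2N p).sh h) U ((bΩ h).app U a b) = (bq h).app U a (ap ((clN p).sh h) U b) :=
  Bi.sh_compat _ _ _ _ h (fun R hR a b => cl2_bOm p hR a b) U a b

theorem gam2_bΩ (U : X.Etale) (a : EtCoh.sect (sh (nuF p) X) U) (b : EtCoh.sect (sh OmF X) U) :
    ap ((gam2N p).sh h) U ((bΩ h).app U a b) = (bq h).app U a (ap ((gamN p).sh h) U b) :=
  Bi.sh_compat _ _ _ _ h (fun R hR a b => gam2_bOm p hR a b) U a b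

/-! ### The twists -/

variable (T : Tor (sh (nuF p) X))

/-- The twist of `(ν, N)`. -/
abbrev WN : EtCoh.Ab X := tw T (bN h)
/-- The twist of `(Ω¹, Ω²)`. -/
abbrev GO : EtCoh.Ab X := tw T (bΩ h)
/-- The twist of `(Ω¹/dO, Ω²/dΩ¹)`. -/
abbrev GQ : EtCoh.Ab X := tw T (bq h)

/-- `tw(ν, N) → tw(Ω¹, Ω²)`. -/
def jW : WN h T ⟶ GO h T := Tw.map T _ _ ((dlN p).sh h) (Nι h) (Nι_bN h)
/-- `cl` on the twists. -/
def clG : GO h T ⟶ GQ h T := Tw.map T _ _ ((clN p).sh h) ((cl2N p).sh h) (cl2_bΩ h)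
/-- `gam` on the twists. -/
def gmG : GO h T ⟶ GQ h T := Tw.map T _ _ ((gamN p).sh h) ((gam2N p).sh h) (gam2_bΩ h)

variable {T}

omit hp in
theorem ev_clG {U : X.Etale} (g : T.pt U) (z : EtCoh.sect (GO h T) U) :
    ev T _ g (ap (clG h T) U z) = ap ((cl2N p).sh h) U (ev T _ g z) := rfl
theorem ev_gmG {U : X.Etale} (g : T.pt U) (z : EtCoh.sect (GO h T) U) :
    ev T _ g (ap (gmG h T) U z) = ap ((gam2N p).sh h) U (ev T _ g z) := rfl
omit hp in
theorem π_clG {U : X.Etale} (z : EtCoh.sect (GO h T) U) :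
    ap (π T (bq h)) U (ap (clG h T) U z) = ap ((clN p).sh h) U (ap (π T _) U z) := rfl
theorem π_gmG {U : X.Etale} (z : EtCoh.sect (GO h T) U) :
    ap (π T (bq h)) U (ap (gmG h T) U z) = ap ((gamN p).sh h) U (ap (π T _) U z) := rfl
theorem ev_jW {U : X.Etale} (g : T.pt U) (z : EtCoh.sect (WN h T) U) :
    ev T _ g (ap (jW h T) U z) = ap (Nι h) U (ev T _ g z) := rfl
theorem π_jW {U : X.Etale} (z : EtCoh.sect (WN h T) U) :
    ap (π T (bΩ h)) U (ap (jW h T) U z) = ap ((dlN p).sh h) U (ap (π T _) U z) := rfl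

variable (T)

/-- `cl - gam` on the twists. -/
def cgG : GO h T ⟶ GQ h T := clG h T - gmG h T

variable {T}

theorem ap_sub {F G : EtCoh.Ab X} (φ ψ : F ⟶ G) (U : X.Etale) (z : EtCoh.sect F U) :
    ap (φ - ψ) U z = ap φ U z - ap ψ U z := rfl

theorem ap_cgN (U : X.Etale) (z : EtCoh.sect (sh OmF X) U) :
    ap ((cgN p).sh h) U z = ap ((clN p).sh h) U z - ap ((gamN p).sh h) U z := by
  rw [cgN, NT.sh_sub, ap_sub]

theorem ap_cg2N (U : X.Etale) (z : EtCoh.sect (sh Om2F X) U) :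
    ap ((cg2N p).sh h) U z = ap ((cl2N p).sh h) U z - ap ((gam2N p).sh h) U z := by
  rw [cg2N, NT.sh_sub, ap_sub]

theorem ev_cgG {U : X.Etale} (g : T.pt U) (z : EtCoh.sect (GO h T) U) :
    ev T _ g (ap (cgG h T) U z) = ap ((cg2N p).sh h) U (ev T _ g z) := by
  rw [cgG, ap_sub, map_sub, ev_clG, ev_gmG, ap_cg2N]

theorem π_cgG {U : X.Etale} (z : EtCoh.sect (GO h T) U) :
    ap (π T (bq h)) U (ap (cgG h T) U z) = ap ((cgN p).sh h) U (ap (π T _) U z) := by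
  rw [cgG, ap_sub, map_sub, π_clG, π_gmG, ap_cgN]

omit hp in
theorem exists_pt {U : X.Etale} (x : U.left) :
    ∃ (V : X.Etale) (k : V ⟶ U) (v : V.left), k.left v = x ∧ Nonempty (T.pt V) := by
  obtain ⟨V, k, v, hv, g, hg⟩ := T.loc U x
  exact ⟨V, k, v, hv, ⟨⟨g, hg⟩⟩⟩

theorem jW_cgG : jW h T ≫ cgG h T = 0 := by
  refine K720.Tw.hom_ext fun U z => ?_
  refine Groth.Agent.Etbase.EtSite.sect_eq_zero _ U _ fun x => ?_
  obtain ⟨V, k, v, hv, ⟨g⟩⟩ := exists_pt (T := T) x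
  refine ⟨V, k, v, hv, ?_⟩
  change rs _ k (ap (jW h T ≫ cgG h T) U z) = 0
  rw [← ap_rs, ap_comp]
  refine tw_ext_pt (T := T) (β := bq h) g ?_ ?_
  · rw [π_cgG, π_jW, ← ap_comp, dlN_cgN, map_zero]
    rfl
  · rw [ev_cgG, ev_jW, ← ap_comp, Nι_cg2, map_zero]
    rfl

variable (T)

/-- `tw(ν, N) → tw(Ω¹, Ω²) → tw(Ω¹/dO, Ω²/dΩ¹)`. -/
def seqG : ShortComplex (EtCoh.Ab X) := ShortComplex.mk (jW h T) (cgG h T) (jW_cgG h)

theorem exists_local {F G : EtCoh.Ab X} (φ : F ⟶ G) [Epi φ] (U : X.Etale) (s : EtCoh.sect G U) (x : U.left) :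
    ∃ (V : X.Etale) (g : V ⟶ U) (v : V.left), g.left v = x ∧ ∃ t : EtCoh.sect F V, ap φ V t = rs G g s := by
  obtain ⟨V, g, ⟨v, hv⟩, t, ht⟩ := (Groth.Agent.Dix.EtaleSieve.epi_iff φ).1 inferInstance U s x
  exact ⟨V, g, v, hv, t, ht⟩

/-- Lifting of sections in an exact sequence with a monomorphism. -/
theorem exists_of_exact (S : ShortComplex (EtCoh.Ab X)) (hS : S.Exact) [Mono S.f] (V : X.Etale)
    (y : EtCoh.sect S.X₂ V) (hy : ap S.g V y = 0) : ∃ x, ap S.f V x = y := by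
  have e1 : (S.map (sheafToPresheaf X.smallEtaleTopology AddCommGrpCat.{u + 1})).Exact :=
    hS.map_of_mono_of_preservesKernel _ inferInstance inferInstance
  have e2 : ((S.map (sheafToPresheaf X.smallEtaleTopology AddCommGrpCat.{u + 1})).map
      ((evaluation _ _).obj (op V))).Exact := e1.map _
  exact (ShortComplex.ab_exact_iff _).1 e2 _ hy

theorem seqG_shortExact (hX : HasCharts X (GoodN p 2)) : (seqG h T).ShortExact where
  exact := by
    have hX' : HasCharts X (Good p) := fun U x => by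
      obtain ⟨V, g, v, h1, h2, h3⟩ := hX U x
      exact ⟨V, g, v, h1, h2, h3.good⟩
    refine Groth.Agent.CurvesA.ArtinSchreier.exact_of_local _ fun U z hz x => ?_
    have hz : ap (cgG h T) U z = 0 := hz
    obtain ⟨V, k, v, hv, ⟨g⟩⟩ := exists_pt (T := T) x
    have := mono_dlN h hX'
    have : Mono (seqNu (X := X) h).f := (seqNu_shortExact h hX').mono_f
    have : Mono (seqN (X := X) h).f := (seqN_shortExact h hX).mono_f
    have hz' : ap (cgG h T) V (rs (GO h T) k z) = 0 := by rw [ap_rs, hz, map_zero]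
    have h1 : ap ((cgN p).sh h) V (ap (π T (bΩ h)) V (rs (GO h T) k z)) = 0 := by rw [← π_cgG, hz', map_zero]
    have h2 : ap ((cg2N p).sh h) V (ev T (bΩ h) g (rs (GO h T) k z)) = 0 := by rw [← ev_cgG, hz', map_zero]
    obtain ⟨b, hb⟩ := exists_of_exact _ (seqNu_shortExact h hX').exact V _ h1
    obtain ⟨c, hc⟩ := exists_of_exact _ (seqN_shortExact h hX).exact V _ h2
    refine ⟨V, k, ⟨v, hv⟩, ofPt T (bN h) g b c, ?_⟩
    refine tw_ext_pt (T := T) (β := bΩ h) g ?_ ?_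
    · exact hb
    · refine Eq.trans ?_ hc
      change ev T _ g (ap (jW h T) V (ofPt T (bN h) g b c)) = _
      rw [ev_jW, ev_ofPt]
      rfl
  mono_f := by
    have hX' : HasCharts X (Good p) := fun U x => by
      obtain ⟨V, g, v, h1, h2, h3⟩ := hX U x
      exact ⟨V, g, v, h1, h2, h3.good⟩
    have := mono_dlN h hX'
    refine Groth.Agent.CurvesA.ArtinSchreier.mono_of_injective _ fun U z hz => ?_
    have hz : ap (jW h T) U z = 0 := hz
    refine Groth.Agent.Etbase.EtSite.sect_eq_zero _ U _ fun x => ?_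
    obtain ⟨V, k, v, hv, ⟨g⟩⟩ := exists_pt (T := T) x
    refine ⟨V, k, v, hv, ?_⟩
    change rs _ k z = 0
    have hz' : ap (jW h T) V (rs (WN h T) k z) = 0 := by rw [ap_rs, hz, map_zero]
    have h1 : ap ((dlN p).sh h) V (ap (π T (bN h)) V (rs (WN h T) k z)) = 0 := by rw [← π_jW, hz', map_zero]
    have h2 : ap (Nι h) V (ev T (bN h) g (rs (WN h T) k z)) = 0 := by rw [← ev_jW, hz', map_zero]
    refine tw_ext_pt (T := T) (β := bN h) g ?_ ?_
    · exact (ap_injective _ V (h1.trans (map_zero _).symm)).trans (map_zero _).symm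
    · exact (ap_injective _ V (h2.trans (map_zero _).symm)).trans (map_zero _).symm
  epi_g := by
    have hX' : HasCharts X (Good p) := fun U x => by
      obtain ⟨V, g, v, h1, h2, h3⟩ := hX U x
      exact ⟨V, g, v, h1, h2, h3.good⟩
    have : Epi ((cgN p).sh (X := X) h) := (seqNu_shortExact h hX').epi_g
    have : Epi ((cg2N p).sh (X := X) h) := (seqN_shortExact h hX).epi_g
    refine (Groth.Agent.Dix.EtaleSieve.epi_iff _).2 fun U y x => ?_
    obtain ⟨V, k, v, hv, ⟨g⟩⟩ := exists_pt (T := T) x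
    obtain ⟨V₁, k₁, v₁, hv₁, t₁, ht₁⟩ := exists_local ((cgN p).sh h) V (ap (π T _) V (rs _ k y)) v
    obtain ⟨V₂, k₂, v₂, hv₂, t₂, ht₂⟩ := exists_local ((cg2N p).sh h) V₁ (rs _ k₁ (ev T _ g (rs _ k y))) v₁
    refine ⟨V₂, k₂ ≫ k₁ ≫ k, ⟨v₂, ?_⟩, ofPt T (bΩ h) (T.rp k₂ (T.rp k₁ g)) (rs _ k₂ t₁) t₂, ?_⟩
    · change (k₂.left ≫ k₁.left ≫ k.left) v₂ = x
      rw [Scheme.Hom.comp_apply, Scheme.Hom.comp_apply, hv₂, hv₁, hv]
    · refine tw_ext_pt (T := T) (β := bq h) (T.rp k₂ (T.rp k₁ g)) ?_ ?_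
      · refine (π_cgG h _).trans ?_
        change ap ((cgN p).sh h) V₂ (rs _ k₂ t₁) = ap (π T (bq h)) V₂ (rs (GQ h T) (k₂ ≫ k₁ ≫ k) y)
        rw [ap_rs, ht₁, rs_comp, rs_comp, ap_rs (π T (bq h)), ap_rs (π T (bq h)), ap_rs (π T (bq h)), ap_rs (π T (bq h))]
      · refine (ev_cgG h _ _).trans ?_
        rw [ev_ofPt, ht₂]
        change _ = ev T (bq h) _ (rs (GQ h T) (k₂ ≫ k₁ ≫ k) y)
        rw [rs_comp, rs_comp, ev_rs, ev_rs]

end K720.Lev1
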