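import Groth.Agent.EtCoh.K720.KPi1
import Groth.Agent.Sga5.ProjCoh
import Groth.Agent.Etcore.OpenClosed
import Groth.Agent.S0073
import Mathlib.RingTheory.RootsOfUnity.AlgebraicallyClosed

/-!
# The cohomology of `j_! μ_ℓ` on the affine line, `j` the complement of finitely many rational points
-/

set_option autoImplicit false
universe u
open CategoryTheory CategoryTheory.Limits AlgebraicGeometry Opposite Abelian Polynomial
open scoped Groth.Agent.Etcore.EtInst
open Groth.Agent.Etcore.EtInst

namespace K720.LinePunct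

open Groth.Agent Groth.Agent.Etcore.HpullCalc Groth.Agent.Sga4B.ConstLC

section SES

variable {Z U X : Scheme.{u}} (i : Z ⟶ X) [IsClosedImmersion i] (j : U ⟶ X)
    [IsOpenImmersion j] [AlgebraicGeometry.Etale j] [EtShriek.JCont j]
    (hd : IsCompl (Set.range i) (Set.range j)) (N : Type (u + 1)) [AddCommGroup N]

include hd in
/-- `0 → j_! G → N_X → i_* N_Z → 0` with explicit second map -/
theorem exists_ses (G : EtCoh.Ab U) (e : LC U N ≅ G) :
    ∃ (a : (EtShriek.extZero j).obj G ⟶ LC X N) (w : a ≫ LCres i N = 0),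
      (ShortComplex.mk a (LCres i N) w).ShortExact := by
  have hS := Etcore.OpenClosed.shortExact i j hd (LC X N)
  let e1 : (EtShriek.extZero j).obj ((EtShriek.restrAlong j).obj (LC X N)) ≅
      (EtShriek.extZero j).obj G :=
    (EtShriek.extZero j).mapIso ((Etcore.ShriekBasic.pullIsoRestr j).symm.app _ ≪≫
      asIso (LCpull j N) ≪≫ e)
  let e3 : (EtCoh.push i).obj ((EtCoh.pull i).obj (LC X N)) ≅ (EtCoh.push i).obj (LC Z N) :=
    (EtCoh.push i).mapIso (asIso (LCpull i N))
  have hu : (EtCoh.pullPushAdj i).unit.app (LC X N) ≫ e3.hom = LCres i N := unit_LCpull i N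
  refine ⟨e1.inv ≫ (EtShriek.extZeroAdj j).counit.app (LC X N), ?_, ?_⟩
  · have h0 := Etcore.OpenClosed.counit_unit i j hd.disjoint (LC X N)
    rw [← hu, Category.assoc, ← Category.assoc ((EtShriek.extZeroAdj j).counit.app _), h0,
      Limits.zero_comp, Limits.comp_zero]
  · refine ShortComplex.shortExact_of_iso ?_ hS
    exact ShortComplex.isoMk e1 (Iso.refl _) e3 (by
      change e1.hom ≫ e1.inv ≫ (EtShriek.extZeroAdj j).counit.app (LC X N) =
        (EtShriek.extZeroAdj j).counit.app (LC X N) ≫ 𝟙 _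
      rw [e1.hom_inv_id_assoc, Category.comp_id]) (by
      change 𝟙 _ ≫ LCres i N = (EtCoh.pullPushAdj i).unit.app (LC X N) ≫ e3.hom
      rw [Category.id_comp, hu])

end SES

section LES

variable {X : Scheme.{u}} {S : ShortComplex (EtCoh.Ab X)} (hS : S.ShortExact)

include hS

theorem subsingleton_succ (n : ℕ) (h2 : Subsingleton (HH X S.X₂ (n + 1)))
    (h3 : Subsingleton (HH X S.X₃ n)) : Subsingleton (HH X S.X₁ (n + 1)) := by
  apply subsingleton_of_forall_eq 0
  intro x
  obtain ⟨y, rfl⟩ := Ext.covariant_sequence_exact₁ (EtCoh.const X ℤ) hS x (Subsingleton.elim (α := HH X S.X₂ (n+1)) _ _) rfl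
  rw [Subsingleton.elim (α := HH X S.X₃ n) y 0, Ext.zero_comp]

theorem subsingleton_zero (h : Function.Injective (S.g.hom.app (op (EtCoh.top X)))) :
    Subsingleton (HH X S.X₁ 0) := by
  have := hS.mono_f
  apply subsingleton_of_forall_eq 0
  intro x
  obtain ⟨x, rfl⟩ := (Ext.mk₀_bijective _ _).2 x
  have h1 : x ≫ S.f = 0 := by
    have h2 : HHmap S.f 0 (Ext.mk₀ x) = 0 := by
      apply (H0 X S.X₂).injective
      rw [map_zero]
      apply h
      rw [← H0_map, map_zero, ← HHmap_comp, S.zero]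
      have h3 : HHmap (0 : S.X₁ ⟶ S.X₃) 0 (Ext.mk₀ x) = 0 := by
        rw [HHmap_apply, Ext.mk₀_zero, Ext.comp_zero]
      rw [h3, map_zero]
    rw [HHmap_apply, Ext.mk₀_comp_mk₀] at h2
    exact (Ext.mk₀_bijective _ _).1 (h2.trans (Ext.mk₀_zero _ _).symm)
  have h4 : x = 0 := by rw [← cancel_mono S.f, h1, Limits.zero_comp]
  rw [h4, Ext.mk₀_zero]

theorem nonempty_one (h2 : Subsingleton (HH X S.X₂ 1)) :
    Nonempty (EtCoh.sect S.X₃ (EtCoh.top X) ⧸ (S.g.hom.app (op (EtCoh.top X))).hom.range ≃+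
      HH X S.X₁ 1) := by
  let δ : EtCoh.sect S.X₃ (EtCoh.top X) →+ HH X S.X₁ 1 :=
    (hS.extClass.postcomp (EtCoh.const X ℤ) (rfl : 0 + 1 = 1)).comp (H0 X S.X₃).symm.toAddMonoidHom
  have hker : (S.g.hom.app (op (EtCoh.top X))).hom.range = δ.ker := by
    ext x
    constructor
    · rintro ⟨y, rfl⟩
      obtain ⟨y, rfl⟩ := (H0 X S.X₂).surjective y
      change Ext.comp ((H0 X S.X₃).symm (S.g.hom.app (op (EtCoh.top X)) (H0 X S.X₂ y))) hS.extClass
        (rfl : 0 + 1 = 1) = 0
      rw [← H0_map, AddEquiv.symm_apply_apply, HHmap_apply]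
      refine (Ext.comp_assoc_of_second_deg_zero _ _ _ _).trans ?_
      rw [hS.comp_extClass, Ext.comp_zero]
    · intro hx
      obtain ⟨y, hy⟩ := Ext.covariant_sequence_exact₃ (EtCoh.const X ℤ) hS ((H0 X S.X₃).symm x)
        (n₁ := 1) rfl hx
      refine ⟨H0 X S.X₂ y, ?_⟩
      refine (H0_map S.g y).symm.trans ?_
      rw [HHmap_apply, hy]
      exact AddEquiv.apply_symm_apply _ _
  have hsurj : Function.Surjective δ := by
    intro x
    obtain ⟨y, hy⟩ := Ext.covariant_sequence_exact₁ (EtCoh.const X ℤ) hS x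
      (Subsingleton.elim (α := HH X S.X₂ 1) _ _) (n₀ := 0) rfl
    refine ⟨H0 X S.X₃ y, ?_⟩
    change Ext.comp ((H0 X S.X₃).symm (H0 X S.X₃ y)) hS.extClass (rfl : 0 + 1 = 1) = x
    rw [AddEquiv.symm_apply_apply]
    exact hy
  exact ⟨(QuotientAddGroup.quotientAddEquivOfEq hker).trans
    (QuotientAddGroup.quotientKerEquivOfSurjective δ hsurj)⟩

end LES

section Quot

variable {X Z : Scheme.{u}} (i : Z ⟶ X) (N : Type (u + 1)) [AddCommGroup N]

omit [AddCommGroup N] in
theorem eq_const_of_connected {W : Type u} [TopologicalSpace W] [PreconnectedSpace W]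
    (f : LocallyConstant W N) (w w' : W) : f w = f w' :=
  f.isLocallyConstant.apply_eq_of_isPreconnected isPreconnected_univ trivial trivial

/-- the points of `Z ×_X X` -/
theorem exists_equiv {m : ℕ} (e : Fin (m + 1) ≃ Z) :
    Nonempty (Fin (m + 1) ≃ ((EtCoh.bc i).obj (EtCoh.top X)).left) := by
  have h1 : IsIso (pullback.snd (𝟙 X) i) := inferInstance
  let φ : ((EtCoh.bc i).obj (EtCoh.top X)).left ≅ Z := @asIso _ _ _ _ (pullback.snd (𝟙 X) i) h1
  exact ⟨e.trans (Scheme.homeoOfIso φ).symm.toEquiv⟩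

theorem discrete_bc [DiscreteTopology Z] :
    DiscreteTopology ((EtCoh.bc i).obj (EtCoh.top X)).left := by
  have h1 : IsIso (pullback.snd (𝟙 X) i) := inferInstance
  let φ : ((EtCoh.bc i).obj (EtCoh.top X)).left ≅ Z := @asIso _ _ _ _ (pullback.snd (𝟙 X) i) h1
  exact (Scheme.homeoOfIso φ).symm.discreteTopology

theorem injective_LCres [PreconnectedSpace X] (z : Z) :
    Function.Injective ((LCres i N).hom.app (op (EtCoh.top X))) := by
  have h1 : IsIso (pullback.snd (𝟙 X) i) := inferInstance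
  let φ : ((EtCoh.bc i).obj (EtCoh.top X)).left ≅ Z := @asIso _ _ _ _ (pullback.snd (𝟙 X) i) h1
  let w : ((EtCoh.bc i).obj (EtCoh.top X)).left := φ.inv z
  intro f g h
  let f' : LocallyConstant X N := f
  let g' : LocallyConstant X N := g
  have h2 : f' ((pullback.fst (EtCoh.top X).hom i) w) = g' ((pullback.fst (EtCoh.top X).hom i) w) :=
    DFunLike.congr_fun (F := LocallyConstant ((EtCoh.bc i).obj (EtCoh.top X)).left N) h w
  have h3 : f' = g' := by
    ext x
    rw [eq_const_of_connected N f' x ((pullback.fst (EtCoh.top X).hom i) w), h2]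
    exact eq_const_of_connected N g' _ _
  exact h3

theorem nonempty_quot [PreconnectedSpace X] [DiscreteTopology Z] {m : ℕ} (e : Fin (m + 1) ≃ Z) :
    Nonempty (EtCoh.sect ((EtCoh.push i).obj (LC Z N)) (EtCoh.top X) ⧸
      ((LCres i N).hom.app (op (EtCoh.top X))).hom.range ≃+ (Fin m → N)) := by
  obtain ⟨e'⟩ := exists_equiv (X := X) i e
  have hdisc := discrete_bc (X := X) i
  let W := ((EtCoh.bc i).obj (EtCoh.top X)).left
  let Θ : LocallyConstant W N →+ (Fin m → N) :=
    { toFun := fun h t => h (e' t.succ) - h (e' 0)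
      map_zero' := by
        ext t
        exact sub_self _
      map_add' := fun g h => by
        ext t
        change (g _ + h _) - (g _ + h _) = (g _ - g _) + (h _ - h _)
        abel }
  have hΘ : ∀ h t, Θ h t = h (e' t.succ) - h (e' 0) := fun _ _ => rfl
  have hker : ((LCres i N).hom.app (op (EtCoh.top X))).hom.range = Θ.ker := by
    ext h
    constructor
    · rintro ⟨f, rfl⟩
      refine funext fun t => ?_
      let f' : LocallyConstant X N := f
      exact sub_eq_zero.2 (eq_const_of_connected N f' ((pullback.fst (EtCoh.top X).hom i) (e' t.succ))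
        ((pullback.fst (EtCoh.top X).hom i) (e' 0)))
    · intro h0
      let h' : LocallyConstant W N := h
      have h1 : ∀ s : Fin (m + 1), h' (e' s) = h' (e' 0) := by
        intro s
        refine Fin.cases rfl (fun t => ?_) s
        exact sub_eq_zero.1 (congrFun h0 t)
      refine ⟨(LocallyConstant.const X (h' (e' 0)) : LocallyConstant X N), ?_⟩
      have h2 : LocallyConstant.const W (h' (e' 0)) = h' := by
        ext w
        obtain ⟨s, rfl⟩ := e'.surjective w
        exact (h1 s).symm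
      exact h2
  have hsurj : Function.Surjective Θ := by
    intro g
    let F : W → N := fun w => (Fin.cons 0 g : Fin (m + 1) → N) (e'.symm w)
    refine ⟨⟨F, IsLocallyConstant.of_discrete F⟩, funext fun t => ?_⟩
    rw [hΘ]
    change (Fin.cons 0 g : Fin (m + 1) → N) (e'.symm (e' t.succ)) -
      (Fin.cons 0 g : Fin (m + 1) → N) (e'.symm (e' 0)) = g t
    rw [e'.symm_apply_apply, e'.symm_apply_apply, Fin.cons_succ, Fin.cons_zero, sub_zero]
  exact ⟨(QuotientAddGroup.quotientAddEquivOfEq hker).trans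
    (QuotientAddGroup.quotientKerEquivOfSurjective Θ hsurj)⟩

end Quot

section Points

variable {k : Type u} [Field k] {r : ℕ} (a : Fin r → k)

/-- the polynomial with zeros the given points -/
noncomputable def pol : k[X] := Finset.univ.prod fun t => (X - C (a t))

theorem monic_pol : (pol a).Monic := monic_prod_of_monic _ _ fun t _ => monic_X_sub_C (a t)

/-- the closed subscheme -/
noncomputable abbrev Zs : Scheme.{u} := Spec (CommRingCat.of (k[X] ⧸ Ideal.span {pol a}))

/-- the closed immersion -/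
noncomputable abbrev im : Zs a ⟶ Spec (CommRingCat.of k[X]) :=
  Spec.map (CommRingCat.ofHom (Ideal.Quotient.mk (Ideal.span {pol a})))

instance : IsClosedImmersion (im a) :=
  IsClosedImmersion.spec_of_quotient_mk (R := CommRingCat.of k[X]) (Ideal.span {pol a})

theorem range_im : Set.range (im a) = PrimeSpectrum.zeroLocus {pol a} := by
  have h := _root_.range_comap_of_surjective _ (Ideal.Quotient.mk (Ideal.span {pol a}))
    Ideal.Quotient.mk_surjective
  rw [Ideal.mk_ker, PrimeSpectrum.zeroLocus_span] at h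
  exact h

/-- the points -/
noncomputable def pt (t : Fin r) : Spec (CommRingCat.of k[X]) :=
  ⟨Ideal.span {X - C (a t)}, (Ideal.span_singleton_prime (X_sub_C_ne_zero (a t))).2 (prime_X_sub_C (a t))⟩

theorem isMaximal_pt (t : Fin r) : (Ideal.span {X - C (a t)} : Ideal k[X]).IsMaximal :=
  PrincipalIdealRing.isMaximal_of_irreducible (irreducible_X_sub_C (a t))

theorem isClosed_pt (t : Fin r) : IsClosed ({pt a t} : Set (Spec (CommRingCat.of k[X]))) :=
  (PrimeSpectrum.isClosed_singleton_iff_isMaximal (pt a t)).2 (isMaximal_pt a t)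

theorem mem_zeroLocus_iff (x : PrimeSpectrum k[X]) :
    x ∈ PrimeSpectrum.zeroLocus {pol a} ↔ ∃ t, x = pt a t := by
  rw [PrimeSpectrum.mem_zeroLocus, Set.singleton_subset_iff, SetLike.mem_coe, pol,
    Ideal.IsPrime.prod_mem_iff]
  constructor
  · rintro ⟨t, -, ht⟩
    refine ⟨t, ?_⟩
    apply PrimeSpectrum.ext
    refine ((isMaximal_pt a t).eq_of_le x.2.ne_top ?_).symm
    rwa [Ideal.span_singleton_le_iff_mem]
  · rintro ⟨t, rfl⟩
    exact ⟨t, Finset.mem_univ _, Ideal.mem_span_singleton_self _⟩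

theorem pt_injective (ha : Function.Injective a) : Function.Injective (pt a) := by
  intro s t h
  have h1 : (Ideal.span {X - C (a s)} : Ideal k[X]) = Ideal.span {X - C (a t)} :=
    congrArg PrimeSpectrum.asIdeal h
  have h2 : (X - C (a s) : k[X]) ∈ (Ideal.span {X - C (a t)} : Ideal k[X]) := by
    rw [← h1]
    exact Ideal.mem_span_singleton_self _
  rw [Ideal.mem_span_singleton, dvd_iff_isRoot] at h2
  have h3 : a t - a s = 0 := by simpa using h2
  exact ha (sub_eq_zero.1 h3).symm

theorem nonempty_equiv (ha : Function.Injective a) : Nonempty (Fin r ≃ Zs a) := by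
  have hinj : Function.Injective (im a) := (im a).isClosedEmbedding.injective
  have h1 : ∀ t, pt a t ∈ Set.range (im a) := by
    intro t
    rw [range_im]
    exact (mem_zeroLocus_iff a _).2 ⟨t, rfl⟩
  choose g hg using h1
  refine ⟨Equiv.ofBijective g ⟨fun s t h => ?_, fun z => ?_⟩⟩
  · apply pt_injective a ha
    rw [← hg, ← hg, h]
  · have h2 : im a z ∈ Set.range (im a) := ⟨z, rfl⟩
    rw [range_im] at h2
    obtain ⟨t, ht⟩ := (mem_zeroLocus_iff a _).1 h2
    refine ⟨t, hinj ?_⟩
    rw [hg]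
    exact ht.symm

theorem discrete_Zs (ha : Function.Injective a) : DiscreteTopology (Zs a) := by
  obtain ⟨e⟩ := nonempty_equiv a ha
  have : Finite (Zs a) := Finite.of_equiv _ e
  have : T1Space (Zs a) := by
    refine ⟨fun z => ?_⟩
    have h2 : im a z ∈ Set.range (im a) := ⟨z, rfl⟩
    rw [range_im] at h2
    obtain ⟨t, ht⟩ := (mem_zeroLocus_iff a _).1 h2
    have h3 : ({z} : Set (Zs a)) = im a ⁻¹' {im a z} := by
      ext w
      constructor
      · rintro rfl
        rfl
      · intro h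
        exact (im a).isClosedEmbedding.injective h
    rw [h3, ht]
    exact (isClosed_pt a t).preimage (im a).continuous
  infer_instance

theorem isFinite_Zs : IsFinite (Spec.map (CommRingCat.ofHom
    (algebraMap k (k[X] ⧸ Ideal.span {pol a})))) := by
  rw [IsFinite.SpecMap_iff]
  have := (monic_pol a).finite_quotient
  exact (RingHom.finite_algebraMap.2 this)

/-- The cohomology of a finite scheme over a separably closed field vanishes. -/
theorem subsingleton_HH_finite [IsSepClosed k] {Z : Scheme.{u}} (p : Z ⟶ Spec (CommRingCat.of k))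
    [IsFinite p] (F : EtCoh.Ab Z) (q : ℕ) (hq : 0 < q) : Subsingleton (HH Z F q) := by
  apply subsingleton_of_forall_eq 0
  intro x
  obtain ⟨η, rfl⟩ := KPi1.exists_push p F q x
  have h1 : Subsingleton (HH _ ((EtCoh.push p).obj F) q) :=
    Etrest.SHPoint.subsingleton_H_of_sepClosed k ((EtCoh.push p).obj F) q hq
  rw [Subsingleton.elim (α := HH _ ((EtCoh.push p).obj F) q) η 0, map_zero, map_zero]

theorem subsingleton_HH_push {X Z : Scheme.{u}} (i : Z ⟶ X) [IsFinite i] (F : EtCoh.Ab Z) (q : ℕ)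
    (h : Subsingleton (HH Z F q)) : Subsingleton (HH X ((EtCoh.push i).obj F) q) := by
  have := Sga4A.EtSplit.preservesFiniteColimits_push i
  exact (Sga5.H854.PushConst.bijective_pl_id i F q).1.subsingleton

/-- The cohomology of the affine line. -/
theorem subsingleton_HH_line [IsSepClosed k] (n : ℕ) (hn : (n : k) ≠ 0) (q : ℕ) (hq : 0 < q) :
    Subsingleton (HH (Spec (CommRingCat.of k[X])) (LC _ (ULift.{u + 1} (ZMod n))) q) := by
  let e : Spec (CommRingCat.of (MvPolynomial (Fin 1) k)) ≅ Spec (CommRingCat.of k[X]) :=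
    Scheme.Spec.mapIso
      (MvPolynomial.uniqueAlgEquiv k (Fin 1)).toRingEquiv.toCommRingCatIso.symm.op
  obtain ⟨e1⟩ := Etrest.HConstIso.nonempty_HConst e (ZMod n) q
  have h1 := Sga5.ProjCoh.subsingleton_H_spec k n hn 1 q hq
  have h2 : Subsingleton (HH (Spec (CommRingCat.of k[X])) (EtCoh.const _ (ZMod n)) q) :=
    e1.toEquiv.subsingleton
  exact (HHmap_bijective (constIso (Spec (CommRingCat.of k[X])) (ZMod n)).inv q).1.subsingleton

theorem nonempty_roots [IsAlgClosed k] (n : ℕ) (hn : (n : k) ≠ 0) :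
    Nonempty (ULift.{u + 1} (ZMod n) ≃+ Additive (rootsOfUnity n k)) := by
  have : NeZero (n : k) := ⟨hn⟩
  have : NeZero n := ⟨by rintro rfl; simp at hn⟩
  have h1 : Nat.card (Additive (rootsOfUnity n k)) = n :=
    HasEnoughRootsOfUnity.natCard_rootsOfUnity k n
  have h2 : IsAddCyclic (Additive (rootsOfUnity n k)) := inferInstance
  let e := zmodAddCyclicAddEquiv h2
  rw [h1] at e
  exact ⟨AddEquiv.ulift.trans e⟩

end Points

section Main

variable {k : Type u} [Field k] [IsAlgClosed k]

theorem main (ℓ : ℕ) (hℓ : (ℓ : k) ≠ 0) (m : ℕ) (a : Fin (m + 1) → k) (ha : Function.Injective a)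
    {U : Scheme.{u}} (j : U ⟶ Spec (CommRingCat.of k[X])) [IsOpenImmersion j]
    [AlgebraicGeometry.Etale j] [EtShriek.JCont j]
    (hj : j.opensRange = (Spec (CommRingCat.of k[X])).basicOpen
      ((Scheme.ΓSpecIso (CommRingCat.of k[X])).inv (pol a))) :
    (∀ s : ℕ, s ≠ 1 → Subsingleton (HH (Spec (CommRingCat.of k[X]))
      ((EtShriek.extZero j).obj (EtCoh.mu U ℓ)) s)) ∧
      Nonempty (HH (Spec (CommRingCat.of k[X])) ((EtShriek.extZero j).obj (EtCoh.mu U ℓ)) 1 ≃+
        (Fin m → Additive (rootsOfUnity ℓ k))) := by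
  let X := Spec (CommRingCat.of k[X])
  let N := ULift.{u + 1} (ZMod ℓ)
  let i : Zs a ⟶ X := im a
  have hd : IsCompl (Set.range i) (Set.range j) := by
    have h1 : Set.range j = (PrimeSpectrum.basicOpen (pol a) : Set (PrimeSpectrum k[X])) := by
      have h2 := congrArg (SetLike.coe (B := X)) hj
      rw [Scheme.Hom.coe_opensRange] at h2
      rw [h2, basicOpen_eq_of_affine]
      rfl
    have h3 : Set.range i = PrimeSpectrum.zeroLocus {pol a} := range_im a
    rw [h1, h3, PrimeSpectrum.basicOpen_eq_zeroLocus_compl]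
    exact isCompl_compl
  obtain ⟨e0⟩ := Sga5.ProjCoh.nonempty_const_mu k (j ≫ Spec.map (CommRingCat.ofHom (C : k →+* k[X]))) ℓ hℓ
  obtain ⟨b, w, hS⟩ := exists_ses i j hd N (EtCoh.mu U ℓ) ((constIso U (ZMod ℓ)).symm ≪≫ e0)
  have := isFinite_Zs a
  have hZ : ∀ q, 0 < q → Subsingleton (HH X ((EtCoh.push i).obj (LC (Zs a) N)) q) := fun q hq =>
    subsingleton_HH_push i _ q (subsingleton_HH_finite (Spec.map (CommRingCat.ofHom
    (algebraMap k (k[X] ⧸ Ideal.span {pol a})))) _ q hq)
  have hX : ∀ q, 0 < q → Subsingleton (HH X (LC X N) q) := fun q hq => subsingleton_HH_line ℓ hℓ q hq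
  obtain ⟨e⟩ := nonempty_equiv a ha
  have hc : PreconnectedSpace X := inferInstance
  have := discrete_Zs a ha
  constructor
  · intro s hs
    rcases s with _ | _ | s
    · exact subsingleton_zero hS (injective_LCres i N (e 0))
    · exact absurd rfl hs
    · exact subsingleton_succ hS (s + 1) (hX _ (Nat.succ_pos _)) (hZ _ (Nat.succ_pos _))
  · obtain ⟨e1⟩ := nonempty_one hS (hX 1 one_pos)
    obtain ⟨e2⟩ := nonempty_quot i N e
    obtain ⟨e3⟩ := nonempty_roots (k := k) ℓ hℓ
    exact ⟨e1.symm.trans (e2.trans (AddEquiv.piCongrRight fun _ => e3))⟩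

end Main

end K720.LinePunct
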