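import Groth.Agent.EtCoh.K720.Equi
import Groth.Agent.EtCoh.K611.Dual
import Groth.Agent.CohqB.QC2

/-!
# Local sections of `sh OmF` as linear maps `Ω¹ → Ω²` of Zariski modules

`th` : sections of a Zariski module computed by `A` as étale sections of `sh A`; `wl ω` : the linear map `Γ(N, V) → Γ(L, V)`
attached to a section `ω` of `sh OmF X` over `V`; `exists_wl` : every natural family of linear maps over the opens
contained in `W` comes from a section over `W`.
-/

set_option autoImplicit false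

universe u

open CategoryTheory CategoryTheory.Limits AlgebraicGeometry Opposite

noncomputable section

namespace K720.Loc

open K611.Gam K611.Gam2 K611.Frame K611.Top K611.Om K611.Sh K611.Seq K611.Seq2 K611.Zar K611.Glue K611.Dict
  K611.Dual K720.Tw K720.Pair K720.Nu K720.Lev1 K720.Equi KaehlerDifferential

variable {X : Scheme.{u}} {p : ℕ}

/-- An open as an object of the étale site. -/
abbrev ob (V : X.Opens) : X.Etale := (EtZar.zarToEt X).obj V

/-- The inclusion. -/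
def inc {V W : X.Opens} (i : W ≤ V) : ob W ⟶ ob V := (EtZar.zarToEt X).map (homOfLE i)

theorem inc_comp {V W Z : X.Opens} (i : W ≤ V) (j : Z ≤ W) : inc j ≫ inc i = inc (j.trans i) :=
  ((EtZar.zarToEt X).map_comp (homOfLE j) (homOfLE i)).symm

theorem inc_refl {V : X.Opens} (i : V ≤ V) : inc i = 𝟙 (ob V) := (EtZar.zarToEt X).map_id V

/-- Restriction of sections of a module. -/
abbrev re (F : X.Modules) {V W : X.Opens} (i : W ≤ V) : Γ(F, V) →+ Γ(F, W) := Groth.Agent.CohqB.QC2.res F i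

section th

variable {A : CommRingCat.{u} ⥤ AddCommGrpCat.{u}} {F : X.Modules} {hA : BCF p A} (h : (p : Γ(X, ⊤)) = 0)
  (T : ModL hA F)

/-- Sections of the module as étale sections. -/
def th (V : X.Opens) : Γ(F, V) →+ EtCoh.sect (sh A X) (ob V) :=
  (((T.toMod.θ hA h).hom.hom.app (op V)).hom : ULift.{u + 1} ((Coh.toAb F).obj.obj (op V)) →+ _).comp
    (AddEquiv.ulift.{u, u + 1}.symm.toAddMonoidHom)

theorem th_bijective (V : X.Opens) : Function.Bijective (th h T V) := by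
  have h1 : Function.Bijective ((T.toMod.θ hA h).hom.hom.app (op V)) := by
    have : IsIso ((T.toMod.θ hA h).hom.hom.app (op V)) := by
      have : IsIso (T.toMod.θ hA h).hom.hom :=
        inferInstanceAs (IsIso ((sheafToPresheaf _ _).map (T.toMod.θ hA h).hom))
      infer_instance
    exact (ConcreteCategory.isIso_iff_bijective _).1 this
  exact h1.comp (AddEquiv.ulift.{u, u + 1}.symm.bijective)

theorem th_re {V W : X.Opens} (i : W ≤ V) (m : Γ(F, V)) : th h T W (re F i m) = rs _ (inc i) (th h T V m) :=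
  ConcreteCategory.congr_hom ((T.toMod.θ hA h).hom.hom.naturality (homOfLE i).op)
    (ULift.up m : ULift.{u + 1} ((Coh.toAb F).obj.obj (op V)))

theorem th_tt (V : X.Opens) (a : A.obj Γ(X, V)) : th h T V (T.tt V a) = bV A X V a := θ_t T.toMod hA h V a

/-- The inverse. -/
def ht (V : X.Opens) : EtCoh.sect (sh A X) (ob V) →+ Γ(F, V) :=
  (AddEquiv.ofBijective (th h T V) (th_bijective h T V)).symm.toAddMonoidHom

theorem th_ht (V : X.Opens) (s : EtCoh.sect (sh A X) (ob V)) : th h T V (ht h T V s) = s :=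
  (AddEquiv.ofBijective (th h T V) (th_bijective h T V)).apply_symm_apply s

theorem ht_th (V : X.Opens) (s : Γ(F, V)) : ht h T V (th h T V s) = s :=
  (AddEquiv.ofBijective (th h T V) (th_bijective h T V)).symm_apply_apply s

theorem ht_re {V W : X.Opens} (i : W ≤ V) (s : EtCoh.sect (sh A X) (ob V)) :
    ht h T W (rs _ (inc i) s) = re F i (ht h T V s) := by
  apply (th_bijective h T W).1
  rw [th_ht, th_re, th_ht]

theorem ht_bV (V : X.Opens) (a : A.obj Γ(X, V)) : ht h T V (bV A X V a) = T.tt V a := by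
  rw [← th_tt h, ht_th]

end th

/-- Sections of modules agreeing on affine opens are equal. -/
theorem ext_aff (F : X.Modules) {V : X.Opens} (s t : Γ(F, V))
    (H : ∀ (W : X.Opens) (i : W ≤ V), IsAffineOpen W → re F i s = re F i t) : s = t :=
  ext_base (Coh.toAb F) (isBase_affine X) (U := V) s t fun W i hW => H W i.le hW

section wl

variable {A A' A'' : CommRingCat.{u} ⥤ AddCommGrpCat.{u}} {hA' : BCF p A'} {hA'' : BCF p A''}
  (β : Bi p A A' A'') (h : (p : Γ(X, ⊤)) = 0) {N L : X.Modules} (T' : ModL hA' N) (T'' : ModL hA'' L)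

/-- The pairing on sections over an open. -/
theorem sh_bV (V : X.Opens) (a : A.obj Γ(X, V)) (b : A'.obj Γ(X, V)) :
    (β.sh h).app (ob V) (bV A X V a) (bV A' X V b) = bV A'' X V (β.app _ (Mod.cast_eq_zero h V) a b) := by
  refine (Bi.sh_un β h (ob V) _ _).trans ?_
  exact congrArg (un A'' (ob V)) (β.nat _ _ _ _ V.topIso.inv a b)

/-- The additive map attached to a section. -/
def wa {V : X.Opens} (ω : EtCoh.sect (sh A X) (ob V)) : Γ(N, V) →+ Γ(L, V) :=
  (ht h T'' V).comp (((β.sh h).app (ob V) ω).comp (th h T' V))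

theorem th_wa {V : X.Opens} (ω : EtCoh.sect (sh A X) (ob V)) (n : Γ(N, V)) :
    th h T'' V (wa β h T' T'' ω n) = (β.sh h).app (ob V) ω (th h T' V n) := th_ht h T'' V _

theorem re_wa {V W : X.Opens} (i : W ≤ V) (ω : EtCoh.sect (sh A X) (ob V)) (n : Γ(N, V)) :
    re L i (wa β h T' T'' ω n) = wa β h T' T'' (rs _ (inc i) ω) (re N i n) := by
  apply (th_bijective h T'' W).1
  rw [th_re, th_wa, th_wa, th_re, (β.sh h).nat]

theorem wa_bV (V : X.Opens) (a : A.obj Γ(X, V)) (b : A'.obj Γ(X, V)) :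
    wa β h T' T'' (bV A X V a) (T'.tt V b) = T''.tt V (β.app _ (Mod.cast_eq_zero h V) a b) := by
  apply (th_bijective h T'' V).1
  rw [th_wa, th_tt, th_tt, sh_bV]

/-- Linearity. -/
def Lin (β : Bi p A A' A'') (hA' : BCF p A') (hA'' : BCF p A'') : Prop :=
  ∀ (B : CommRingCat.{u}) (hB : (p : B) = 0) (a : A.obj B) (r : B) (b : A'.obj B),
    β.app B hB a (K611.Dict.sm hA' hB r b) = K611.Dict.sm hA'' hB r (β.app B hB a b)

variable {β} in
theorem wa_smul (hA : BCF p A) (hβ : Lin β hA' hA'') {V : X.Opens} (ω : EtCoh.sect (sh A X) (ob V)) (r : Γ(X, V))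
    (n : Γ(N, V)) : wa β h T' T'' ω (r • n) = r • wa β h T' T'' ω n := by
  refine ext_aff L _ _ fun W i hW => ?_
  rw [re_wa]
  change wa β h T' T'' _ (N.presheaf.map (homOfLE i).op (r • n)) = L.presheaf.map (homOfLE i).op (r • _)
  rw [res_smul, res_smul]
  have e1 : L.presheaf.map (homOfLE i).op (wa β h T' T'' ω n) =
      wa β h T' T'' (rs _ (inc i) ω) (N.presheaf.map (homOfLE i).op n) := re_wa β h T' T'' i ω n
  rw [e1]
  obtain ⟨b, hb⟩ := (T'.tt_bij W hW).2 (N.presheaf.map (homOfLE i).op n)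
  obtain ⟨a, ha⟩ := (bV_bijective hA h W hW).2 (rs _ (inc i) ω)
  have hW0 := Mod.cast_eq_zero h W
  rw [← hb, ← ha, ← T'.tt_lin W hW0, wa_bV, wa_bV, hβ, T''.tt_lin]

/-- The linear map attached to a section. -/
def wl (hA : BCF p A) (hβ : Lin β hA' hA'') {V : X.Opens} (ω : EtCoh.sect (sh A X) (ob V)) :
    Γ(N, V) →ₗ[Γ(X, V)] Γ(L, V) where
  toFun := wa β h T' T'' ω
  map_add' := map_add _
  map_smul' r n := wa_smul h T' T'' hA hβ ω r n

/-- Linear pairings, perfect on a class of rings. -/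
structure LBi (hA' : BCF p A') (hA'' : BCF p A'') (G : CommRingCat.{u} → Prop) (β : Bi p A A' A'') : Prop where
  lin : Lin β hA' hA''
  bij : ∀ (B : CommRingCat.{u}) (hB : (p : B) = 0), G B → ∀ φ : A'.obj B →+ A''.obj B,
    (∀ r b, φ (K611.Dict.sm hA' hB r b) = K611.Dict.sm hA'' hB r (φ b)) → ∃ a, ∀ b, φ b = β.app B hB a b
  inj : ∀ (B : CommRingCat.{u}) (hB : (p : B) = 0), G B → ∀ a : A.obj B, (∀ b, β.app B hB a b = 0) → a = 0

variable {β} in
/-- Natural families of linear maps come from sections. -/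
theorem exists_wl {G : CommRingCat.{u} → Prop} (hβ : LBi hA' hA'' G β) {𝓑 : X.Opens → Prop} (h𝓑 : IsBase X 𝓑)
    (haff : ∀ V, 𝓑 V → IsAffineOpen V) (hG : ∀ V, 𝓑 V → G Γ(X, V)) (W : X.Opens)
    (φ : ∀ V : X.Opens, V ≤ W → (Γ(N, V) →ₗ[Γ(X, V)] Γ(L, V)))
    (nat : ∀ (V V' : X.Opens) (hV : V ≤ W) (i : V' ≤ V) (n : Γ(N, V)),
      re L i (φ V hV n) = φ V' (i.trans hV) (re N i n)) :
    ∃ ω : EtCoh.sect (sh A X) (ob W), ∀ (V : X.Opens) (hV : V ≤ W) (n : Γ(N, V)),
      wa β h T' T'' (rs _ (inc hV) ω) n = φ V hV n := by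
  have h1 : ∀ (V : X.Opens), V ≤ W → 𝓑 V → ∃ a : A.obj Γ(X, V), ∀ (hV : V ≤ W) (b : A'.obj Γ(X, V)),
      φ V hV (T'.tt V b) = T''.tt V (β.app _ (Mod.cast_eq_zero h V) a b) := by
    intro V hVW hV
    let e := AddEquiv.ofBijective (T''.tt V) (T''.tt_bij V (haff V hV))
    have he : ∀ s, T''.tt V (e.symm s) = s := fun s => e.apply_symm_apply s
    obtain ⟨a, ha⟩ := hβ.bij _ (Mod.cast_eq_zero h V) (hG V hV)
      ((e.symm.toAddMonoidHom.comp (φ V hVW).toAddMonoidHom).comp (T'.tt V)) (by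
        intro r b
        change e.symm (φ V hVW (T'.tt V (K611.Dict.sm hA' _ r b))) = K611.Dict.sm hA'' _ r (e.symm (φ V hVW (T'.tt V b)))
        apply (T''.tt_bij V (haff V hV)).1
        rw [he, T''.tt_lin, he, T'.tt_lin, map_smul])
    refine ⟨a, fun hV' b => ?_⟩
    rw [← ha b]
    exact (he _).symm
  choose z hz using h1
  have h2 : ∀ (V V' : X.Opens) (hV : V ≤ W) (hV' : V' ≤ W) (j : V' ⟶ V) (bV : 𝓑 V) (bV' : 𝓑 V'),
      A.map (X.presheaf.map j.op) (z V hV bV) = z V' hV' bV' := by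
    intro V V' hV hV' j bV bV'
    have hV0 := Mod.cast_eq_zero h V
    have hW0 := Mod.cast_eq_zero h V'
    rw [← sub_eq_zero]
    refine hβ.inj _ hW0 (hG V' bV') _ fun b => ?_
    rw [map_sub, AddMonoidHom.sub_apply, sub_eq_zero]
    refine bc_induction hA' hV0 hW0 (X.presheaf.map j.op) (etale_res j (haff V bV) (haff V' bV'))
      (P := fun b => β.app _ hW0 (A.map (X.presheaf.map j.op) (z V hV bV)) b = β.app _ hW0 (z V' hV' bV') b) ?_ ?_ ?_ b
    · rw [map_zero, map_zero]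
    · intro x y hx hy
      rw [map_add, map_add, hx, hy]
    · intro r b
      rw [hβ.lin, hβ.lin]
      congr 1
      apply (T''.tt_bij V' (haff V' bV')).1
      rw [← hz V' hV' bV' hV', β.nat _ _ hV0 hW0, T''.tt_nat, T'.tt_nat, ← hz V hV bV hV]
      exact nat V V' hV j.le _
  obtain ⟨ω, hω⟩ := glue_base ((EtZar.resZar X).obj (sh A X)) h𝓑 W (fun V hV bV => K611.Zar.bV A X V (z V hV bV)) (by
    intro V V' j hV hV' b1 b2
    rw [← h2 V V' hV hV' j b1 b2]
    exact (bV_res A X j _).symm)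
  refine ⟨ω, fun V hV n => ?_⟩
  refine ext_base (Coh.toAb L) h𝓑 (U := V) _ _ fun V' i hV' => ?_
  refine (re_wa β h T' T'' i.le _ n).trans (Eq.trans ?_ (nat V V' hV i.le n).symm)
  obtain ⟨b, hb⟩ := (T'.tt_bij V' (haff V' hV')).2 (re N i.le n)
  have hb : T'.tt V' b = re N i.le n := hb
  have e1 : rs (sh A X) (inc i.le) (rs _ (inc hV) ω) = K611.Zar.bV A X V' (z V' (i.le.trans hV) hV') := by
    rw [← rs_comp, inc_comp]
    exact hω V' (homOfLE (i.le.trans hV)) hV'
  rw [e1, ← hb, wa_bV, hz V' (i.le.trans hV) hV' (i.le.trans hV)]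

variable {β} in
include h in
/-- The section is determined by the linear maps. -/
theorem wl_injective (hA : BCF p A) {G : CommRingCat.{u} → Prop} (hβ : LBi hA' hA'' G β) {𝓑 : X.Opens → Prop}
    (h𝓑 : IsBase X 𝓑) (haff : ∀ V, 𝓑 V → IsAffineOpen V) (hG : ∀ V, 𝓑 V → G Γ(X, V)) (W : X.Opens)
    (ω ω' : EtCoh.sect (sh A X) (ob W))
    (H : ∀ (V : X.Opens) (hV : V ≤ W) (n : Γ(N, V)), wa β h T' T'' (rs _ (inc hV) ω) n =
      wa β h T' T'' (rs _ (inc hV) ω') n) : ω = ω' := by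
  refine ext_base ((EtZar.resZar X).obj (sh A X)) h𝓑 (U := W) ω ω' fun V i hV => ?_
  change rs _ (inc i.le) ω = rs _ (inc i.le) ω'
  obtain ⟨a, ha⟩ := (bV_bijective hA h V (haff V hV)).2 (rs _ (inc i.le) ω)
  obtain ⟨a', ha'⟩ := (bV_bijective hA h V (haff V hV)).2 (rs _ (inc i.le) ω')
  rw [← ha, ← ha']
  congr 1
  rw [← sub_eq_zero]
  refine hβ.inj _ (Mod.cast_eq_zero h V) (hG V hV) _ fun b => ?_
  rw [map_sub, AddMonoidHom.sub_apply, sub_eq_zero]
  apply (T''.tt_bij V (haff V hV)).1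
  rw [← wa_bV β h T' T'', ← wa_bV β h T' T'', ha, ha', H]

end wl

/-- The wedge product is perfect on surfaces. -/
theorem lbi_wOm [Fact p.Prime] : LBi.{u} (omBC p) (om2BC p) (GoodN p 2) (wOm p) where
  lin B hB a r b := lpair_w.lin B hB a r b
  bij B hB hg φ hφ := lpair_w.bij B hB hg φ hφ
  inj B hB hg a ha := lpair_w.inj B hB hg a ha

end K720.Loc
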