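import Groth.Agent.EtCoh.K720.KerShift
import Groth.Agent.StCoh.K998.PowEpi
import Groth.Agent.Etrest.FppfExact
import Groth.Agent.S5714
import Groth.Agent.AlgSp.K638.RedEt
import Groth.Prelude.Def_Frob
import Groth.Prelude.Def_EtGm

/-!
# Flat cohomology of `μ_p` in characteristic `p`
-/

set_option autoImplicit false
universe u
open CategoryTheory CategoryTheory.Limits AlgebraicGeometry Opposite Abelian

namespace K720.MuFppf

theorem nsmul_app {C : Type*} [Category* C] {J : GrothendieckTopology C}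
    (F : Sheaf J AddCommGrpCat.{u + 1}) [HasSheafify J AddCommGrpCat.{u + 1}] (U : Cᵒᵖ)
    (s : F.obj.obj U) (n : ℕ) :
    (n • 𝟙 F : F ⟶ F).hom.app U s = n • s := by
  induction n with
  | zero => rw [zero_nsmul, zero_nsmul]; rfl
  | succ m ih =>
    rw [succ_nsmul, succ_nsmul, ← ih]
    rfl

variable (X : Scheme.{u})

theorem sieve_mem (U : Over X) (s : (EtDl.GmF X).obj.obj (op U)) (n : ℕ) (hn : 0 < n) :
    Presheaf.imageSieve (n • 𝟙 (EtDl.GmF X)).hom (U := U) s ∈ EtFppf.J X U := by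
  rw [Groth.Agent.Etrest.BigEtSite.mem_J_iff]
  intro t
  let v : (Γ(U.left, ⊤))ˣ := GmPts.unitOfSect (S := X) (T := op U) s
  obtain ⟨Y, g, h1, h2, h3, w, hw⟩ := K998.PowEpi.exists_root U.left v n hn t
  let Y' : Over X := Over.mk (g ≫ U.hom)
  let g' : Y' ⟶ U := Over.homMk g rfl
  refine ⟨Y', g', ⟨GmPts.sectOfUnit (S := X) (T := op Y') w, ?_⟩, h1, h2, h3⟩
  have e1 : (n • 𝟙 (EtDl.GmF X)).hom.app (op Y') (GmPts.sectOfUnit (S := X) (T := op Y') w) =
      n • (GmPts.sectOfUnit (S := X) (T := op Y') w) := nsmul_app (EtDl.GmF X) _ _ n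
  refine e1.trans ?_
  have h5 : GmPts.sectOfUnit (S := X) (T := op Y') (w ^ n) = n • GmPts.sectOfUnit (T := op Y') w := rfl
  rw [← h5, hw]
  rfl

theorem epi_nsmul (n : ℕ) (hn : 0 < n) : Epi (n • 𝟙 (EtDl.GmF X)) := by
  rw [← Sheaf.isLocallySurjective_iff_epi']
  exact ⟨fun s => sieve_mem X _ s n hn⟩

theorem pow_char_inj {R : Type*} [CommRing R] [IsReduced R] (p : ℕ) [Fact p.Prime] (hp : (p : R) = 0)
    (u : Rˣ) (h : u ^ p = 1) : u = 1 := by
  rcases subsingleton_or_nontrivial R with hR | hR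
  · exact Subsingleton.elim _ _
  have : CharP R p := (CharP.charP_iff_prime_eq_zero Fact.out).2 hp
  have : ExpChar R p := ExpChar.prime Fact.out
  have h1 : ((u : R) - 1) ^ p = 0 := by
    rw [sub_pow_expChar, one_pow, ← Units.val_pow_eq_pow_val, h, Units.val_one, sub_self]
  have h2 : (u : R) - 1 = 0 := pow_eq_zero_iff (Nat.Prime.ne_zero Fact.out) |>.1 h1
  exact Units.ext (sub_eq_zero.1 h2)

theorem mono_powMap (p : ℕ) [Fact p.Prime] [FrobSch.IsCharP X p] [IsReduced X] :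
    Mono (EtCoh.powMap X p) := by
  refine Preadditive.mono_of_cancel_zero _ fun {F} g hg => ?_
  ext U s
  have h1 : p • (g.hom.app U s) = 0 := by
    rw [← nsmul_app (EtCoh.Gm X)]
    exact congrArg (fun k => k.hom.app U s) hg
  let v : (Γ((unop U).left, ⊤))ˣ := Additive.toMul (ULift.down (g.hom.app U s))
  have hv : v ^ p = 1 := congrArg (fun z => Additive.toMul (ULift.down z)) h1
  have hX : FrobSch.IsCharP ((Functor.fromPUnit X).obj (unop U).right) p :=
    (inferInstance : FrobSch.IsCharP X p)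
  have : FrobSch.IsCharP (unop U).left p := FrobSch.IsCharP.of_hom (unop U).hom p
  have : IsReduced (unop U).left := by
    have : Etale (unop U).hom := (unop U).prop
    have hX' : IsReduced ((Functor.fromPUnit X).obj (unop U).right) := (inferInstance : IsReduced X)
    exact K638.RedEt.isReduced_of_etale (unop U).hom
  have h2 := pow_char_inj p (FrobSch.IsCharP.natCast_eq_zero (X := (unop U).left)) v hv
  change g.hom.app U s = 0
  have h3 : g.hom.app U s = ULift.up (Additive.ofMul v) := rfl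
  rw [h3, h2]
  rfl

/-- the restriction of `G_m` to the small étale site -/
noncomputable def pushGm [EtFppf.ACont X] : (EtFppf.aPush X).obj (EtDl.GmF X) ≅ EtCoh.Gm X := Iso.refl _

theorem pushGm_nsmul [EtFppf.ACont X] (p : ℕ) :
    (EtFppf.aPush X).map (p • 𝟙 (EtDl.GmF X)) ≫ (pushGm X).hom = (pushGm X).hom ≫ EtCoh.powMap X p := by
  have h1 : (EtFppf.aPush X).map (p • 𝟙 (EtDl.GmF X)) = p • 𝟙 _ := by
    rw [Functor.map_nsmul, CategoryTheory.Functor.map_id]
  rw [h1, EtCoh.powMap, Preadditive.nsmul_comp, Preadditive.comp_nsmul, Category.id_comp,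
    Category.comp_id]

noncomputable def cokIso [EtFppf.ACont X] (p : ℕ) :
    cokernel ((EtFppf.aPush X).map (p • 𝟙 (EtDl.GmF X))) ≅ cokernel (EtCoh.powMap X p) :=
  cokernel.mapIso _ _ (pushGm X) (pushGm X) (pushGm_nsmul X p)

theorem mono_map [EtFppf.ACont X] (p : ℕ) [Fact p.Prime] [FrobSch.IsCharP X p] [IsReduced X] :
    Mono ((EtFppf.aPush X).map (p • 𝟙 (EtDl.GmF X))) := by
  have h := mono_powMap X p
  have h2 : Mono ((EtFppf.aPush X).map (p • 𝟙 (EtDl.GmF X)) ≫ (pushGm X).hom) := by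
    rw [pushGm_nsmul]
    infer_instance
  exact mono_of_mono _ (pushGm X).hom

theorem main [EtFppf.ACont X] (p : ℕ) [Fact p.Prime] [FrobSch.IsCharP X p] [IsReduced X] (n : ℕ) :
    Nonempty (EtFppf.HF X (kernel (p • 𝟙 (EtDl.GmF X))) (n + 1) ≃+
      EtCoh.H X (cokernel (EtCoh.powMap X p)) n) := by
  have i1 := Groth.Agent.Etrest.FppfExact.aPull_preservesFiniteLimits X
  have i2 := epi_nsmul X p (Nat.Prime.pos Fact.out)
  have i3 := mono_map X p
  have i4 : PreservesFiniteLimits (EtFppf.aPush X) :=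
    have : PreservesLimitsOfSize.{0, 0} (EtFppf.aPush X) :=
      (EtFppf.aAdj X).rightAdjoint_preservesLimits
    PreservesLimitsOfSize.preservesFiniteLimits _
  obtain ⟨e⟩ := KerShift.main (EtFppf.aAdj X) (G := EtDl.GmF X)
    (fun q hq => Groth.Agent.S5714.result X q hq) (p • 𝟙 (EtDl.GmF X))
    ((constantSheaf X.smallEtaleTopology AddCommGrpCat.{u + 1}).obj (AddCommGrpCat.of (ULift ℤ))) n
  have e2 : Ext ((EtFppf.aPull X).obj ((constantSheaf X.smallEtaleTopology AddCommGrpCat.{u + 1}).obj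
      (AddCommGrpCat.of (ULift ℤ)))) (kernel (p • 𝟙 (EtDl.GmF X))) (n + 1) ≃+
      EtFppf.HF X (kernel (p • 𝟙 (EtDl.GmF X))) (n + 1) :=
    (((Abelian.extFunctor (n + 1)).mapIso
      (Groth.Agent.Etrest.FppfExact.constIso X (AddCommGrpCat.of (ULift ℤ))).symm.op).app
        (kernel (p • 𝟙 (EtDl.GmF X)))).addCommGroupIsoToAddEquiv
  have e1 : EtCoh.H X (cokernel ((EtFppf.aPush X).map (p • 𝟙 (EtDl.GmF X)))) n ≃+
      EtCoh.H X (cokernel (EtCoh.powMap X p)) n :=
    ((Abelian.extFunctorObj _ n).mapIso (cokIso X p)).addCommGroupIsoToAddEquiv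
  exact ⟨e2.symm.trans (e.trans e1)⟩

end K720.MuFppf
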