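import Groth.Agent.EtCoh.K720.D2
import Groth.Agent.EtCoh.K154.N1a
import Groth.Agent.EtCoh.K789.N1b
import Groth.Agent.EtCoh.K789.N1c
import Groth.Agent.EtCoh.K38.N1d
import Groth.Agent.EtCoh.K103.D1
import Groth.Agent.EtCoh.K611.Surj

/-!
# Node N1: torsors with `H³(N) → H³(tw)` injective are trivial
-/

set_option autoImplicit false

universe u

open CategoryTheory CategoryTheory.Limits AlgebraicGeometry Opposite

noncomputable section

namespace K720.N1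

open K611.Sh K611.Seq K611.Seq2 K720.Tw K720.Pair K720.Nu K720.Lev1 K720.Equi K611.VanEt

variable {X : Scheme.{u}}

section formal

variable {p : ℕ} [hp : Fact p.Prime] (h : (p : Γ(X, ⊤)) = 0) {T : Tor (sh (nuF p) X)}

theorem exists_pt' (V : X.Etale) (x : V.left) : ∃ (W : X.Etale) (k : W ⟶ V) (w : W.left), k.left w = x ∧
    Nonempty (T.pt W) := by
  obtain ⟨W, k, w, hw, g, hg⟩ := T.loc V x
  exact ⟨W, k, w, hw, ⟨⟨g, hg⟩⟩⟩

/-- The difference of two equivariant maps. -/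
theorem exists_theta (ρ c : Eqv T ((dlN p).sh h)) : ∃ θ : Gs (sh OmF X), ∀ (V : X.Etale) (g : T.pt V),
    θ.v V = ρ.r V g - c.r V g := by
  obtain ⟨θ, hθ⟩ := exists_gs (sh OmF X) (fun V s => ∃ g : T.pt V, s = ρ.r V g - c.r V g)
    (fun {V W} k s hs => by
      obtain ⟨g, rfl⟩ := hs
      exact ⟨T.rp k g, by rw [ρ.nat, c.nat, map_sub]⟩)
    (fun V s s' hs hs' => by
      obtain ⟨g, rfl⟩ := hs
      obtain ⟨g', rfl⟩ := hs'
      rw [← T.tr_df g g', ρ.tr, c.tr]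
      abel)
    (fun V x => by
      obtain ⟨W, k, w, hw, ⟨g⟩⟩ := exists_pt' (T := T) V x
      exact ⟨W, k, w, hw, _, g, rfl⟩)
  exact ⟨θ, fun V g => hθ V _ ⟨g, rfl⟩⟩

theorem sg_eq (ρ c : Eqv T ((dlN p).sh h)) (θ : Gs (sh OmF X)) (hθ : ∀ (V : X.Etale) (g : T.pt V),
    θ.v V = ρ.r V g - c.r V g) : sg h ρ = sg h c + left (wΩ h) θ ≫ Tw.ι T (bΩ h) := by
  refine K720.Tw.hom_ext fun V x => ?_
  refine tw_ext (T := T) (β := bΩ h) ?_ fun W k g => ?_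
  · change x = x + 0
    rw [add_zero]
  · have e1 : ap (sg h c + left (wΩ h) θ ≫ Tw.ι T (bΩ h)) V x =
        ap (sg h c) V x + ap (Tw.ι T (bΩ h)) V (ap (left (wΩ h) θ) V x) := rfl
    rw [e1, map_add, map_add, ← ap_rs, ← ap_rs, ← ap_rs, ← ap_rs, ev_sig, ev_sig, ev_ι, ap_left, hθ W g, map_sub]
    change _ = _ + (((wΩ h).app W (ρ.r W g)) (rs _ k x) - ((wΩ h).app W (c.r W g)) (rs _ k x))
    abel

/-- If `ρ` takes values in `ν` the torsor is trivial. -/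
theorem exists_gs_of (hX : HasCharts X (Good p)) (ρ : Eqv T ((dlN p).sh h))
    (hρ : ∀ (V : X.Etale) (g : T.pt V), ap ((cgN p).sh h) V (ρ.r V g) = 0) :
    ∃ s : Gs T.G, ∀ (V : X.Etale), Nonempty (T.pt V) → s.v V ∈ T.P V := by
  have hm := mono_dlN h hX
  have : Mono (seqNu (X := X) h).f := hm
  have hx : ∀ (V : X.Etale) (g : T.pt V), ∃ x, ap ((dlN p).sh h) V x = ρ.r V g := fun V g =>
    exists_of_exact _ (seqNu_shortExact h hX).exact V _ (hρ V g)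
  obtain ⟨s, hs⟩ := exists_gs T.G (fun V s => ∃ (g : T.pt V) (x : EtCoh.sect (sh (nuF p) X) V),
      ap ((dlN p).sh h) V x = ρ.r V g ∧ s = (T.tr g (-x)).1)
    (fun {V W} k s hs => by
      obtain ⟨g, x, hx, rfl⟩ := hs
      refine ⟨T.rp k g, rs _ k x, by rw [ap_rs, hx, ρ.nat], ?_⟩
      rw [← map_neg, ← T.rp_tr]
      rfl)
    (fun V s s' hs hs' => by
      obtain ⟨g, x, hx, rfl⟩ := hs
      obtain ⟨g', x', hx', rfl⟩ := hs'
      have e1 : x' = x + T.df g g' := by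
        apply ap_injective ((dlN p).sh h) V
        rw [hx', map_add, hx]
        conv_lhs => rw [← T.tr_df g g', ρ.tr]
      have e2 : T.tr g' (-x') = T.tr g (-x) := by
        conv_lhs => rw [← T.tr_df g g', T.tr_tr, e1]
        congr 1
        abel
      rw [e2])
    (fun V x => by
      obtain ⟨W, k, w, hw, ⟨g⟩⟩ := exists_pt' (T := T) V x
      obtain ⟨y, hy⟩ := hx W g
      exact ⟨W, k, w, hw, _, g, y, hy, rfl⟩)
  refine ⟨s, fun V hV => ?_⟩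
  obtain ⟨g⟩ := hV
  obtain ⟨y, hy⟩ := hx V g
  rw [hs V _ ⟨g, y, hy, rfl⟩]
  exact (T.tr g (-y)).2

end formal

section main

variable (k : Type u) [Field k] [Finite k] (p : ℕ) [hp : Fact p.Prime] [CharP k p] (X : Scheme.{u})
  (f : X ⟶ Spec (.of k)) [AlgebraicGeometry.IsIntegral X] [IsProper f] [SmoothOfRelativeDimension 2 f]
  (h : (p : Γ(X, ⊤)) = 0)

include k f in
/-- Node N1. -/
theorem n1 (d0 : ∃ t : EtCoh.H X (sh Q2F X) 2 →+ ZMod p, t ≠ 0 ∧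
      ∀ x : EtCoh.H X (sh Om2F X) 2, t (Sheaf.H.map ((cl2N p).sh h) 2 x) = t (Sheaf.H.map ((gam2N p).sh h) 2 x))
    (s1 : Function.Surjective (Sheaf.H.map ((clN p).sh (X := X) h) 2))
    (s2 : Function.Surjective (Sheaf.H.map ((cl2N p).sh (X := X) h) 2))
    (T : Tor (sh (nuF p) X))
    (hT : ∀ x : X, ∃ V : X.Opens, x ∈ V ∧ Nonempty (T.pt ((EtZar.zarToEt X).obj V)))
    (hinj : Function.Injective (Sheaf.H.map (Tw.ι T (bN h)) 3)) :
    ∃ s : Gs T.G, ∀ (V : X.Etale), Nonempty (T.pt V) → s.v V ∈ T.P V := by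
  have hX := K611.Charts2.hasChartsN p k X f 2
  obtain ⟨t, lam, ht, hcg, hlam, hι⟩ := K154.N1a.n1a h T hX d0 hinj
  obtain ⟨L, hL⟩ := Groth.Agent.Dual.H366.ExtQCoh.exists_isExtPow 2 (Groth.Agent.Dual.H366.ConSec.isQCoh_omega f)
  have hLq : Coh.IsQCoh L := K103.DualNZ.isQCoh_top k X f hL
  have hιcl : ∀ m : EtCoh.H X (sh Om2F X) 2, lam (Sheaf.H.map (clG h T) 2 (Sheaf.H.map (Tw.ι T (bΩ h)) 2 m)) =
      t (Sheaf.H.map ((cl2N p).sh h) 2 m) := fun m => by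
    have e1 : Tw.ι T (bΩ h) ≫ clG h T = (cl2N p).sh h ≫ Tw.ι T (bq h) := ι_map T _ _ _ _ _
    rw [← Sheaf.H.map_comp_apply, e1, Sheaf.H.map_comp_apply, hι]
  have hne : ∃ m : EtCoh.H X (sh Om2F X) 2, lam (Sheaf.H.map (clG h T) 2 (Sheaf.H.map (Tw.ι T (bΩ h)) 2 m)) ≠ 0 := by
    by_contra hcon
    push Not at hcon
    apply ht
    ext q
    obtain ⟨m, rfl⟩ := s2 q
    rw [← hιcl, hcon]
    rfl
  obtain ⟨ρ, hρ⟩ := K720.Split.d2 k p X f h L hL hLq (K103.DualNZ.dual_of_ne_zero k p X f hL) T hT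
    (lam.comp (Sheaf.H.map (clG h T) 2)) hne
  have hρ : ∀ x : EtCoh.H X (sh OmF X) 2, lam (Sheaf.H.map (clG h T) 2 (Sheaf.H.map (sg h ρ) 2 x)) = 0 := hρ
  have hd := K789.N1b.n1b h (fun t ht σ hσ => K103.D1.mul_nondeg k p X f h t ht σ hσ) T lam hne ρ hρ
  obtain ⟨c, hc⟩ := K789.N1c.n1c h hX T ρ hd
  obtain ⟨σ', h1, h2⟩ := K38.N1d.n1d h hX T ρ c hd hc
  have h3 : ∀ q : EtCoh.H X (sh QF X) 2, lam (Sheaf.H.map σ' 2 q) = 0 := fun q => by
    obtain ⟨x, rfl⟩ := s1 q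
    rw [← Sheaf.H.map_comp_apply, h1, Sheaf.H.map_comp_apply, hρ]
  have h4 : ∀ x : EtCoh.H X (sh OmF X) 2, lam (Sheaf.H.map (clG h T) 2 (Sheaf.H.map (sg h c) 2 x)) = 0 := fun x => by
    rw [hlam, ← Sheaf.H.map_comp_apply, ← h2, Sheaf.H.map_comp_apply, h3]
  obtain ⟨θ, hθ⟩ := exists_theta h ρ c
  have h5 : θ = 0 := by
    refine K103.D1.wedge_nondeg k p X f h
      ((lam.comp (Sheaf.H.map (clG h T) 2)).comp (Sheaf.H.map (Tw.ι T (bΩ h)) 2)) ?_ θ fun x => ?_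
    · intro h0
      obtain ⟨m, hm⟩ := hne
      exact hm (DFunLike.congr_fun h0 m)
    · have e1 := hρ x
      rw [sg_eq h ρ c θ hθ, Sheaf.H.map_add_apply, map_add, map_add, h4, zero_add, Sheaf.H.map_comp_apply] at e1
      exact e1
  refine exists_gs_of h (charts_good hX) ρ fun V g => ?_
  have e1 : ρ.r V g = c.r V g := by
    have := hθ V g
    rw [h5] at this
    exact (sub_eq_zero.1 this.symm)
  rw [ap_cgN, ← hc V g, e1, sub_self]

end main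

end K720.N1
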