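import Groth.Agent.EtCoh.K720.N1
import Groth.Agent.EtCoh.K38.D0

/-!
# Node N1, final form
-/

set_option autoImplicit false

universe u

open CategoryTheory CategoryTheory.Limits AlgebraicGeometry Opposite

noncomputable section

namespace K720.N1

open K611.Sh K611.Seq K611.Seq2 K720.Tw K720.Pair K720.Nu K720.Lev1 K720.Equi K611.VanEt

variable (k : Type u) [Field k] [Finite k] (p : ℕ) [hp : Fact p.Prime] [CharP k p] (X : Scheme.{u})
  (f : X ⟶ Spec (.of k)) [AlgebraicGeometry.IsIntegral X] [IsProper f] [SmoothOfRelativeDimension 2 f]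
  (h : (p : Γ(X, ⊤)) = 0)

include k f in
theorem s1 : Function.Surjective (Sheaf.H.map ((clN p).sh (X := X) h) 2) :=
  surj_cl h (charts_good (K611.Charts2.hasChartsN p k X f 2)) 2 (K611.Fin.van_ga k p X f 2 h)

include k f in
theorem s2 : Function.Surjective (Sheaf.H.map ((cl2N p).sh (X := X) h) 2) :=
  surj_cl2' h (K611.Charts2.hasChartsN p k X f 2) 2 (K611.Fin.van_ga k p X f 2 h) (K611.Fin.van_om k p X f 2 h)

include k f in
/-- Node N1 in the form used by `K769.Final.main`. -/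
theorem n1_final (T : Tor (sh (nuF p) X))
    (hP : ∀ (V : X.Etale) (s : EtCoh.sect T.G V), (∀ x : V.left, ∃ (W : X.Etale) (k : W ⟶ V) (w : W.left),
      k.left w = x ∧ rs T.G k s ∈ T.P W) → s ∈ T.P V)
    (hT : ∀ x : X, ∃ V : X.Opens, x ∈ V ∧ Nonempty (T.pt ((EtZar.zarToEt X).obj V)))
    (hinj : Function.Injective (Sheaf.H.map (Tw.ι T (bN h)) 3)) : Nonempty (T.pt (EtCoh.top X)) := by
  obtain ⟨s, hs⟩ := n1 k p X f h (K38.D0.exists_trace k p X f h) (s1 k p X f h) (s2 k p X f h) T hT hinj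
  refine ⟨⟨s.v (EtCoh.top X), hP _ _ fun x => ?_⟩⟩
  obtain ⟨W, l, w, hw, hne⟩ := exists_pt' (T := T) (EtCoh.top X) x
  refine ⟨W, l, w, hw, ?_⟩
  rw [s.nat]
  exact hs W hne

end K720.N1
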