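import Groth.Agent.Ega3B.NormalBirational
import Groth.Agent.S1377
import Groth.Agent.S0246
import Groth.Agent.S3104
import Groth.Agent.S0651
import Groth.Agent.Etbase.NormalStalk
import Groth.Agent.Sga4h.H929.NPush
import Groth.Agent.Vancyc.H566.GalTriv
import Groth.Agent.Pi1.H383.GalPrinc
import Groth.Agent.Pi1.H408.PrincRestrict
import Groth.Agent.Etcore.OpenClosed
import Groth.Agent.Etrest.ConstBasic
import Groth.Agent.S0294
import Groth.Prelude.Def_SGA1t
import Mathlib.AlgebraicGeometry.Normalization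

/-!
# Extension of finite locally constant sheaves over normal schemes
-/

set_option autoImplicit false
universe u
open CategoryTheory CategoryTheory.Limits AlgebraicGeometry Opposite

namespace K720.NormExt

open Groth.Agent

/-- The relative normalization along a composite with an integral étale morphism. -/
theorem etale_fromNormalization {P V X : Scheme.{u}} (h : P ⟶ V) (g : V ⟶ X) (f : P ⟶ X)
    (hf : f = h ≫ g) [QuasiCompact h] [QuasiSeparated h] [QuasiCompact f] [QuasiSeparated f]
    [IsIntegralHom g] [Etale g] [IsIso h.fromNormalization] : Etale f.fromNormalization := by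
  let d : f.normalization ⟶ V := f.normalizationDesc h g hf
  have hd1 : f.toNormalization ≫ d = h := f.toNormalization_normalizationDesc h g hf
  have hd2 : d ≫ g = f.fromNormalization := f.normalizationDesc_comp h g hf
  let e : h.normalization ⟶ f.normalization := h.normalizationDesc f.toNormalization d hd1.symm
  have he1 : h.toNormalization ≫ e = f.toNormalization := h.toNormalization_normalizationDesc _ _ _
  have he2 : e ≫ d = h.fromNormalization := h.normalizationDesc_comp _ _ _
  have h1 : (inv h.fromNormalization ≫ e) ≫ d = 𝟙 V := by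
    rw [Category.assoc, he2, IsIso.inv_hom_id]
  have h2 : d ≫ (inv h.fromNormalization ≫ e) = 𝟙 _ := by
    refine Scheme.Hom.normalization.hom_ext (f := f) _ _ f.fromNormalization ?_ ?_ ?_
    · have h3 : h ≫ inv h.fromNormalization = h.toNormalization := by
        rw [IsIso.comp_inv_eq, h.toNormalization_fromNormalization]
      rw [← Category.assoc, hd1, ← Category.assoc, h3, he1, Category.comp_id]
    · rw [← hd2, Category.assoc, Category.assoc, ← Category.assoc e, he2,
        IsIso.inv_hom_id_assoc]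
    · rw [Category.id_comp]
  have : IsIso d := ⟨_, h2, h1⟩
  rw [← hd2]
  infer_instance

theorem isZero_of_isEmpty {X : Scheme.{u}} [IsEmpty X] (F : EtCoh.Ab X) : IsZero F := by
  rw [IsZero.iff_id_eq_zero]
  ext U s
  have : IsEmpty (unop U).left := ⟨fun z => isEmptyElim (α := X) ((unop U).hom z)⟩
  have h := Etcore.OpenClosed.subsingleton_sect_of_isEmpty F (unop U)
  exact h.elim _ _

/-- A Galois cover in the sense of Galois categories is principal. -/
theorem isPrincipal_of_isGalois {U : Scheme.{u}} [ConnectedSpace U] (gc : GaloisCategory (FEt.Cat U))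
    (A : FEt.Cat U) (hA : PreGaloisCategory.IsGalois A) [ConnectedSpace A.left] :
    SGA1t.IsPrincipal (Aut A) A (MonoidHom.id _) := by
  refine ⟨Pi1.H383.GalPrinc.surjective_of_nonempty A, fun Ω _ _ η s t => ?_⟩
  obtain ⟨φ, hφ⟩ := PreGaloisCategory.evaluation_aut_surjective_of_isGalois
    (Pi1B.FEtFibre.fiberF η) A s t
  refine ⟨φ, hφ, fun τ hτ => ?_⟩
  exact Iso.ext (Pi1.H383.GalPrinc.hom_ext_of_point A τ.hom φ.hom s.1
    ((congrArg Subtype.val hτ).trans (congrArg Subtype.val hφ).symm))

theorem finite_aut_of_point {U : Scheme.{u}} (A : FEt.Cat U)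
    (h : SGA1t.IsPrincipal (Aut A) A (MonoidHom.id _)) {Ω : Type u} [Field Ω] [IsAlgClosed Ω]
    (ξ : Spec (CommRingCat.of Ω) ⟶ U) (s : FEt.fiberObj ξ A) : Finite (Aut A) := by
  have hf : Finite (FEt.fiberObj ξ A) := S0294.result ξ A
  exact @Finite.of_injective (Aut A) (FEt.fiberObj ξ A) hf (fun g : Aut A => (FEt.fiber ξ).map g.hom s)
    fun g g' hg => (h.2 Ω ξ s _).unique (y₁ := g) (y₂ := g') hg rfl

theorem finite_aut {U : Scheme.{u}} [ConnectedSpace U] (A : FEt.Cat U)
    (h : SGA1t.IsPrincipal (Aut A) A (MonoidHom.id _)) : Finite (Aut A) := by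
  obtain ⟨x⟩ : Nonempty U := inferInstance
  have h1 : Function.Surjective A.hom.base := h.1
  obtain ⟨a, ha⟩ := h1 x
  obtain ⟨K, _, _, η, hη⟩ := Pi1A.ConnFibres.exists_geometric_point A.left a
  exact finite_aut_of_point A h (η ≫ A.hom) ⟨η, rfl⟩

/-- Every finite group is isomorphic to a group in the smallest universe. -/
theorem exists_small (G : Type*) [Group G] [Finite G] :
    ∃ (G' : Type) (_ : Group G') (_ : Finite G'), Nonempty (G' ≃* G) := by
  let e : Fin (Nat.card G) ≃ G := (Finite.equivFin G).symm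
  let inst : Group (Fin (Nat.card G)) := e.group
  exact ⟨Fin (Nat.card G), inst, inferInstance, ⟨e.mulEquiv⟩⟩

/-- From an extension to a principal cover. -/
theorem exists_cover (X : Scheme.{u}) [IsIntegral X]
    (hX : Pi1.IsNormalScheme X) (U : X.Opens) [QuasiCompact U.ι] (F : EtCoh.Ab ↑U)
    (F' : EtCoh.Ab X) (hF' : EtCoh.IsFiniteLocallyConstant F') (e : (EtCoh.pull U.ι).obj F' ≅ F) :
    ∃ (G : Type) (_ : Group G) (_ : Finite G) (P : FEt.Cat ↑U) (ρ : G →* Aut P),
      SGA1t.IsPrincipal G P ρ ∧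
      (∃ (M : Type) (_ : AddCommGroup M) (_ : Finite M),
        Nonempty ((EtCoh.pull P.hom).obj F ≅ EtCoh.const P.left M)) ∧
      ∀ [QuasiCompact (P.hom ≫ U.ι)] [QuasiSeparated (P.hom ≫ U.ι)],
        Etale (P.hom ≫ U.ι).fromNormalization := by
  obtain ⟨V, ⟨gc, gal⟩, hconn, hsurj, M, hM1, hM2, ⟨c⟩⟩ :=
    Vancyc.H566.GalTriv.exists_gal_const F' hF'
  have hV1 : IsFinite V.hom := V.prop.1
  have hV2 : Etale V.hom := V.prop.2
  have hpr := isPrincipal_of_isGalois gc V gal
  have hfin := finite_aut V hpr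
  obtain ⟨G', inst, hG', ⟨em⟩⟩ := exists_small (Aut V)
  let P : FEt.Cat ↑U := (FEt.restrict U.ι).obj V
  have hP : SGA1t.IsPrincipal (Aut V) P (((FEt.restrict U.ι).mapAut V).comp (MonoidHom.id _)) :=
    Pi1.H408.PrincRestrict.isPrincipal_restrict U.ι V (MonoidHom.id _) hpr
  let h : P.left ⟶ V.left := pullback.fst V.hom U.ι
  have hcomm : P.hom ≫ U.ι = h ≫ V.hom := (pullback.condition (f := V.hom) (g := U.ι)).symm
  refine ⟨G', inst, hG', P,
    (((FEt.restrict U.ι).mapAut V).comp (MonoidHom.id _)).comp em.toMonoidHom, ?_,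
    ⟨M, hM1, hM2, ⟨?_⟩⟩, ?_⟩
  · refine ⟨hP.1, fun Ω _ _ ξ s t => ?_⟩
    obtain ⟨g', hg, hu⟩ := hP.2 Ω ξ s t
    refine ⟨em.symm g', ?_, fun g hg₁ => ?_⟩
    · refine Eq.trans ?_ hg
      change (FEt.fiber ξ).map ((((FEt.restrict U.ι).mapAut V).comp (MonoidHom.id _))
        (em (em.symm g'))).hom s = _
      rw [em.apply_symm_apply]
    · rw [← hu (em g) hg₁, em.symm_apply_apply]
  · exact (EtCoh.pull P.hom).mapIso e.symm ≪≫ (EtpbcA.PullFLC.pullComp P.hom U.ι).app F' ≪≫
      eqToIso (congrArg (fun φ : P.left ⟶ X => (EtCoh.pull φ).obj F') hcomm) ≪≫ (EtpbcA.PullFLC.pullComp h V.hom).symm.app F' ≪≫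
      (EtCoh.pull h).mapIso c ≪≫ Sga4B.ConstLC.pullConstIso h M
  · intro i1 i2
    have hfo : IsOpenImmersion h := inferInstanceAs (IsOpenImmersion (pullback.fst V.hom U.ι))
    have hqc : QuasiCompact h := inferInstanceAs (QuasiCompact (pullback.fst V.hom U.ι))
    by_cases hne : Nonempty P.left
    · obtain ⟨hVi, hVn⟩ := S0246.result hX V
      have hPi : IsIntegral P.left := isIntegral_of_isOpenImmersion h
      have : IsIso h.fromNormalization :=
        Ega3B.NormalBirational.isIso_fromNormalization (fun y => (hVn y).2) h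
          (genericPoint_eq_of_isOpenImmersion h) inferInstance
      exact etale_fromNormalization h V.hom (P.hom ≫ U.ι) hcomm
    · have he : IsEmpty P.left := not_nonempty_iff.1 hne
      have : IsEmpty (P.hom ≫ U.ι).normalization := by
        have hd := (P.hom ≫ U.ι).toNormalization.denseRange
        refine ⟨fun z => ?_⟩
        have := hd z
        have h2 : Set.range (P.hom ≫ U.ι).toNormalization = ∅ :=
          @Set.range_eq_empty _ _ he _
        rw [h2, closure_empty] at this
        exact this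
      infer_instance

theorem pull_push_iso {U X X' P : Scheme.{u}} (j : U ⟶ X) (π : X' ⟶ X) (g : P ⟶ U) (j' : P ⟶ X')
    (sq : IsPullback g j' j π) [Etale π] (F : EtCoh.Ab U) :
    Nonempty ((EtCoh.pull π).obj ((EtCoh.push j).obj F) ≅ (EtCoh.push j').obj ((EtCoh.pull g).obj F)) := by
  have h0 := Sga4h.H929.NPush.isIso_baseChange0_of_etale sq F
  exact ⟨asIso (EtCoh.baseChange0 j π j' g sq.w F)⟩

theorem push_const_iso {X' P : Scheme.{u}} (j' : P ⟶ X') [IsOpenImmersion j'] [QuasiCompact j']
    (hX' : Pi1.IsNormalScheme X') (hd : Dense (Set.range j')) (M : Type) [AddCommGroup M] :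
    Nonempty ((EtCoh.push j').obj (EtCoh.const P M) ≅ EtCoh.const X' M) := by
  have h1 := S3104.result X' P hX' j' hd M
  exact ⟨(EtCoh.push j').mapIso (Sga4B.ConstLC.pullConstIso j' M).symm ≪≫
    (asIso ((EtCoh.pullPushAdj j').unit.app (EtCoh.const X' M))).symm⟩

theorem pull_push_const {U X X' P : Scheme.{u}} (j : U ⟶ X) (π : X' ⟶ X) (g : P ⟶ U) (j' : P ⟶ X')
    (sq : IsPullback g j' j π) [Etale π] [IsOpenImmersion j'] [QuasiCompact j']
    (hX' : Pi1.IsNormalScheme X') (hd : Dense (Set.range j')) (F : EtCoh.Ab U)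
    (M : Type) [AddCommGroup M] (c : (EtCoh.pull g).obj F ≅ EtCoh.const P M) :
    Nonempty ((EtCoh.pull π).obj ((EtCoh.push j).obj F) ≅ EtCoh.const X' M) := by
  obtain ⟨e1⟩ := pull_push_iso j π g j' sq F
  obtain ⟨e2⟩ := push_const_iso j' hX' hd M
  exact ⟨e1 ≪≫ (EtCoh.push j').mapIso c ≪≫ e2⟩

/-- From a principal cover to an extension. -/
theorem exists_extension (X : Scheme.{u}) [IsIntegral X]
    (hX : Pi1.IsNormalScheme X) (U : X.Opens) [QuasiCompact U.ι] (F : EtCoh.Ab ↑U)
    (P : FEt.Cat ↑U) (hPs : Function.Surjective P.hom.base)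
    (M : Type) [AddCommGroup M] [Finite M]
    (c : (EtCoh.pull P.hom).obj F ≅ EtCoh.const P.left M)
    (hE : ∀ [QuasiCompact (P.hom ≫ U.ι)] [QuasiSeparated (P.hom ≫ U.ι)],
        Etale (P.hom ≫ U.ι).fromNormalization) :
    ∃ F' : EtCoh.Ab X, EtCoh.IsFiniteLocallyConstant F' ∧ Nonempty ((EtCoh.pull U.ι).obj F' ≅ F) := by
  have hP1 : IsFinite P.hom := P.prop.1
  have hP2 : Etale P.hom := P.prop.2
  by_cases hU : Nonempty U
  · have hqc : QuasiCompact (P.hom ≫ U.ι) := inferInstance
    have hqs : QuasiSeparated (P.hom ≫ U.ι) := inferInstance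
    have hE' : Etale (P.hom ≫ U.ι).fromNormalization := hE
    let f := P.hom ≫ U.ι
    let π : f.normalization ⟶ X := f.fromNormalization
    let j' : P.left ⟶ f.normalization := f.toNormalization
    have sq : IsPullback j' P.hom π U.ι := S1377.isPullback_normalization U P.hom
    have hj' : IsOpenImmersion j' := MorphismProperty.of_isPullback sq.flip (inferInstance : IsOpenImmersion U.ι)
    have hπ : Etale π := hE'
    have hπi : IsIntegralHom π := inferInstanceAs (IsIntegralHom f.fromNormalization)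
    have hπf : IsFinite π := (IsFinite.iff_isIntegralHom_and_locallyOfFiniteType π).2 ⟨hπi, inferInstance⟩
    have hj'd : Dense (Set.range j') := f.toNormalization.denseRange
    have hj'q : QuasiCompact j' := inferInstanceAs (QuasiCompact f.toNormalization)
    have hNn : Pi1.IsNormalScheme f.normalization := fun z =>
      Etbase.NormalStalk.normal_stalk_of_etale π z (hX _)
    have hsurj : Function.Surjective π := by
      obtain ⟨x⟩ := hU
      obtain ⟨y, hy⟩ := hPs x
      have h : IsClopen (Set.range π) := ⟨π.isClosedMap.isClosed_range, π.isOpenMap.isOpen_range⟩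
      exact Set.range_eq_univ.mp (h.eq_univ ⟨_, j' y, rfl⟩)
    refine ⟨(EtCoh.push U.ι).obj F, ?_, ?_⟩
    · rw [EtpbcA.OverSite2.isFLC_iff_pull]
      refine ⟨PUnit, fun _ => Scheme.Etale.mk π, fun x => ?_, fun _ => ⟨M, inferInstance,
        inferInstance, ?_⟩⟩
      · obtain ⟨y, hy⟩ := hsurj x
        exact ⟨PUnit.unit, y, hy⟩
      · exact pull_push_const U.ι π P.hom j' sq.flip hNn hj'd F M c
    · have := (S0651.result U.ι F).1
      exact ⟨asIso ((EtCoh.pullPushAdj U.ι).counit.app F)⟩
  · have : IsEmpty U := not_nonempty_iff.1 hU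
    refine ⟨EtCoh.const X PUnit, Etrest.ConstBasic.isFiniteLocallyConstant_const X PUnit, ⟨?_⟩⟩
    have : IsEmpty (U : Scheme.{u}) := this
    exact (isZero_of_isEmpty _).iso (isZero_of_isEmpty F)

end K720.NormExt
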