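import Groth.Agent.EtCoh.K720.Tw
import Groth.Agent.EtCoh.K611.Sh

/-!
# Pairings of étale sheaves from natural pairings on rings
-/

set_option autoImplicit false

universe u

open CategoryTheory CategoryTheory.Limits AlgebraicGeometry Opposite

noncomputable section

namespace K720.Pair

open K611.Sh K720.Tw

variable {X : Scheme.{u}}

/-- Natural biadditive maps on rings with `p = 0`. -/
structure Bi (p : ℕ) (A B C : CommRingCat.{u} ⥤ AddCommGrpCat.{u}) where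
  /-- the maps -/
  app : ∀ (R : CommRingCat.{u}), (p : R) = 0 → (A.obj R →+ B.obj R →+ C.obj R)
  nat : ∀ (R R' : CommRingCat.{u}) (h : (p : R) = 0) (h' : (p : R') = 0) (f : R ⟶ R') (a : A.obj R) (b : B.obj R),
    app R' h' (A.map f a) (B.map f b) = C.map f (app R h a b)

variable {p : ℕ} {A B C : CommRingCat.{u} ⥤ AddCommGrpCat.{u}} (β : Bi p A B C) (h : (p : Γ(X, ⊤)) = 0)

/-- `p = 0` on étale schemes. -/
theorem h0 (h : (p : Γ(X, ⊤)) = 0) (V : X.Etale) : (p : Γ(V.left, ⊤)) = 0 :=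
  Groth.Agent.CurvesA.ArtinSchreier.cast_eq_zero_of_etale X p h V

/-- `c` is the product of `a` and `b`. -/
def IsProd {U : X.Etale} (a : EtCoh.sect (sh A X) U) (b : EtCoh.sect (sh B X) U) (c : EtCoh.sect (sh C X) U) : Prop :=
  ∀ (V : X.Etale) (g : V ⟶ U) (a₀ : A.obj Γ(V.left, ⊤)) (b₀ : B.obj Γ(V.left, ⊤)),
    un A V a₀ = rs _ g a → un B V b₀ = rs _ g b → rs _ g c = un C V (β.app _ (h0 h V) a₀ b₀)

theorem rs_un (A : CommRingCat.{u} ⥤ AddCommGrpCat.{u}) {U V : X.Etale} (g : V ⟶ U) (a : A.obj Γ(U.left, ⊤)) :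
    rs (sh A X) g (un A U a) = un A V (res A g a) := (un_res A g a).symm

/-- Local representability of two sections. -/
theorem exists_un₂ {U : X.Etale} (a : EtCoh.sect (sh A X) U) (b : EtCoh.sect (sh B X) U) (x : U.left) :
    ∃ (V : X.Etale) (g : V ⟶ U) (v : V.left), g.left v = x ∧
      (∃ a₀, un A V a₀ = rs _ g a) ∧ (∃ b₀, un B V b₀ = rs _ g b) := by
  obtain ⟨V, g, v, hv, a₀, ha₀⟩ := exists_un A U a x
  obtain ⟨W, k, w, hw, b₀, hb₀⟩ := exists_un B V (rs _ g b) v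
  refine ⟨W, k ≫ g, w, ?_, ⟨res A k a₀, ?_⟩, ⟨b₀, ?_⟩⟩
  · change (k.left ≫ g.left) w = x
    rw [Scheme.Hom.comp_apply, hw, hv]
  · rw [← rs_un, ha₀, rs_comp]
  · rw [hb₀, rs_comp]

include h in
theorem un_congr {V : X.Etale} (a₀ a₁ : A.obj Γ(V.left, ⊤)) (b₀ b₁ : B.obj Γ(V.left, ⊤)) (ha : un A V a₀ = un A V a₁)
    (hb : un B V b₀ = un B V b₁) : un C V (β.app _ (h0 h V) a₀ b₀) = un C V (β.app _ (h0 h V) a₁ b₁) := by
  refine Groth.Agent.Etbase.EtSite.sect_ext (sh C X) V _ _ fun x => ?_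
  obtain ⟨W, g, w, hw, h1⟩ := exists_eq_of_un_eq A V a₀ a₁ ha x
  obtain ⟨Z, k, z, hz, h2⟩ := exists_eq_of_un_eq B W (res B g b₀) (res B g b₁)
    (by rw [← rs_un, ← rs_un, hb]) w
  refine ⟨Z, k ≫ g, z, ?_, ?_⟩
  · change (k.left ≫ g.left) z = x
    rw [Scheme.Hom.comp_apply, hz, hw]
  · change rs _ (k ≫ g) _ = rs _ (k ≫ g) _
    rw [rs_un, rs_un]
    have e : ∀ (a : A.obj Γ(V.left, ⊤)) (b : B.obj Γ(V.left, ⊤)), res C (k ≫ g) (β.app _ (h0 h V) a b) =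
        β.app _ (h0 h Z) (res A k (res A g a)) (res B k (res B g b)) := by
      intro a b
      rw [← res_comp, ← res_comp]
      exact (β.nat _ _ (h0 h V) (h0 h Z) (k ≫ g).left.appTop a b).symm
    rw [e, e, h1, h2]

theorem exists_isProd {U : X.Etale} (a : EtCoh.sect (sh A X) U) (b : EtCoh.sect (sh B X) U) :
    ∃ c, IsProd β h a b c := by
  let R : Sieve U :=
    { arrows := fun V g => (∃ a₀, un A V a₀ = rs _ g a) ∧ (∃ b₀, un B V b₀ = rs _ g b)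
      downward_closed := fun {V W} g hg k => by
        obtain ⟨⟨a₀, ha₀⟩, ⟨b₀, hb₀⟩⟩ := hg
        exact ⟨⟨res A k a₀, by rw [← rs_un, ha₀, rs_comp]⟩, ⟨res B k b₀, by rw [← rs_un, hb₀, rs_comp]⟩⟩ }
  obtain ⟨c, hc⟩ := Groth.Agent.Etbase.EtSections.exists_glue (sh C X) U R
    (fun x => by
      obtain ⟨V, g, v, hv, h1, h2⟩ := exists_un₂ a b x
      exact ⟨V, g, v, ⟨h1, h2⟩, hv⟩)
    (fun V g hg => un C V (β.app _ (h0 h V) hg.1.choose hg.2.choose))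
    (fun V W g hg k hk => by
      change rs _ k _ = _
      rw [rs_un]
      have e : res C k (β.app _ (h0 h V) hg.1.choose hg.2.choose) =
          β.app _ (h0 h W) (res A k hg.1.choose) (res B k hg.2.choose) :=
        (β.nat _ _ (h0 h V) (h0 h W) k.left.appTop _ _).symm
      rw [e]
      refine un_congr β h _ _ _ _ ?_ ?_
      · rw [← rs_un, hg.1.choose_spec, hk.1.choose_spec, rs_comp]
      · rw [← rs_un, hg.2.choose_spec, hk.2.choose_spec, rs_comp])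
  refine ⟨c, fun V g a₀ b₀ ha₀ hb₀ => ?_⟩
  have hg : R g := ⟨⟨a₀, ha₀⟩, ⟨b₀, hb₀⟩⟩
  refine (hc V g hg).trans ?_
  exact un_congr β h _ _ _ _ (hg.1.choose_spec.trans ha₀.symm) (hg.2.choose_spec.trans hb₀.symm)

variable {β h}

theorem IsProd.unique {U : X.Etale} {a : EtCoh.sect (sh A X) U} {b : EtCoh.sect (sh B X) U}
    {c c' : EtCoh.sect (sh C X) U} (hc : IsProd β h a b c) (hc' : IsProd β h a b c') : c = c' := by
  refine Groth.Agent.Etbase.EtSite.sect_ext (sh C X) U _ _ fun x => ?_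
  obtain ⟨V, g, v, hv, ⟨a₀, ha₀⟩, ⟨b₀, hb₀⟩⟩ := exists_un₂ a b x
  exact ⟨V, g, v, hv, (hc V g a₀ b₀ ha₀ hb₀).trans (hc' V g a₀ b₀ ha₀ hb₀).symm⟩

/-- It suffices to check locally. -/
theorem IsProd.of_local {U : X.Etale} {a : EtCoh.sect (sh A X) U} {b : EtCoh.sect (sh B X) U}
    {c : EtCoh.sect (sh C X) U} (hc : ∀ x : U.left, ∃ (V : X.Etale) (g : V ⟶ U) (v : V.left), g.left v = x ∧
      ∃ a₀ b₀, un A V a₀ = rs _ g a ∧ un B V b₀ = rs _ g b ∧ rs _ g c = un C V (β.app _ (h0 h V) a₀ b₀)) :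
    IsProd β h a b c := by
  obtain ⟨c', hc'⟩ := exists_isProd β h a b
  have : c = c' := by
    refine Groth.Agent.Etbase.EtSite.sect_ext (sh C X) U _ _ fun x => ?_
    obtain ⟨V, g, v, hv, a₀, b₀, ha₀, hb₀, h3⟩ := hc x
    exact ⟨V, g, v, hv, h3.trans (hc' V g a₀ b₀ ha₀ hb₀).symm⟩
  rw [this]
  exact hc'

theorem IsProd.rs {U V : X.Etale} (k : V ⟶ U) {a : EtCoh.sect (sh A X) U} {b : EtCoh.sect (sh B X) U}
    {c : EtCoh.sect (sh C X) U} (hc : IsProd β h a b c) :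
    IsProd β h (rs _ k a) (rs _ k b) (rs _ k c) := by
  intro W g a₀ b₀ ha₀ hb₀
  rw [← rs_comp]
  exact hc W (g ≫ k) a₀ b₀ (by rw [ha₀, rs_comp]) (by rw [hb₀, rs_comp])

theorem IsProd.add_left {U : X.Etale} {a a' : EtCoh.sect (sh A X) U} {b : EtCoh.sect (sh B X) U}
    {c c' : EtCoh.sect (sh C X) U} (hc : IsProd β h a b c) (hc' : IsProd β h a' b c') :
    IsProd β h (a + a') b (c + c') := by
  refine IsProd.of_local fun x => ?_
  obtain ⟨V, g, v, hv, ⟨a₀, ha₀⟩, ⟨b₀, hb₀⟩⟩ := exists_un₂ a b x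
  obtain ⟨W, k, w, hw, a₁, ha₁⟩ := exists_un A V (K720.Tw.rs _ g a') v
  have ha₁ : un A W a₁ = K720.Tw.rs _ k (K720.Tw.rs _ g a') := ha₁
  refine ⟨W, k ≫ g, w, ?_, res A k a₀ + a₁, res B k b₀, ?_, ?_, ?_⟩
  · change (k.left ≫ g.left) w = x
    rw [Scheme.Hom.comp_apply, hw, hv]
  · rw [map_add, ← rs_un, ha₀, ha₁, map_add, rs_comp, rs_comp]
  · rw [← rs_un, hb₀, rs_comp]
  · rw [map_add, map_add, AddMonoidHom.add_apply, map_add]
    rw [hc W (k ≫ g) (res A k a₀) (res B k b₀) (by rw [← rs_un, ha₀, rs_comp]) (by rw [← rs_un, hb₀, rs_comp]),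
      hc' W (k ≫ g) a₁ (res B k b₀) (by rw [ha₁, rs_comp]) (by rw [← rs_un, hb₀, rs_comp])]

theorem IsProd.add_right {U : X.Etale} {a : EtCoh.sect (sh A X) U} {b b' : EtCoh.sect (sh B X) U}
    {c c' : EtCoh.sect (sh C X) U} (hc : IsProd β h a b c) (hc' : IsProd β h a b' c') :
    IsProd β h a (b + b') (c + c') := by
  refine IsProd.of_local fun x => ?_
  obtain ⟨V, g, v, hv, ⟨a₀, ha₀⟩, ⟨b₀, hb₀⟩⟩ := exists_un₂ a b x
  obtain ⟨W, k, w, hw, b₁, hb₁⟩ := exists_un B V (K720.Tw.rs _ g b') v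
  have hb₁ : un B W b₁ = K720.Tw.rs _ k (K720.Tw.rs _ g b') := hb₁
  refine ⟨W, k ≫ g, w, ?_, res A k a₀, res B k b₀ + b₁, ?_, ?_, ?_⟩
  · change (k.left ≫ g.left) w = x
    rw [Scheme.Hom.comp_apply, hw, hv]
  · rw [← rs_un, ha₀, rs_comp]
  · rw [map_add, ← rs_un, hb₀, hb₁, map_add, rs_comp, rs_comp]
  · rw [map_add, map_add, map_add]
    rw [hc W (k ≫ g) (res A k a₀) (res B k b₀) (by rw [← rs_un, ha₀, rs_comp]) (by rw [← rs_un, hb₀, rs_comp]),
      hc' W (k ≫ g) (res A k a₀) b₁ (by rw [← rs_un, ha₀, rs_comp]) (by rw [hb₁, rs_comp])]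

variable (β h)

/-- The pairing on sections. -/
def pr {U : X.Etale} (a : EtCoh.sect (sh A X) U) (b : EtCoh.sect (sh B X) U) : EtCoh.sect (sh C X) U :=
  (exists_isProd β h a b).choose

theorem isProd_pr {U : X.Etale} (a : EtCoh.sect (sh A X) U) (b : EtCoh.sect (sh B X) U) :
    IsProd β h a b (pr β h a b) := (exists_isProd β h a b).choose_spec

/-- The pairing of sheaves. -/
def Bi.sh : Pairing (sh A X) (sh B X) (sh C X) where
  app U := AddMonoidHom.mk' (fun a => AddMonoidHom.mk' (fun b => pr β h a b)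
      (fun b b' => (isProd_pr β h a (b + b')).unique ((isProd_pr β h a b).add_right (isProd_pr β h a b'))))
    (fun a a' => AddMonoidHom.ext fun b =>
      (isProd_pr β h (a + a') b).unique ((isProd_pr β h a b).add_left (isProd_pr β h a' b)))
  nat k a b := (isProd_pr β h (rs _ k a) (rs _ k b)).unique ((isProd_pr β h a b).rs k)

theorem Bi.sh_un (U : X.Etale) (a : A.obj Γ(U.left, ⊤)) (b : B.obj Γ(U.left, ⊤)) :
    (β.sh h).app U (un A U a) (un B U b) = un C U (β.app _ (h0 h U) a b) := by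
  have := isProd_pr β h (un A U a) (un B U b) U (𝟙 U) a b (rs_id _ _).symm (rs_id _ _).symm
  rw [rs_id] at this
  exact this

/-- Identities between sections can be checked on representable sections, locally. -/
theorem sect_induction₂ {U : X.Etale} (a : EtCoh.sect (sh A X) U) (b : EtCoh.sect (sh B X) U) {F : EtCoh.Ab X}
    (s t : EtCoh.sect F U) (H : ∀ (V : X.Etale) (g : V ⟶ U) (a₀ : A.obj Γ(V.left, ⊤)) (b₀ : B.obj Γ(V.left, ⊤)),
      un A V a₀ = rs _ g a → un B V b₀ = rs _ g b → rs F g s = rs F g t) : s = t := by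
  refine Groth.Agent.Etbase.EtSite.sect_ext F U _ _ fun x => ?_
  obtain ⟨V, g, v, hv, ⟨a₀, ha₀⟩, ⟨b₀, hb₀⟩⟩ := exists_un₂ a b x
  exact ⟨V, g, v, hv, H V g a₀ b₀ ha₀ hb₀⟩

/-- Compatibility of pairings with natural maps. -/
theorem Bi.sh_compat {A B C B' C' : CommRingCat.{u} ⥤ AddCommGrpCat.{u}} (β : Bi p A B C) (β' : Bi p A B' C')
    (φ : NT p B B') (ψ : NT p C C') (h : (p : Γ(X, ⊤)) = 0)
    (hc : ∀ (R : CommRingCat.{u}) (hR : (p : R) = 0) (a : A.obj R) (b : B.obj R),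
      ψ.app R hR (β.app R hR a b) = β'.app R hR a (φ.app R hR b))
    (U : X.Etale) (a : EtCoh.sect (K611.Sh.sh A X) U) (b : EtCoh.sect (K611.Sh.sh B X) U) :
    ap (ψ.sh h) U ((β.sh h).app U a b) = (β'.sh h).app U a (ap (φ.sh h) U b) := by
  refine sect_induction₂ a b _ _ fun V g a₀ b₀ ha hb => ?_
  rw [← ap_rs, ← (β.sh h).nat, ← (β'.sh h).nat, ← ap_rs, ← ha, ← hb, Bi.sh_un]
  change (ψ.sh h).hom.app (op V) (un C V _) = (β'.sh h).app V _ ((φ.sh h).hom.app (op V) (un B V b₀))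
  rw [NT.sh_un, NT.sh_un, Bi.sh_un, hc]

end K720.Pair
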