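import Groth.Agent.EtCoh.K720.Sym
import Groth.Agent.EtCoh.K720.Pair
import Groth.Agent.EtCoh.K611.Exact
import Groth.Agent.EtCoh.K611.Top

/-!
# The sheaves `G_m/m` and `(G_m ⊗ G_m)/m` as sheaves of functors on rings

`modF A m`: the functor `B ↦ A(B)/m`; `mulN A m m' k : modF A m → modF A m'`, `x ↦ k x` for `m' ∣ m k`;
`shMod : cokernel (m • 𝟙 (sh A X)) ≅ sh (modF A m) X`; `nuF m = modF GmF m`, `QnF m = modF TnF m`;
`nuIso : cokernel (powMap X m) ≅ sh (nuF m) X`; `nuSeq p a b : ν_{p^a} → ν_{p^(a+b)} → ν_{p^b}` short exact;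
`symB m : ν_m × ν_m → Q_m`.
-/

set_option autoImplicit false

universe u

open CategoryTheory CategoryTheory.Limits AlgebraicGeometry Opposite

noncomputable section

namespace K720.Nu

open K611.Sh K611.Seq K720.Sym K720.Tw K720.Pair

/-! ### Functors modulo `m` -/

section modF

variable (A : CommRingCat.{u} ⥤ AddCommGrpCat.{u}) (m : ℕ)

/-- The subgroup of multiples. -/
abbrev mulR (G : Type*) [AddCommGroup G] (m : ℕ) : AddSubgroup G := (nsmulAddMonoidHom (α := G) m).range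

/-- The functor `B ↦ A(B)/m`. -/
def modF : CommRingCat.{u} ⥤ AddCommGrpCat.{u} where
  obj B := AddCommGrpCat.of (A.obj B ⧸ mulR (A.obj B) m)
  map {B C} f := AddCommGrpCat.ofHom (QuotientAddGroup.map _ _ (A.map f).hom (by
    rintro _ ⟨x, rfl⟩
    exact ⟨A.map f x, (map_nsmul (A.map f).hom m x).symm⟩))
  map_id B := by
    apply AddCommGrpCat.hom_ext
    ext x
    change QuotientAddGroup.mk (A.map (𝟙 B) x) = QuotientAddGroup.mk x
    rw [A.map_id]
    rfl
  map_comp {B C D} f g := by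
    apply AddCommGrpCat.hom_ext
    ext x
    change QuotientAddGroup.mk (A.map (f ≫ g) x) = QuotientAddGroup.mk (A.map g (A.map f x))
    rw [A.map_comp]
    rfl

variable {A m}

/-- The class of an element. -/
def cm {B : CommRingCat.{u}} : A.obj B →+ (modF A m).obj B := QuotientAddGroup.mk' _

theorem cm_surjective {B : CommRingCat.{u}} : Function.Surjective (cm (A := A) (m := m) (B := B)) :=
  QuotientAddGroup.mk'_surjective _

theorem cm_eq_zero {B : CommRingCat.{u}} {x : A.obj B} : (cm x : (modF A m).obj B) = 0 ↔ ∃ y, m • y = x :=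
  QuotientAddGroup.eq_zero_iff x

theorem cm_map {B C : CommRingCat.{u}} (f : B ⟶ C) (x : A.obj B) :
    (modF A m).map f (cm x) = cm (A.map f x) := rfl

theorem nsmul_modF {B : CommRingCat.{u}} (x : (modF A m).obj B) : m • x = 0 := by
  obtain ⟨y, rfl⟩ := cm_surjective x
  rw [← map_nsmul]
  exact cm_eq_zero.2 ⟨y, rfl⟩

/-- Additive maps out of `A(B)/m`. -/
def mlift {B : CommRingCat.{u}} {G : Type*} [AddCommGroup G] (f : A.obj B →+ G) (h : ∀ x, m • f x = 0) :
    (modF A m).obj B →+ G :=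
  QuotientAddGroup.lift _ f (by
    rintro _ ⟨x, rfl⟩
    change f (m • x) = 0
    rw [map_nsmul, h])

theorem mlift_cm {B : CommRingCat.{u}} {G : Type*} [AddCommGroup G] (f : A.obj B →+ G) (h : ∀ x, m • f x = 0)
    (x : A.obj B) : mlift f h (cm x) = f x := rfl

variable (A)

/-- The projection `A → A/m`. -/
def cmN (p m : ℕ) : NT.{u} p A (modF A m) where
  app _ _ := cm
  nat _ _ _ _ _ _ := rfl

/-- Multiplication by `k` from `A/m` to `A/m'`, for `m' ∣ m k`. -/
def mulN (p m m' k : ℕ) (h : m' ∣ m * k) : NT.{u} p (modF A m) (modF A m') where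
  app B _ := mlift (k • cm) (fun x => by
    obtain ⟨l, hl⟩ := h
    change m • (k • cm x) = (0 : (modF A m').obj B)
    rw [smul_smul, hl, mul_comm m' l, mul_smul, nsmul_modF, smul_zero])
  nat B C _ _ f a := by
    obtain ⟨x, rfl⟩ := cm_surjective a
    change k • (cm (A.map f x) : (modF A m').obj C) = (modF A m').map f (k • cm x)
    exact (map_nsmul ((modF A m').map f).hom k (cm x)).symm

theorem mulN_cm (p m m' k : ℕ) (h : m' ∣ m * k) {B : CommRingCat.{u}} (hB : (p : B) = 0) (x : A.obj B) :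
    (mulN A p m m' k h).app B hB (cm x) = k • cm x := rfl

/-- All rings are good. -/
abbrev Tr (_ : CommRingCat.{u}) : Prop := True

theorem hasCharts_true (X : Scheme.{u}) : HasCharts X Tr := by
  intro U x
  obtain ⟨V, hV, hxV, -⟩ := exists_isAffineOpen_mem_and_subset (X := U.left) (U := ⊤) (x := x) trivial
  let V' : X.Etale := Scheme.Etale.mk (V.ι ≫ U.hom)
  let g : V' ⟶ U := MorphismProperty.Over.homMk V.ι rfl
  exact ⟨V', g, (⟨x, hxV⟩ : V), rfl, hV, trivial⟩

theorem charP_zero (X : Scheme.{u}) : ((0 : ℕ) : Γ(X, ⊤)) = 0 := Nat.cast_zero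

variable (X : Scheme.{u})

theorem cmN_comp (p : ℕ) (h : (p : Γ(X, ⊤)) = 0) : (m • 𝟙 (sh A X)) ≫ (cmN A p m).sh h = 0 := by
  refine K611.Sh.hom_ext _ _ _ fun U a => ?_
  change ((cmN A p m).sh h).hom.app (op U) ((m • 𝟙 (sh A X)).hom.app (op U) (un A U a)) = 0
  have : ∀ n : ℕ, (n • 𝟙 (sh A X)).hom.app (op U) (un A U a) = n • un A U a := by
    intro n
    induction n with
    | zero => rw [zero_smul, zero_smul]; rfl
    | succ n ih =>
      rw [succ_nsmul, succ_nsmul, ← ih]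
      rfl
  rw [this, map_nsmul, NT.sh_un, ← map_nsmul]
  have h2 : m • (cmN A p m).app Γ(U.left, ⊤) (h0 h U) a = 0 := nsmul_modF _
  rw [h2, map_zero]

theorem exact_cmN (p : ℕ) (h : (p : Γ(X, ⊤)) = 0) :
    (ShortComplex.mk (m • 𝟙 (sh A X)) ((cmN A p m).sh h) (cmN_comp A X p h)).Exact := by
  let μ : NT.{u} p A A :=
    { app := fun _ _ => nsmulAddMonoidHom m
      nat := fun B C _ _ f a => (map_nsmul (A.map f).hom m a).symm }
  have e : μ.sh h = m • 𝟙 (sh A X) := by
    refine K611.Sh.hom_ext _ _ _ fun U a => ?_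
    refine (NT.sh_un _ _ _ _).trans ?_
    change un A U (m • a) = _
    rw [map_nsmul]
    have : ∀ n : ℕ, (n • 𝟙 (sh A X)).hom.app (op U) (un A U a) = n • un A U a := by
      intro n
      induction n with
      | zero => rw [zero_smul, zero_smul]; rfl
      | succ n ih =>
        rw [succ_nsmul, succ_nsmul, ← ih]
        rfl
    exact (this m).symm
  have h1 := exact_sh (hasCharts_true X) h μ (cmN A p m) (by rw [e]; exact cmN_comp A X p h) (by
    intro B _ hB y hy q
    obtain ⟨z, hz⟩ := cm_eq_zero.1 hy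
    refine ⟨B, 𝟙 B, RingHom.Etale.of_bijective Function.bijective_id, hB, q, rfl, z, ?_⟩
    rw [A.map_id]
    exact hz)
  convert h1 using 2
  exact e.symm

theorem epi_cmN (p : ℕ) (h : (p : Γ(X, ⊤)) = 0) : Epi ((cmN A p m).sh (X := X) h) :=
  epi_sh (hasCharts_true X) h _ (by
    intro B _ hB y q
    obtain ⟨z, hz⟩ := cm_surjective y
    refine ⟨B, 𝟙 B, RingHom.Etale.of_bijective Function.bijective_id, hB, q, rfl, z, ?_⟩
    rw [(modF A m).map_id]
    exact hz)

variable (m)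

/-- The cokernel of `m` on `sh A`. -/
def shMod : cokernel (m • 𝟙 (sh A X)) ≅ sh (modF A m) X :=
  have := epi_cmN (m := m) A X 0 (charP_zero X)
  (cokernelIsCokernel _).coconePointUniqueUpToIso (exact_cmN (m := m) A X 0 (charP_zero X)).gIsCokernel

theorem π_shMod : cokernel.π (m • 𝟙 (sh A X)) ≫ (shMod A m X).hom = (cmN A 0 m).sh (charP_zero X) := by
  have := epi_cmN (m := m) A X 0 (charP_zero X)
  exact (cokernelIsCokernel (m • 𝟙 (sh A X))).comp_coconePointUniqueUpToIso_hom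
    (exact_cmN (m := m) A X 0 (charP_zero X)).gIsCokernel WalkingParallelPair.one

end modF

/-! ### `G_m/m` -/

/-- Units modulo `m`-th powers. -/
abbrev nuF (m : ℕ) : CommRingCat.{u} ⥤ AddCommGrpCat.{u} := modF GmF m

/-- The sheaf `G_m/m`. -/
def nuIso (X : Scheme.{u}) (m : ℕ) : cokernel (EtCoh.powMap X m) ≅ sh (nuF m) X :=
  cokernel.mapIso _ _ (K611.Exact.gmIso X) (K611.Exact.gmIso X) (by
    rw [EtCoh.powMap, Preadditive.nsmul_comp, Preadditive.comp_nsmul, Category.id_comp, Category.comp_id]) ≪≫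
    shMod GmF m X

/-- The class of a unit. -/
def cu {m : ℕ} {B : CommRingCat.{u}} (v : Bˣ) : (nuF m).obj B := cm (mkU v)

theorem cu_mul {m : ℕ} {B : CommRingCat.{u}} (v w : Bˣ) : (cu (v * w) : (nuF m).obj B) = cu v + cu w := map_add cm _ _

theorem cu_surjective {m : ℕ} {B : CommRingCat.{u}} (a : (nuF m).obj B) : ∃ v : Bˣ, cu v = a := by
  obtain ⟨x, rfl⟩ := cm_surjective a
  exact ⟨toU x, rfl⟩

theorem cu_eq_zero {m : ℕ} {B : CommRingCat.{u}} {v : Bˣ} : (cu v : (nuF m).obj B) = 0 ↔ ∃ w : Bˣ, w ^ m = v := by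
  rw [cu, cm_eq_zero]
  constructor
  · rintro ⟨y, hy⟩
    exact ⟨toU y, congrArg toU hy⟩
  · rintro ⟨y, hy⟩
    exact ⟨mkU y, congrArg mkU hy⟩

section exact

variable (p : ℕ) [hp : Fact p.Prime] (a b : ℕ)

/-- `ν_{p^a} → ν_{p^(a+b)}`. -/
def inN : NT.{u} p (nuF (p ^ a)) (nuF (p ^ (a + b))) := mulN GmF p _ _ (p ^ b) (by rw [pow_add])

/-- `ν_{p^(a+b)} → ν_{p^b}`. -/
def redN : NT.{u} p (nuF (p ^ (a + b))) (nuF (p ^ b)) := mulN GmF p _ _ 1 (by rw [mul_one, pow_add]; exact Dvd.intro_left _ rfl)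

omit hp in
theorem inN_cu {B : CommRingCat.{u}} (hB : (p : B) = 0) (v : Bˣ) : (inN p a b).app B hB (cu v) = cu (v ^ p ^ b) := by
  change (p ^ b) • cm (mkU v) = _
  rw [← map_nsmul]
  rfl

omit hp in
theorem redN_cu {B : CommRingCat.{u}} (hB : (p : B) = 0) (v : Bˣ) : (redN p a b).app B hB (cu v) = cu v := by
  change 1 • cm (mkU v) = _
  rw [one_smul]
  rfl

theorem red_of_good {B : CommRingCat.{u}} (h : Good p B) (y : B) (n : ℕ) (hy : y ^ p ^ n = 0) : y = 0 := by
  obtain ⟨hc, m, F, hF⟩ := h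
  induction n with
  | zero => rwa [pow_zero, pow_one] at hy
  | succ n ih => exact ih (K611.Top.red_of_isPB p _ hF _ (by rw [← pow_mul, ← pow_succ]; exact hy))

theorem eq_of_pow_eq {B : CommRingCat.{u}} (h : Good p B) (hB : (p : B) = 0) (x y : B) (n : ℕ)
    (hy : x ^ p ^ n = y ^ p ^ n) : x = y := by
  rw [← sub_eq_zero]
  apply red_of_good p h _ n
  have : CharP B p := h.1
  rw [sub_pow_char_pow, hy, sub_self]

theorem inj_inN : LocInj.{u} (Good p) (inN p a b) := by
  intro B hg hB y hy q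
  refine ⟨B, 𝟙 B, RingHom.Etale.of_bijective Function.bijective_id, q, rfl, ?_⟩
  rw [(nuF (p ^ a)).map_id]
  change y = 0
  obtain ⟨v, rfl⟩ := cu_surjective y
  rw [inN_cu, cu_eq_zero] at hy
  obtain ⟨w, hw⟩ := hy
  rw [cu_eq_zero]
  refine ⟨w, Units.ext (eq_of_pow_eq p hg hB _ _ b ?_)⟩
  rw [Units.val_pow_eq_pow_val, ← pow_mul, ← pow_add]
  have := congrArg Units.val hw
  simpa using this

omit hp in
theorem exact_in_red : LocExact.{u} (Good p) (inN p a b) (redN p a b) := by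
  intro B hg hB y hy q
  refine ⟨B, 𝟙 B, RingHom.Etale.of_bijective Function.bijective_id, hB, q, rfl, ?_⟩
  rw [(nuF (p ^ (a + b))).map_id]
  change ∃ z, _ = y
  obtain ⟨v, rfl⟩ := cu_surjective y
  rw [redN_cu, cu_eq_zero] at hy
  obtain ⟨w, hw⟩ := hy
  exact ⟨cu w, by rw [inN_cu, hw]⟩

omit hp in
theorem surj_red : LocSurj.{u} (Good p) (redN p a b) := by
  intro B hg hB y q
  refine ⟨B, 𝟙 B, RingHom.Etale.of_bijective Function.bijective_id, hB, q, rfl, ?_⟩
  rw [(nuF (p ^ b)).map_id]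
  change ∃ z, _ = y
  obtain ⟨v, rfl⟩ := cu_surjective y
  exact ⟨cu v, redN_cu p a b hB v⟩

omit hp in
theorem in_red {B : CommRingCat.{u}} (hB : (p : B) = 0) (y : (nuF (p ^ a)).obj B) :
    (redN p a b).app B hB ((inN p a b).app B hB y) = 0 := by
  obtain ⟨v, rfl⟩ := cu_surjective y
  rw [inN_cu, redN_cu, cu_eq_zero]
  exact ⟨v, rfl⟩

variable {X : Scheme.{u}} (h : (p : Γ(X, ⊤)) = 0)

/-- `ν_{p^a} → ν_{p^(a+b)} → ν_{p^b}`. -/
def nuSeq : ShortComplex (EtCoh.Ab X) :=
  ShortComplex.mk ((inN p a b).sh h) ((redN p a b).sh h) (by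
    rw [← NT.sh_comp]
    exact NT.sh_eq_zero _ _ fun B hB y => in_red p a b hB y)

theorem nuSeq_shortExact (hX : HasCharts X (Good p)) : (nuSeq p a b (X := X) h).ShortExact where
  exact := exact_sh hX h _ _ _ (exact_in_red p a b)
  mono_f := mono_sh hX h _ (inj_inN p a b)
  epi_g := epi_sh hX h _ (surj_red p a b)

end exact

/-! ### Symbols -/

/-- Pairs of units. -/
def TnF : CommRingCat.{u} ⥤ AddCommGrpCat.{u} where
  obj B := AddCommGrpCat.of (Tn B)
  map f := AddCommGrpCat.ofHom (tmap f.hom)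
  map_id B := by
    apply AddCommGrpCat.hom_ext
    exact tmap_id
  map_comp f g := by
    apply AddCommGrpCat.hom_ext
    exact tmap_comp f.hom g.hom

/-- Pairs of units modulo `m`. -/
abbrev QnF (m : ℕ) : CommRingCat.{u} ⥤ AddCommGrpCat.{u} := modF TnF m

/-- The symbol `{u, v}` modulo `m`. -/
def sm {m : ℕ} {B : CommRingCat.{u}} (v w : Bˣ) : (QnF m).obj B := cm (A := TnF) (sb v w : Tn B)

theorem sm_mul_left {m : ℕ} {B : CommRingCat.{u}} (v v' w : Bˣ) :
    (sm (v * v') w : (QnF m).obj B) = sm v w + sm v' w := by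
  unfold sm
  rw [sb_mul_left]
  exact map_add cm _ _

theorem sm_mul_right {m : ℕ} {B : CommRingCat.{u}} (v w w' : Bˣ) :
    (sm v (w * w') : (QnF m).obj B) = sm v w + sm v w' := by
  unfold sm
  rw [sb_mul_right]
  exact map_add cm _ _

theorem sm_map {m : ℕ} {B C : CommRingCat.{u}} (f : B ⟶ C) (v w : Bˣ) :
    (QnF m).map f (sm v w) = sm (Units.map f.hom.toMonoidHom v) (Units.map f.hom.toMonoidHom w) :=
  congrArg (cm (A := TnF)) (tmap_sb f.hom v w)

/-- The pairing `ν_m × ν_m → Q_m`. -/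
def symB (p m : ℕ) : Bi.{u} p (nuF m) (nuF m) (QnF m) where
  app B _ := mlift (AddMonoidHom.mk' (fun v => mlift (AddMonoidHom.mk' (fun w => sm (toU v) (toU w))
      (fun w w' => sm_mul_right _ _ _)) (fun w => nsmul_modF _))
      (fun v v' => by
        apply AddMonoidHom.ext
        intro w
        obtain ⟨w, rfl⟩ := cm_surjective w
        exact sm_mul_left _ _ _))
    (fun v => by
      apply AddMonoidHom.ext
      intro w
      exact nsmul_modF _)
  nat B C _ _ f a b := by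
    obtain ⟨v, rfl⟩ := cu_surjective a
    obtain ⟨w, rfl⟩ := cu_surjective b
    exact (sm_map f v w).symm

theorem symB_cu (p m : ℕ) {B : CommRingCat.{u}} (hB : (p : B) = 0) (v w : Bˣ) :
    (symB p m).app B hB (cu v) (cu w) = sm v w := rfl

end K720.Nu
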