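import Groth.Agent.EtCoh.K720.KPi1
import Groth.Agent.S0106
import Mathlib.AlgebraicGeometry.ZariskisMainTheorem

/-!
# K(π,1) neighbourhoods via quasi-finite maps which are étale over an open part of the base
-/

set_option autoImplicit false
universe u
open CategoryTheory CategoryTheory.Limits AlgebraicGeometry Opposite
open scoped Groth.Agent.Etcore.EtInst
open Groth.Agent.Etcore.EtInst

namespace K720.QfKPi1

open KPi1

/-- The K(π,1) property. -/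
def KP (Z : Scheme.{u}) : Prop := ∀ (F : EtCoh.Ab Z), EtCoh.IsFiniteLocallyConstant F →
  (∃ n : ℕ, 0 < n ∧ EtCoh.KilledBy n F) → ∀ q : ℕ, 0 < q → ∀ ζ : HH Z F q, Kills F q ζ

theorem kp_iff (Z : Scheme.{u}) : KP Z ↔ ∀ (F : EtCoh.Ab Z), EtCoh.IsFiniteLocallyConstant F →
    (∃ n : ℕ, 0 < n ∧ EtCoh.KilledBy n F) → ∀ q : ℕ, 0 < q → ∀ ζ : EtCoh.H Z F q,
      ∃ (Z' : Scheme.{u}) (g : Z' ⟶ Z), IsFinite g ∧ Etale g ∧ Surjective g ∧
        ∀ [PreservesFiniteLimits (EtCoh.pull g)], EtCore.Hpull g F q ζ = 0 :=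
  ⟨fun h F hF hn q hq ζ => (kills_iff F q ζ).1 (h F hF hn q hq ζ),
    fun h F hF hn q hq ζ => (kills_iff F q ζ).2 (h F hF hn q hq ζ)⟩

theorem KP.of_finite_etale {X Y : Scheme.{u}} (f : X ⟶ Y) [IsFinite f] [AlgebraicGeometry.Etale f]
    (h : KP Y) : KP X := by
  intro F hF htor q hq ζ
  obtain ⟨n, hn, hk⟩ := htor
  exact Kills.of_push f F q ζ fun η => h _ (Groth.Agent.S0106.result f F hF)
    ⟨n, hn, Groth.Agent.Sga4B.ShriekTools.killedBy_map (EtCoh.push f) n F hk⟩ q hq η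

theorem locallyQuasiFinite_of_etale {X Y : Scheme.{u}} (f : X ⟶ Y) [AlgebraicGeometry.Etale f] :
    LocallyQuasiFinite f where
  quasiFinite_appLE {U} hU {V} hV e := by
    have h := HasRingHomProperty.appLE @AlgebraicGeometry.Etale f ‹_› ⟨U, hU⟩ ⟨V, hV⟩ e
    algebraize [(f.appLE U V e).hom]
    change Algebra.QuasiFinite Γ(Y, U) Γ(X, V)
    infer_instance

/-- étale locus of a base change -/
theorem etale_preimage_fst {X Y T : Scheme.{u}} (h : X ⟶ Y) (g : T ⟶ Y) (O : X.Opens)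
    (hO : AlgebraicGeometry.Etale (O.ι ≫ h)) :
    AlgebraicGeometry.Etale ((pullback.fst h g ⁻¹ᵁ O).ι ≫ pullback.snd h g) := by
  have h2 := (isPullback_morphismRestrict (pullback.fst h g) O).flip.paste_horiz
    (IsPullback.of_hasPullback h g).flip
  exact MorphismProperty.of_isPullback h2.flip hO

theorem main {S X U₀ Y : Scheme.{u}} [IsAffine S] (DS : S.Opens) (pX : X ⟶ S) (e₀ : U₀ ⟶ X)
    [AlgebraicGeometry.Etale e₀] (u₀ : U₀) (h : U₀ ⟶ Y) [LocallyOfFiniteType h]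
    [LocallyQuasiFinite h] [IsAffine Y] (pY : Y ⟶ S) [LocallyOfFiniteType pY] [Smooth pY]
    (hc : h ≫ pY = e₀ ≫ pX) (N : Y.Opens) (hN : h u₀ ∈ N)
    (het : AlgebraicGeometry.Etale ((h ⁻¹ᵁ (N ⊓ pY ⁻¹ᵁ DS)).ι ≫ h))
    (hF : ∀ (Y : Scheme.{u}) (pY : Y ⟶ S) [LocallyOfFiniteType pY] [QuasiCompact pY] [Smooth pY]
      (y : Y), ∃ W : Y.Opens, y ∈ W ∧ KP ↑(W ⊓ pY ⁻¹ᵁ DS)) :
    ∃ (U : Scheme.{u}) (e : U ⟶ X), AlgebraicGeometry.Etale e ∧ e₀ u₀ ∈ Set.range e ∧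
      KP ↑((e ≫ pX) ⁻¹ᵁ DS) := by
  obtain ⟨O, hO, huO, -⟩ := exists_isAffineOpen_mem_and_subset
    (show u₀ ∈ (⊤ : U₀.Opens) from trivial)
  have : IsAffine O := hO
  let u : O := ⟨u₀, huO⟩
  let h₁ : (O : Scheme.{u}) ⟶ Y := O.ι ≫ h
  have hu : h₁ u = h u₀ := by
    change (O.ι ≫ h) u = _
    rw [Scheme.Hom.comp_apply]
    rfl
  obtain ⟨U₁, g, hg, -, V₁, W₁, v, -, hfin, hv⟩ :=
    exists_etale_isCompl_of_quasiFiniteAt h₁ (rfl : h₁ u = h₁ u) (h₁.quasiFiniteAt u)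
  let P := pullback h₁ g
  let y₁ : U₁ := pullback.snd h₁ g v.1
  have hy₁ : g y₁ = h u₀ := by
    change g (pullback.snd h₁ g v.1) = _
    rw [← Scheme.Hom.comp_apply, ← pullback.condition, Scheme.Hom.comp_apply, hv, hu]
  have hy₁N : y₁ ∈ g ⁻¹ᵁ N := by
    change g y₁ ∈ N
    rw [hy₁]
    exact hN
  obtain ⟨O₁, hO₁, hyO, hON⟩ := exists_isAffineOpen_mem_and_subset hy₁N
  have : IsAffine O₁ := hO₁
  let pY₁ : (O₁ : Scheme.{u}) ⟶ S := O₁.ι ≫ g ≫ pY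
  obtain ⟨W, hyW, hKP⟩ := hF O₁ pY₁ ⟨y₁, hyO⟩
  let OW : U₁.Opens := O₁.ι ''ᵁ W
  let UU : P.Opens := V₁ ⊓ pullback.snd h₁ g ⁻¹ᵁ OW
  let e : (UU : Scheme.{u}) ⟶ X := UU.ι ≫ pullback.fst h₁ g ≫ O.ι ≫ e₀
  refine ⟨UU, e, inferInstance, ?_, ?_⟩
  · have hvU : v.1 ∈ UU := ⟨v.2, ⟨y₁, hyO⟩, hyW, rfl⟩
    refine ⟨⟨v.1, hvU⟩, ?_⟩
    change (UU.ι ≫ pullback.fst h₁ g ≫ O.ι ≫ e₀) _ = _
    rw [Scheme.Hom.comp_apply, Scheme.Hom.comp_apply, Scheme.Hom.comp_apply]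
    change e₀ (O.ι (pullback.fst h₁ g v.1)) = _
    rw [hv]
    rfl
  -- the generic fibre
  let G := (e ≫ pX) ⁻¹ᵁ DS
  let Wη : (O₁ : Scheme.{u}).Opens := W ⊓ pY₁ ⁻¹ᵁ DS
  let k : (Wη : Scheme.{u}) ⟶ U₁ := Wη.ι ≫ O₁.ι
  let a : (G : Scheme.{u}) ⟶ P := G.ι ≫ UU.ι
  let ψ : (G : Scheme.{u}) ⟶ U₁ := a ≫ pullback.snd h₁ g
  have hcomm : pullback.fst h₁ g ≫ O.ι ≫ e₀ ≫ pX = pullback.snd h₁ g ≫ g ≫ pY := by
    rw [← hc, ← pullback.condition_assoc, Category.assoc]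
  have hcomm' : ∀ t : P, (g ≫ pY) (pullback.snd h₁ g t) =
      pX (e₀ (O.ι (pullback.fst h₁ g t))) := by
    intro t
    have := congrArg (fun f : P ⟶ S => f t) hcomm
    simp only [Scheme.Hom.comp_apply] at this ⊢
    exact this.symm
  have hG : ∀ t : G, pX (e₀ (O.ι (pullback.fst h₁ g (a t)))) ∈ DS := fun t => t.2
  have hr : ∀ t : P, t ∈ V₁ → (pullback.snd h₁ g t ∈ Set.range k ↔ t ∈ Set.range a) := by
    intro t htV
    constructor
    · rintro ⟨w, hw⟩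
      have hw1 : (Wη.ι w : (O₁ : Scheme.{u})) ∈ W := w.2.1
      have hw2 : pY₁ (Wη.ι w) ∈ DS := w.2.2
      have hw' : pullback.snd h₁ g t = O₁.ι (Wη.ι w) := hw.symm
      have htU : t ∈ UU := ⟨htV, Wη.ι w, hw1, hw⟩
      have ht : (e ≫ pX) ⟨t, htU⟩ ∈ DS := by
        change pX (e₀ (O.ι (pullback.fst h₁ g t))) ∈ DS
        rw [← hcomm' t, hw']
        exact hw2
      exact ⟨⟨⟨t, htU⟩, ht⟩, rfl⟩
    · rintro ⟨s, rfl⟩
      obtain ⟨w, hw, hw'⟩ : pullback.snd h₁ g (a s) ∈ O₁.ι ''ᵁ W := (G.ι s).2.2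
      have hw' : O₁.ι w = pullback.snd h₁ g (a s) := hw'
      have hw2 : pY₁ w ∈ DS := by
        change (g ≫ pY) (O₁.ι w) ∈ DS
        rw [hw', hcomm']
        exact hG s
      exact ⟨⟨w, hw, hw2⟩, hw'⟩
  have hψ : Set.range ψ ⊆ Set.range k := by
    rintro _ ⟨s, rfl⟩
    exact (hr (a s) (G.ι s).2.1).2 ⟨s, rfl⟩
  let ρ : (G : Scheme.{u}) ⟶ Wη := IsOpenImmersion.lift k ψ hψ
  have hρ : ρ ≫ k = ψ := IsOpenImmersion.lift_fac k ψ hψ
  -- finiteness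
  let l : (G : Scheme.{u}) ⟶ V₁ := G.ι ≫ P.homOfLE inf_le_left
  have hl : l ≫ V₁.ι = a := by
    change (G.ι ≫ P.homOfLE inf_le_left) ≫ V₁.ι = G.ι ≫ UU.ι
    rw [Category.assoc, Scheme.homOfLE_ι]
  have hfinρ : IsFinite ρ := by
    have hsq : IsPullback ρ l k (V₁.ι ≫ pullback.snd h₁ g) := by
      apply IsOpenImmersion.isPullback
      · rw [hρ, ← Category.assoc, hl]
      · ext t
        change (V₁.ι ≫ pullback.snd h₁ g) t ∈ Set.range k ↔ t ∈ Set.range l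
        rw [Scheme.Hom.comp_apply]
        refine (hr _ t.2).trans ?_
        constructor
        · rintro ⟨s, hs⟩
          refine ⟨s, V₁.ι.injective ?_⟩
          rw [← Scheme.Hom.comp_apply, hl, hs]
          rfl
        · rintro ⟨s, rfl⟩
          refine ⟨s, ?_⟩
          rw [← hl, Scheme.Hom.comp_apply]
          rfl
    exact MorphismProperty.of_isPullback hsq.flip hfin
  -- étaleness
  have hetρ : AlgebraicGeometry.Etale ρ := by
    let O2 : (O : Scheme.{u}).Opens := O.ι ⁻¹ᵁ (h ⁻¹ᵁ (N ⊓ pY ⁻¹ᵁ DS))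
    have hO2' : AlgebraicGeometry.Etale (O2.ι ≫ h₁) := by
      have h1 : O2.ι ≫ h₁ = (O.ι ∣_ (h ⁻¹ᵁ (N ⊓ pY ⁻¹ᵁ DS))) ≫
          (h ⁻¹ᵁ (N ⊓ pY ⁻¹ᵁ DS)).ι ≫ h := by
        rw [← Category.assoc (O.ι ∣_ _), morphismRestrict_ι, Category.assoc]
      rw [h1]
      infer_instance
    have h2 := etale_preimage_fst h₁ g O2 hO2'
    have h3 : ∀ s : G, a s ∈ pullback.fst h₁ g ⁻¹ᵁ O2 := by
      intro s
      have hs := hG s
      change h (O.ι (pullback.fst h₁ g (a s))) ∈ N ∧ pY (h (O.ι (pullback.fst h₁ g (a s)))) ∈ DS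
      obtain ⟨w, hw, hw'⟩ : pullback.snd h₁ g (a s) ∈ O₁.ι ''ᵁ W := (G.ι s).2.2
      have hw' : O₁.ι w = pullback.snd h₁ g (a s) := hw'
      have h7 : h (O.ι (pullback.fst h₁ g (a s))) = g (pullback.snd h₁ g (a s)) := by
        have := congrArg (fun f : P ⟶ Y => f (a s)) (pullback.condition (f := h₁) (g := g))
        simp only [Scheme.Hom.comp_apply] at this
        exact this
      refine ⟨?_, ?_⟩
      · rw [h7]
        exact hON (show pullback.snd h₁ g (a s) ∈ O₁ by rw [← hw']; exact w.2)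
      · have h8 := hcomm' (a s)
        rw [Scheme.Hom.comp_apply] at h8
        rw [h7, h8]
        exact hs
    have h4 : Set.range a ⊆ Set.range (pullback.fst h₁ g ⁻¹ᵁ O2).ι := by
      rintro _ ⟨s, rfl⟩
      rw [Scheme.Opens.range_ι]
      exact h3 s
    let b := IsOpenImmersion.lift (pullback.fst h₁ g ⁻¹ᵁ O2).ι a h4
    have hb : b ≫ (pullback.fst h₁ g ⁻¹ᵁ O2).ι = a := IsOpenImmersion.lift_fac _ _ _
    have h5 : IsOpenImmersion b := by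
      have : IsOpenImmersion (b ≫ (pullback.fst h₁ g ⁻¹ᵁ O2).ι) := by
        rw [hb]
        infer_instance
      exact IsOpenImmersion.of_comp b (pullback.fst h₁ g ⁻¹ᵁ O2).ι
    have h6 : AlgebraicGeometry.Etale (ρ ≫ k) := by
      rw [hρ]
      change AlgebraicGeometry.Etale (a ≫ pullback.snd h₁ g)
      rw [← hb, Category.assoc]
      infer_instance
    exact AlgebraicGeometry.Etale.of_comp ρ k
  exact KP.of_finite_etale ρ hKP

end K720.QfKPi1
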