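import Mathlib.RingTheory.Etale.StandardEtale
import Mathlib.RingTheory.DiscreteValuationRing.Basic
import Mathlib.RingTheory.AdjoinRoot
import Mathlib.Algebra.CharP.Basic
import Mathlib.Algebra.Polynomial.Derivative
import Mathlib.RingTheory.Localization.Away.Basic
import Mathlib.RingTheory.RingHom.Etale
import Mathlib.RingTheory.RingHom.Finite

/-!
# Semistable algebras as finite covers of affine space, étale on the generic fibre near the special fibre
-/

set_option autoImplicit false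
universe u

namespace K720.Semistable

open Polynomial

variable {V : Type u} [CommRing V] {ι : Type} [DecidableEq ι] (i₀ : ι) (σ : Finset ι) (q : ℕ) (ϖ : V)

/-- the coordinate ring of the base -/
abbrev A (V : Type u) [CommRing V] {ι : Type} (i₀ : ι) := MvPolynomial {i : ι // i ≠ i₀} V

/-- coordinates of the base -/
noncomputable def y (i : ι) : A V i₀ := if h : i ≠ i₀ then MvPolynomial.X ⟨i, h⟩ else 0

/-- the relation -/
noncomputable def rel : MvPolynomial ι V := (∏ i ∈ σ, MvPolynomial.X i) - MvPolynomial.C ϖ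

/-- the polynomial -/
noncomputable def F : (A V i₀)[X] :=
  X * ∏ i ∈ σ.erase i₀, (C (y i₀ i) + X ^ q) - C (MvPolynomial.C ϖ)

/-- the change of coordinates -/
noncomputable def T : MvPolynomial ι V →+* (A V i₀)[X] :=
  MvPolynomial.eval₂Hom (C.comp MvPolynomial.C) fun i =>
    if i = i₀ then X else if i ∈ σ then C (y i₀ i) + X ^ q else C (y i₀ i)

/-- the map from the base -/
noncomputable def θ : A V i₀ →+* MvPolynomial ι V :=
  MvPolynomial.eval₂Hom MvPolynomial.C fun j =>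
    if j.1 ∈ σ then MvPolynomial.X j.1 - MvPolynomial.X i₀ ^ q else MvPolynomial.X j.1

/-- the inverse change of coordinates -/
noncomputable def T' : (A V i₀)[X] →+* MvPolynomial ι V :=
  eval₂RingHom (θ i₀ σ q) (MvPolynomial.X i₀)

theorem T'_comp_T : (T' i₀ σ q).comp (T i₀ σ q) = RingHom.id (MvPolynomial ι V) := by
  apply MvPolynomial.ringHom_ext
  · intro r
    simp [T, T', θ]
  · intro i
    by_cases h : i = i₀
    · subst h
      simp [T, T']
    · by_cases h' : i ∈ σ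
      · simp [T, T', θ, h, h', y]
      · simp [T, T', θ, h, h', y]

theorem T_comp_T' : (T i₀ σ q).comp (T' i₀ σ q) = RingHom.id (A V i₀)[X] := by
  apply Polynomial.ringHom_ext
  · intro r
    have : ((T i₀ σ q).comp (θ i₀ σ q) : A V i₀ →+* (A V i₀)[X]) = C := by
      apply MvPolynomial.ringHom_ext
      · intro r
        simp [T, θ]
      · rintro ⟨i, h⟩
        by_cases h' : i ∈ σ
        · simp [T, θ, h, h', y]
        · simp [T, θ, h, h', y]
    have h2 := RingHom.congr_fun this r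
    simpa [T'] using h2
  · simp [T, T']

/-- the change of coordinates -/
noncomputable def Te : MvPolynomial ι V ≃+* (A V i₀)[X] :=
  RingEquiv.ofRingHom (T i₀ σ q) (T' i₀ σ q) (T_comp_T' i₀ σ q) (T'_comp_T i₀ σ q)

theorem T_X₀ : T (V := V) i₀ σ q (MvPolynomial.X i₀) = X := by
  simp [T]

theorem T_X {i : ι} (h1 : i ≠ i₀) (h2 : i ∈ σ) :
    T (V := V) i₀ σ q (MvPolynomial.X i) = C (y i₀ i) + X ^ q := by
  simp [T, h1, h2]

theorem T_C (r : V) : T i₀ σ q (MvPolynomial.C r) = C (MvPolynomial.C r) := by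
  simp [T]

theorem T_rel (h : i₀ ∈ σ) : T i₀ σ q (rel σ ϖ) = F i₀ σ q ϖ := by
  have h3 : ∏ i ∈ σ.erase i₀, T (V := V) i₀ σ q (MvPolynomial.X i) =
      ∏ i ∈ σ.erase i₀, (C (y i₀ i) + X ^ q) :=
    Finset.prod_congr rfl fun i hi =>
      T_X i₀ σ q (Finset.ne_of_mem_erase hi) (Finset.mem_of_mem_erase hi)
  rw [rel, F, map_sub, map_prod, ← Finset.mul_prod_erase σ _ h, T_X₀, T_C, h3]

theorem monic_prod (hq : 0 < q) : (∏ i ∈ σ.erase i₀, (C (y (V := V) i₀ i) + X ^ q)).Monic := by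
  apply monic_prod_of_monic
  intro i _
  rw [add_comm]
  exact monic_X_pow_add_C _ hq.ne'

theorem monic_F [Nontrivial V] (hq : 0 < q) : (F i₀ σ q ϖ).Monic := by
  have h1 := monic_prod (V := V) i₀ σ q hq
  have h2 : (X * ∏ i ∈ σ.erase i₀, (C (y (V := V) i₀ i) + X ^ q)).Monic := monic_X.mul h1
  refine Monic.sub_of_left h2 (lt_of_le_of_lt degree_C_le ?_)
  rw [← natDegree_pos_iff_degree_pos, Monic.natDegree_mul monic_X h1, natDegree_X]
  omega

theorem exists_G : ∃ G : (A V i₀)[X], derivative (∏ i ∈ σ.erase i₀, (C (y (V := V) i₀ i) + X ^ q)) =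
    (q : (A V i₀)[X]) * G := by
  have : (q : (A V i₀)[X]) ∣ derivative (∏ i ∈ σ.erase i₀, (C (y (V := V) i₀ i) + X ^ q)) := by
    rw [derivative_prod_finset]
    refine Finset.dvd_sum fun i _ => Dvd.dvd.mul_left ?_ _
    rw [derivative_add, derivative_C, zero_add, derivative_X_pow]
    exact ⟨X ^ (q - 1), by simp⟩
  exact this

theorem exists_H {b : V} (hq : (q : V) = ϖ ^ 2 * b) : ∃ H : (A V i₀)[X],
    X * derivative (F i₀ σ q ϖ) = F i₀ σ q ϖ + C (MvPolynomial.C ϖ) * (1 + C (MvPolynomial.C ϖ) * H) := by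
  obtain ⟨G, hG⟩ := exists_G (V := V) i₀ σ q
  refine ⟨C (MvPolynomial.C b) * X ^ 2 * G, ?_⟩
  have hq' : (q : (A V i₀)[X]) = C (MvPolynomial.C ϖ) ^ 2 * C (MvPolynomial.C b) := by
    rw [← map_pow, ← map_pow, ← map_mul, ← map_mul, ← hq]
    simp
  rw [hq'] at hG
  rw [F, derivative_sub, derivative_C, sub_zero, derivative_mul, derivative_X, hG]
  ring

/-- the semistable algebra -/
abbrev R (σ : Finset ι) (ϖ : V) := MvPolynomial ι V ⧸ Ideal.span {rel σ ϖ}

/-- the structure map over the base -/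
noncomputable def θ' : A V i₀ →+* R σ ϖ := (Ideal.Quotient.mk _).comp (θ i₀ σ q)

theorem map_span (h : i₀ ∈ σ) : Ideal.span {F i₀ σ q ϖ} =
    Ideal.map (Te (V := V) i₀ σ q : MvPolynomial ι V →+* (A V i₀)[X]) (Ideal.span {rel σ ϖ}) := by
  rw [Ideal.map_span, Set.image_singleton]
  congr 2
  exact (T_rel i₀ σ q ϖ h).symm

/-- the semistable algebra as a monogenic algebra over the base -/
noncomputable def e (h : i₀ ∈ σ) : R σ ϖ ≃+* AdjoinRoot (F i₀ σ q ϖ) :=
  Ideal.quotientEquiv _ _ (Te (V := V) i₀ σ q) (map_span i₀ σ q ϖ h)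

theorem e_mk (h : i₀ ∈ σ) (x : MvPolynomial ι V) :
    e i₀ σ q ϖ h (Ideal.Quotient.mk _ x) = AdjoinRoot.mk _ (T i₀ σ q x) := rfl

theorem T_θ (a : A V i₀) : T i₀ σ q (θ i₀ σ q a) = C a := by
  have h := RingHom.congr_fun (T_comp_T' (V := V) i₀ σ q) (C a)
  have h2 : T' i₀ σ q (C a) = θ i₀ σ q a := by simp [T']
  rw [RingHom.comp_apply, h2] at h
  exact h

theorem e_θ' (h : i₀ ∈ σ) : (e i₀ σ q ϖ h : R σ ϖ →+* AdjoinRoot (F i₀ σ q ϖ)).comp (θ' i₀ σ q ϖ) =
    AdjoinRoot.of _ := by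
  refine RingHom.ext fun a => ?_
  change AdjoinRoot.mk _ (T i₀ σ q (θ i₀ σ q a)) = _
  rw [T_θ]
  rfl

theorem θ'_eq (h : i₀ ∈ σ) : θ' i₀ σ q ϖ =
    ((e i₀ σ q ϖ h).symm : AdjoinRoot (F i₀ σ q ϖ) →+* R σ ϖ).comp (AdjoinRoot.of _) := by
  rw [← e_θ' i₀ σ q ϖ h]
  refine RingHom.ext fun a => ?_
  exact ((e i₀ σ q ϖ h).symm_apply_apply _).symm

theorem finite_θ' [Nontrivial V] (hq : 0 < q) (h : i₀ ∈ σ) : (θ' i₀ σ q ϖ).Finite := by
  rw [θ'_eq i₀ σ q ϖ h]
  refine RingHom.Finite.comp (RingHom.Finite.of_surjective _ (RingEquiv.surjective _)) ?_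
  have := (monic_F i₀ σ q ϖ hq).finite_adjoinRoot
  exact RingHom.finite_algebraMap.2 this

/-- the standard étale pair -/
noncomputable def SP [Nontrivial V] (hq : 0 < q) (H : (A V i₀)[X])
    (hH : X * derivative (F i₀ σ q ϖ) =
      F i₀ σ q ϖ + C (MvPolynomial.C ϖ) * (1 + C (MvPolynomial.C ϖ) * H)) :
    StandardEtalePair (A V i₀) where
  f := F i₀ σ q ϖ
  monic_f := monic_F i₀ σ q ϖ hq
  g := C (MvPolynomial.C ϖ) * (1 + C (MvPolynomial.C ϖ) * H)
  cond := ⟨X, -1, 1, by rw [mul_comm, hH, pow_one]; ring⟩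

/-- étaleness after inverting `ϖ` and `1 + ϖ H` -/
theorem etale_away [Nontrivial V] (hq : 0 < q) (h : i₀ ∈ σ) (H : (A V i₀)[X])
    (hH : X * derivative (F i₀ σ q ϖ) =
      F i₀ σ q ϖ + C (MvPolynomial.C ϖ) * (1 + C (MvPolynomial.C ϖ) * H)) (w : R σ ϖ)
    (hw : w = (e i₀ σ q ϖ h).symm (AdjoinRoot.mk _
      (C (MvPolynomial.C ϖ) * (1 + C (MvPolynomial.C ϖ) * H)))) :
    ((algebraMap (R σ ϖ) (Localization.Away w)).comp (θ' i₀ σ q ϖ)).Etale := by
  let g : (A V i₀)[X] := C (MvPolynomial.C ϖ) * (1 + C (MvPolynomial.C ϖ) * H)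
  let P := SP i₀ σ q ϖ hq H hH
  let L := Localization.Away (AdjoinRoot.mk (F i₀ σ q ϖ) g)
  have h1 : Algebra.Etale (A V i₀) L := Algebra.Etale.of_equiv P.equivAwayAdjoinRoot
  have h2 : (algebraMap (A V i₀) L).Etale := RingHom.etale_algebraMap.2 h1
  let E : L ≃+* Localization.Away w := IsLocalization.ringEquivOfRingEquiv
    (M := Submonoid.powers (AdjoinRoot.mk (F i₀ σ q ϖ) g)) (T := Submonoid.powers w) L
    (Localization.Away w) (e i₀ σ q ϖ h).symm (by
      rw [Submonoid.map_powers, hw]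
      rfl)
  have h3 : (algebraMap (R σ ϖ) (Localization.Away w)).comp (θ' i₀ σ q ϖ) =
      (E : L →+* Localization.Away w).comp (algebraMap (A V i₀) L) := by
    refine RingHom.ext fun a => ?_
    have h4 : algebraMap (A V i₀) L a = algebraMap (AdjoinRoot (F i₀ σ q ϖ)) L (AdjoinRoot.of _ a) :=
      IsScalarTower.algebraMap_apply _ (AdjoinRoot (F i₀ σ q ϖ)) _ a
    rw [RingHom.comp_apply, RingHom.comp_apply, h4]
    refine Eq.trans ?_ (IsLocalization.ringEquivOfRingEquiv_eq _ _).symm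
    rw [θ'_eq i₀ σ q ϖ h]
    rfl
  rw [h3]
  exact RingHom.Etale.stableUnderComposition _ _ h2 (RingHom.Etale.of_bijective E.bijective)

end K720.Semistable
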