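import Groth.Agent.EtCoh.K720.QfKPi1
import Groth.Agent.EtCoh.K720.Semistable
import Mathlib.AlgebraicGeometry.Morphisms.Smooth
import Mathlib.RingTheory.Smooth.StandardSmooth

/-!
# Étale neighbourhoods with K(π,1) generic fibre on semistable schemes
-/

set_option autoImplicit false
universe u
open CategoryTheory CategoryTheory.Limits AlgebraicGeometry Opposite

namespace K720.SemiScheme

open K720.Semistable K720.QfKPi1

variable {V : Type u} [CommRing V] [Nontrivial V] {n : ℕ} (i₀ : Fin n) (σ : Finset (Fin n))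
  (h₀ : i₀ ∈ σ) (q : ℕ) (hq : 0 < q) (ϖ : V)

/-- the base -/
noncomputable abbrev Y (V : Type u) [CommRing V] {n : ℕ} (i₀ : Fin n) : Scheme.{u} :=
  Spec (CommRingCat.of (A V i₀))

/-- structure morphism of the base -/
noncomputable abbrev pY (V : Type u) [CommRing V] {n : ℕ} (i₀ : Fin n) :
    Y V i₀ ⟶ Spec (CommRingCat.of V) :=
  Spec.map (CommRingCat.ofHom (algebraMap V (A V i₀)))

instance : Smooth (pY V i₀) := by
  rw [HasRingHomProperty.Spec_iff (P := @Smooth)]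
  have : Algebra.Smooth V (A V i₀) := ⟨inferInstance, inferInstance⟩
  exact RingHom.smooth_algebraMap.2 this

/-- basic open -/
noncomputable abbrev Do {B : Type u} [CommRing B] (w : B) : (Spec (CommRingCat.of B)).Opens :=
  PrimeSpectrum.basicOpen w

/-- the finite map -/
noncomputable abbrev Θ : Spec (CommRingCat.of (R σ ϖ)) ⟶ Y V i₀ :=
  Spec.map (CommRingCat.ofHom (θ' i₀ σ q ϖ))

omit [Nontrivial V] in
theorem θ'_algebraMap : (θ' i₀ σ q ϖ).comp (algebraMap V (A V i₀)) = algebraMap V (R σ ϖ) := by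
  refine RingHom.ext fun a => ?_
  change Ideal.Quotient.mk _ (θ i₀ σ q (MvPolynomial.C a)) = _
  rw [θ, MvPolynomial.coe_eval₂Hom, MvPolynomial.eval₂_C]
  rfl

omit [Nontrivial V] in
theorem Θ_pY : Θ i₀ σ q ϖ ≫ pY V i₀ =
    Spec.map (CommRingCat.ofHom (algebraMap V (R σ ϖ))) := by
  rw [← Spec.map_comp, ← CommRingCat.ofHom_comp, θ'_algebraMap]

include h₀ hq in
theorem isFinite_Θ : IsFinite (Θ i₀ σ q ϖ) := by
  rw [IsFinite.SpecMap_iff]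
  exact finite_θ' i₀ σ q ϖ hq h₀

include h₀ hq in
theorem exists_w {b : V} (hb : (q : V) = ϖ ^ 2 * b) : ∃ t : R σ ϖ,
    AlgebraicGeometry.Etale ((Do (algebraMap V (R σ ϖ) ϖ *
      (1 + algebraMap V (R σ ϖ) ϖ * t))).ι ≫ Θ i₀ σ q ϖ) := by
  obtain ⟨H, hH⟩ := exists_H i₀ σ q ϖ hb
  have hC : (e i₀ σ q ϖ h₀).symm (AdjoinRoot.mk _ (Polynomial.C (MvPolynomial.C ϖ))) =
      algebraMap V (R σ ϖ) ϖ := by
    rw [RingEquiv.symm_apply_eq]
    change _ = e i₀ σ q ϖ h₀ (Ideal.Quotient.mk _ (MvPolynomial.C ϖ))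
    rw [e_mk, T_C]
  refine ⟨(e i₀ σ q ϖ h₀).symm (AdjoinRoot.mk _ H), ?_⟩
  let w : R σ ϖ := algebraMap V (R σ ϖ) ϖ *
      (1 + algebraMap V (R σ ϖ) ϖ * (e i₀ σ q ϖ h₀).symm (AdjoinRoot.mk _ H))
  have hw : w = (e i₀ σ q ϖ h₀).symm (AdjoinRoot.mk _ (Polynomial.C (MvPolynomial.C ϖ) *
      (1 + Polynomial.C (MvPolynomial.C ϖ) * H))) := by
    simp only [map_mul, map_add, map_one, hC]
    rfl
  have h1 := etale_away i₀ σ q ϖ hq h₀ H hH w hw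
  have h2 : AlgebraicGeometry.Etale (Spec.map (CommRingCat.ofHom
      (algebraMap (R σ ϖ) (Localization.Away w))) ≫ Θ i₀ σ q ϖ) := by
    rw [← Spec.map_comp, ← CommRingCat.ofHom_comp]
    exact (HasRingHomProperty.Spec_iff (P := @AlgebraicGeometry.Etale)).2 h1
  have h3 : IsOpenImmersion (Spec.map (CommRingCat.ofHom
      (algebraMap (R σ ϖ) (Localization.Away w)))) := inferInstance
  let D : (Spec (CommRingCat.of (R σ ϖ))).Opens := Do w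
  let ε := IsOpenImmersion.isoOfRangeEq D.ι (Spec.map (CommRingCat.ofHom
      (algebraMap (R σ ϖ) (Localization.Away w)))) (by
      rw [Scheme.Opens.range_ι]
      exact (PrimeSpectrum.localization_away_comap_range (Localization.Away w) w).symm)
  have h4 : D.ι = ε.hom ≫ Spec.map (CommRingCat.ofHom
      (algebraMap (R σ ϖ) (Localization.Away w))) :=
    (IsOpenImmersion.isoOfRangeEq_hom_fac _ _ _).symm
  change AlgebraicGeometry.Etale (D.ι ≫ _)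
  rw [h4, Category.assoc]
  infer_instance

include h₀ hq in
theorem main {b : V} (hb : (q : V) = ϖ ^ 2 * b) {X U₀ : Scheme.{u}}
    (pX : X ⟶ Spec (CommRingCat.of V)) (e₀ : U₀ ⟶ X) [AlgebraicGeometry.Etale e₀]
    (c : U₀ ⟶ Spec (CommRingCat.of (R σ ϖ))) [AlgebraicGeometry.Etale c]
    (hc : c ≫ Spec.map (CommRingCat.ofHom (algebraMap V (R σ ϖ))) = e₀ ≫ pX)
    (u₀ : U₀) (hu₀ : ϖ ∈ (pX (e₀ u₀)).asIdeal)
    (hF : ∀ (Y : Scheme.{u}) (pY : Y ⟶ Spec (CommRingCat.of V)) [LocallyOfFiniteType pY]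
      [QuasiCompact pY] [Smooth pY] (y : Y), ∃ W : Y.Opens, y ∈ W ∧ KP ↑(W ⊓ pY ⁻¹ᵁ Do ϖ)) :
    ∃ (U : Scheme.{u}) (e : U ⟶ X), AlgebraicGeometry.Etale e ∧ e₀ u₀ ∈ Set.range e ∧
      KP ↑((e ≫ pX) ⁻¹ᵁ Do ϖ) := by
  have hfin := isFinite_Θ i₀ σ h₀ q hq ϖ
  obtain ⟨t, ht⟩ := exists_w i₀ σ h₀ q hq ϖ hb
  let h : U₀ ⟶ Y V i₀ := c ≫ Θ i₀ σ q ϖ
  have hcomm : h ≫ pY V i₀ = e₀ ≫ pX := by
    rw [Category.assoc, Θ_pY, hc]
  have hcommc : ∀ z : Spec (CommRingCat.of (R σ ϖ)), ϖ ∈ (pY V i₀ (Θ i₀ σ q ϖ z)).asIdeal ↔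
      algebraMap V (R σ ϖ) ϖ ∈ z.asIdeal := by
    intro z
    have h1 : (Θ i₀ σ q ϖ ≫ pY V i₀) z = pY V i₀ (Θ i₀ σ q ϖ z) := Scheme.Hom.comp_apply _ _ _
    rw [← h1, Θ_pY]
    exact Iff.rfl
  let w : R σ ϖ := 1 + algebraMap V (R σ ϖ) ϖ * t
  let T : Set (Y V i₀) := Θ i₀ σ q ϖ '' (PrimeSpectrum.zeroLocus {w})
  have hT : IsClosed T := (Θ i₀ σ q ϖ).isClosedMap _ (PrimeSpectrum.isClosed_zeroLocus _)
  let N : (Y V i₀).Opens := ⟨Tᶜ, hT.isOpen_compl⟩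
  have hlqf : LocallyQuasiFinite c := locallyQuasiFinite_of_etale c
  refine QfKPi1.main (Do ϖ) pX e₀ u₀ h (pY V i₀) hcomm N ?_ ?_ hF
  · rintro ⟨z, hz, hz'⟩
    have h1 : w ∈ z.asIdeal := hz rfl
    have h2 : algebraMap V (R σ ϖ) ϖ ∈ z.asIdeal := by
      apply (hcommc z).1
      rw [hz', ← Scheme.Hom.comp_apply, hcomm, Scheme.Hom.comp_apply]
      exact hu₀
    apply z.2.ne_top
    rw [Ideal.eq_top_iff_one]
    have h3 := Ideal.sub_mem _ h1 (Ideal.mul_mem_right t _ h2)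
    simpa [w] using h3
  · have h1 : h ⁻¹ᵁ (N ⊓ pY V i₀ ⁻¹ᵁ Do ϖ) ≤ c ⁻¹ᵁ Do (algebraMap V (R σ ϖ) ϖ * w) := by
      rintro v ⟨hv1, hv2⟩
      change algebraMap V (R σ ϖ) ϖ * w ∉ (c v).asIdeal
      intro h2
      rcases (c v).2.mem_or_mem h2 with h3 | h3
      · exact hv2 ((hcommc (c v)).2 h3)
      · exact hv1 ⟨c v, fun _ hx => by rw [Set.mem_singleton_iff.1 hx]; exact h3, rfl⟩
    have h2 : (h ⁻¹ᵁ (N ⊓ pY V i₀ ⁻¹ᵁ Do ϖ)).ι ≫ h = Scheme.homOfLE _ h1 ≫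
        (c ∣_ Do (algebraMap V (R σ ϖ) ϖ * w)) ≫ (Do (algebraMap V (R σ ϖ) ϖ * w)).ι ≫
          Θ i₀ σ q ϖ := by
      rw [← Category.assoc (c ∣_ _), morphismRestrict_ι, Category.assoc, Scheme.homOfLE_ι_assoc]
    rw [h2]
    infer_instance

end K720.SemiScheme
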