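import Groth.Agent.Sga4B.SemiPurity2
import Groth.Agent.Sga2lef.H86.DepthEt
import Groth.Agent.Sga4h.MuLocal2
import Groth.Agent.Sga4h.LocCohLocal
import Groth.Agent.Sga4h.EtaleRes2

/-!
# Restriction of `H²(-, μ_n)` to an open subscheme with complement of codimension two
-/

set_option autoImplicit false
universe u
open CategoryTheory CategoryTheory.Limits AlgebraicGeometry Opposite

namespace K720.SmoothPurity

open Groth.Agent

/-- étale-local isomorphism between `ℤ/n` and `μ_n` transports vanishing of local cohomology. -/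
theorem isZero_mu_of_const (n : ℕ) {X U : Scheme.{u}} (hn : IsUnit (n : Γ(X, ⊤)))
    (j : U ⟶ X) [IsOpenImmersion j] [EtCoh.BCCont j] (q : ℕ)
    (h : IsZero ((EtDual.locCoh j q).obj (EtCoh.const X (ZMod n)))) :
    IsZero ((EtDual.locCoh j q).obj (EtCoh.mu X n)) := by
  refine Sga4h.LocCohLocal.isZero_locCoh_of_local j (EtCoh.const X (ZMod n)) _ (fun x => ?_) q h
  obtain ⟨V, g, hg, v, hv, -, -, ⟨e⟩⟩ := Sga4h.MuLocal2.exists_local_iso n hn x
  have := Sga4h.EtaleRes.jCont g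
  exact ⟨V, g, hg, inferInstance, v, hv,
    ⟨Sga4h.EtaleRes2.constRestr g (ZMod n) ≪≫ e ≪≫ (Sga4h.EtaleRes2.muRestr g n).symm⟩⟩

theorem isUnit_natCast {k : Type u} [Field k] {X : Scheme.{u}} (f : X ⟶ Spec (CommRingCat.of k)) (n : ℕ)
    (hn : (n : k) ≠ 0) : IsUnit (n : Γ(X, ⊤)) := by
  have h : IsUnit (n : k) := isUnit_iff_ne_zero.2 hn
  have h2 := h.map (f.appTop.hom.comp (Scheme.ΓSpecIso (CommRingCat.of k)).inv.hom)
  rwa [map_natCast] at h2

theorem main (k : Type u) [Field k] (X : Scheme.{u}) (f : X ⟶ Spec (CommRingCat.of k)) [Smooth f]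
    (n : ℕ) (hn : (n : k) ≠ 0) (U : X.Opens) (c : ℕ)
    (hY : ∀ x : X, x ∉ U → (c : WithBot ℕ∞) ≤ ringKrullDim (X.presheaf.stalk x))
    [Limits.PreservesFiniteLimits (EtCoh.pull U.ι)] (p : ℕ) (hp : p + 1 < 2 * c) :
    Function.Bijective (EtCore.Hpull U.ι (EtCoh.mu X n) p) := by
  have hz : EtDepth.DepthGE U.ι (EtCoh.mu X n) (2 * c) := fun q hq =>
    isZero_mu_of_const n (isUnit_natCast f n hn) U.ι q
      (Sga4B.SemiPurity.isZero_locCoh_const_smooth f U.ι c (fun x hx => hY x (by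
        intro hxU
        apply hx
        rw [Scheme.Opens.range_ι]
        exact hxU)) n hn q hq)
  exact ((Sga2lef.H86.DepthEt.depthGE_iff_cond _ _ _).1 hz).bijective p hp

end K720.SmoothPurity
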