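import Groth.Agent.EtCoh.K720.Loc
import Groth.Agent.EtCoh.K154.Twisted

/-!
# The Zariski module attached to a twist, and the comparison `M → ε_* tw(Ω¹, Ω²)`
-/

set_option autoImplicit false

universe u

open CategoryTheory CategoryTheory.Limits AlgebraicGeometry Opposite

noncomputable section

namespace K720.Split

open K611.Gam K611.Gam2 K611.Frame K611.Top K611.Om K611.Sh K611.Seq K611.Seq2 K611.Zar K611.Glue K611.Dict
  K611.Dual K720.Tw K720.Pair K720.Nu K720.Lev1 K720.Equi K720.Loc Groth.Agent.Etbase.ZarEtCoh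

variable {X : Scheme.{u}}

/-- Morphisms of Zariski sheaves from local graphs. -/
theorem exists_hom_of_rel {M G : Sheaf (Opens.grothendieckTopology X) AddCommGrpCat.{u + 1}} {𝓑 : X.Opens → Prop}
    (h𝓑 : IsBase X 𝓑) (Q : ∀ V : X.Opens, M.obj.obj (op V) → G.obj.obj (op V) → Prop)
    (hadd : ∀ (V : X.Opens) x y x' y', Q V x y → Q V x' y' → Q V (x + x') (y + y'))
    (hres : ∀ (V W : X.Opens) (i : W ⟶ V) x y, Q V x y → Q W (M.obj.map i.op x) (G.obj.map i.op y))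
    (huniq : ∀ (V : X.Opens) x y y', Q V x y → Q V x y' → y = y')
    (hex : ∀ V : X.Opens, 𝓑 V → ∀ x, ∃ y, Q V x y) :
    ∃ φ : M ⟶ G, ∀ (V : X.Opens) x y, Q V x y → φ.hom.app (op V) x = y := by
  have hcomp : ∀ (F : Sheaf (Opens.grothendieckTopology X) AddCommGrpCat.{u + 1}) {V W Z : X.Opens} (i : W ⟶ V)
      (j : Z ⟶ W) (x : F.obj.obj (op V)), F.obj.map j.op (F.obj.map i.op x) = F.obj.map (j ≫ i).op x := by
    intro F V W Z i j x
    rw [op_comp, F.obj.map_comp]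
    rfl
  have h1 : ∀ (V : X.Opens) (x : M.obj.obj (op V)), ∃ y : G.obj.obj (op V), ∀ (W : X.Opens) (i : W ⟶ V), 𝓑 W →
      ∀ z, Q W (M.obj.map i.op x) z → G.obj.map i.op y = z := by
    intro V x
    obtain ⟨y, hy⟩ := glue_base G h𝓑 V (fun W hW bW => (hex W bW (M.obj.map (homOfLE hW).op x)).choose) (by
      intro W W' j hW hW' bW bW'
      refine huniq W' (M.obj.map (homOfLE hW').op x) _ _ ?_ (hex W' bW' _).choose_spec
      have := hres W W' j _ _ (hex W bW (M.obj.map (homOfLE hW).op x)).choose_spec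
      rw [hcomp] at this
      exact this)
    refine ⟨y, fun W i bW z hz => ?_⟩
    rw [hy W i bW]
    exact huniq W _ _ _ (hex W bW _).choose_spec hz
  choose y hy using h1
  have hex' : ∀ (V : X.Opens) (x : M.obj.obj (op V)) (W : X.Opens) (i : W ⟶ V), 𝓑 W →
      Q W (M.obj.map i.op x) (G.obj.map i.op (y V x)) := by
    intro V x W i bW
    obtain ⟨z, hz⟩ := hex W bW (M.obj.map i.op x)
    rw [hy V x W i bW z hz]
    exact hz
  refine ⟨⟨{ app := fun V => AddCommGrpCat.ofHom (AddMonoidHom.mk' (y V.unop) ?_), naturality := ?_ }⟩, ?_⟩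
  · intro x x'
    refine ext_base G h𝓑 _ _ fun W i bW => ?_
    refine hy _ _ W i bW _ ?_
    rw [map_add, map_add]
    exact hadd W _ _ _ _ (hex' _ x W i bW) (hex' _ x' W i bW)
  · intro V V' i
    ext x
    change y V'.unop (M.obj.map i x) = G.obj.map i (y V.unop x)
    refine ext_base G h𝓑 (U := V'.unop) _ _ fun W j bW => ?_
    refine hy _ _ W j bW _ ?_
    have e1 := hcomp M i.unop j x
    have e2 := hcomp G i.unop j (y V.unop x)
    refine Eq.mpr (congrArg₂ (Q W) e1 e2) ?_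
    exact hex' _ x W _ bW
  · intro V x z hz
    change y V x = z
    refine ext_base G h𝓑 (U := V) _ _ fun W i bW => ?_
    exact hy V x W i bW _ (hres V W i x z hz)

/-- Locally split extensions of `N` by `L`. -/
structure Sp (N L : X.Modules) {ι : Type u} (U : ι → X.Opens)
    (phi : ∀ (i j : ι) (V : X.Opens), V ≤ U i → V ≤ U j → (Γ(N, V) →ₗ[Γ(X, V)] Γ(L, V))) where
  /-- the module -/
  M : X.Modules
  hM : SheafOfModules.IsQuasicoherent (R := X.ringCatSheaf) M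
  /-- the inclusion -/
  a : L ⟶ M
  /-- the projection -/
  b : M ⟶ N
  w : a ≫ b = 0
  shortExact : (ShortComplex.mk a b w).ShortExact
  /-- the local splittings -/
  s : ∀ (i : ι) (V : X.Opens), V ≤ U i → (Γ(N, V) →ₗ[Γ(X, V)] Γ(M, V))
  s_nat : ∀ (i : ι) (V W : X.Opens) (h : W ≤ V) (hi : V ≤ U i) (n : Γ(N, V)),
    re M h (s i V hi n) = s i W (h.trans hi) (re N h n)
  b_s : ∀ (i : ι) (V : X.Opens) (hi : V ≤ U i) (n : Γ(N, V)), b.app V (s i V hi n) = n
  s_sub : ∀ (i j : ι) (V : X.Opens) (hi : V ≤ U i) (hj : V ≤ U j) (n : Γ(N, V)),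
    s i V hi n - s j V hj n = a.app V (phi i j V hi hj n)
  a_inj : ∀ V : X.Opens, Function.Injective (a.app V)
  a_ex : ∀ (V : X.Opens) (m : Γ(M, V)), b.app V m = 0 → ∃ l, a.app V l = m

section phi

variable {p : ℕ} [hp : Fact p.Prime] (h : (p : Γ(X, ⊤)) = 0) {N L : X.Modules} (TN : ModL (omBC p) N)
  (TL : ModL (om2BC p) L) (T : Tor (sh (nuF p) X)) {ι : Type u} (U : ι → X.Opens) (e : ∀ i, T.pt (ob (U i)))

omit hp in
theorem _root_.K720.Tw.Tor.df_add {A : EtCoh.Ab X} (T : Tor A) {V : X.Etale} (g g' g'' : T.pt V) :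
    T.df g g' + T.df g' g'' = T.df g g'' := by
  rw [← T.df_tr, T.tr_df]

variable {T U}

/-- The restricted points. -/
def er (i : ι) (V : X.Opens) (hi : V ≤ U i) : T.pt (ob V) := T.rp (inc hi) (e i)

omit hp in
theorem rp_er (i : ι) {V W : X.Opens} (hi : V ≤ U i) (j : W ≤ V) :
    T.rp (inc j) (er e i V hi) = er e i W (j.trans hi) := by
  unfold er
  rw [← T.rp_comp, inc_comp]

/-- The cocycle. -/
def phi (i j : ι) (V : X.Opens) (hi : V ≤ U i) (hj : V ≤ U j) : Γ(N, V) →ₗ[Γ(X, V)] Γ(L, V) :=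
  wl (wOm p) h TN TL (omBC p) lbi_wOm.lin (ap ((dlN p).sh h) (ob V) (T.df (er e i V hi) (er e j V hj)))

theorem th_phi (i j : ι) (V : X.Opens) (hi : V ≤ U i) (hj : V ≤ U j) (n : Γ(N, V)) :
    th h TL V (phi h TN TL e i j V hi hj n) =
      (bΩ h).app (ob V) (T.df (er e i V hi) (er e j V hj)) (th h TN V n) := by
  rw [bΩ_eq]
  exact th_wa (wOm p) h TN TL _ n

theorem phi_nat (i j : ι) (V W : X.Opens) (k : W ≤ V) (hi : V ≤ U i) (hj : V ≤ U j) (n : Γ(N, V)) :
    re L k (phi h TN TL e i j V hi hj n) = phi h TN TL e i j W (k.trans hi) (k.trans hj) (re N k n) := by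
  apply (th_bijective h TL W).1
  rw [th_re, th_phi, th_phi, ← (bΩ h).nat, T.rs_df, rp_er, rp_er, th_re]

theorem phi_coc (i j l : ι) (V : X.Opens) (hi : V ≤ U i) (hj : V ≤ U j) (hl : V ≤ U l) (n : Γ(N, V)) :
    phi h TN TL e i j V hi hj n + phi h TN TL e j l V hj hl n = phi h TN TL e i l V hi hl n := by
  apply (th_bijective h TL V).1
  rw [map_add, th_phi, th_phi, th_phi, ← AddMonoidHom.add_apply, ← map_add, T.df_add]

/-- The twisted module. -/
theorem exists_sp (hN : SheafOfModules.IsQuasicoherent (R := X.ringCatSheaf) N)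
    (hL : SheafOfModules.IsQuasicoherent (R := X.ringCatSheaf) L) (hU : ⨆ i, U i = ⊤) :
    Nonempty (Sp N L U (phi h TN TL e)) := by
  obtain ⟨M, hM, a, b, w, hS, s, h1, h2, h3, h4, h5⟩ := K154.Twisted.exists_twisted' hN hL U hU (phi h TN TL e)
    (fun i j V W k hi hj n => phi_nat h TN TL e i j V W k hi hj n)
    (fun i j l V hi hj hl n => phi_coc h TN TL e i j l V hi hj hl n)
  exact ⟨⟨M, hM, a, b, w, hS, s, h1, h2, h3, h4, h5⟩⟩

end phi

/-! ### The comparison -/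

section cmp

variable {p : ℕ} [hp : Fact p.Prime] (h : (p : Γ(X, ⊤)) = 0) {N L : X.Modules} (TN : ModL (omBC p) N)
  (TL : ModL (om2BC p) L) {T : Tor (sh (nuF p) X)} {ι : Type u} {U : ι → X.Opens} (e : ∀ i, T.pt (ob (U i)))
  (S : Sp N L U (phi h TN TL e))

omit hp in
theorem app_re {M M' : X.Modules} (f : M ⟶ M') {V W : X.Opens} (i : W ≤ V) (m : Γ(M, V)) :
    f.app W (re M i m) = re M' i (f.app V m) := Groth.Agent.CohqB.QC2.app_res f i m

omit hp in
theorem re_re (M : X.Modules) {V W Z : X.Opens} (i : W ≤ V) (j : Z ≤ W) (m : Γ(M, V)) :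
    re M j (re M i m) = re M (j.trans i) m := Groth.Agent.CohqB.QC2.res_res M i j m

/-- The relation defining the comparison. -/
def Q (V : X.Opens) (m : Γ(S.M, V)) (z : EtCoh.sect (GO h T) (ob V)) : Prop :=
  ap (π T (bΩ h)) (ob V) z = th h TN V (S.b.app V m) ∧
    ∀ (W : X.Opens) (hW : W ≤ V) (i : ι) (hi : W ≤ U i) (l : Γ(L, W)),
      S.a.app W l = re S.M hW m - S.s i W hi (re N hW (S.b.app V m)) →
      ev T (bΩ h) (er e i W hi) (rs _ (inc hW) z) = th h TL W l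

variable {S TN TL e}

theorem a_b (V : X.Opens) (l : Γ(L, V)) : S.b.app V (S.a.app V l) = 0 := by
  have := congrArg (fun f => f.app V) S.w
  exact ConcreteCategory.congr_hom this l

theorem exists_l (V : X.Opens) (m : Γ(S.M, V)) (W : X.Opens) (hW : W ≤ V) (i : ι) (hi : W ≤ U i) :
    ∃ l : Γ(L, W), S.a.app W l = re S.M hW m - S.s i W hi (re N hW (S.b.app V m)) := by
  apply S.a_ex
  rw [map_sub, S.b_s, app_re, sub_self]

theorem Q_add {V : X.Opens} {m m' : Γ(S.M, V)} {z z' : EtCoh.sect (GO h T) (ob V)} (hz : Q h TN TL e S V m z)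
    (hz' : Q h TN TL e S V m' z') : Q h TN TL e S V (m + m') (z + z') := by
  refine ⟨by rw [map_add, map_add, map_add, hz.1, hz'.1], fun W hW i hi l hl => ?_⟩
  obtain ⟨l₀, hl₀⟩ := exists_l h (S := S) V m W hW i hi
  have h1 := hz.2 W hW i hi l₀ hl₀
  have h2 := hz'.2 W hW i hi (l - l₀) (by
    rw [map_sub, hl, hl₀, map_add, map_add, map_add, map_add]
    abel)
  rw [map_add, map_add, h1, h2, ← map_add, add_sub_cancel]

theorem Q_res {V W : X.Opens} (k : W ≤ V) {m : Γ(S.M, V)} {z : EtCoh.sect (GO h T) (ob V)}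
    (hz : Q h TN TL e S V m z) : Q h TN TL e S W (re S.M k m) (rs _ (inc k) z) := by
  refine ⟨?_, fun W' hW' i hi l hl => ?_⟩
  · rw [ap_rs, hz.1, app_re, th_re]
  · rw [← rs_comp, inc_comp]
    refine hz.2 W' (hW'.trans k) i hi l ?_
    rw [hl, app_re, re_re, re_re]

theorem Q_uniq (hU : ⨆ i, U i = ⊤) {V : X.Opens} {m : Γ(S.M, V)} {z z' : EtCoh.sect (GO h T) (ob V)}
    (hz : Q h TN TL e S V m z) (hz' : Q h TN TL e S V m z') : z = z' := by
  refine ext_base ((EtZar.resZar X).obj (GO h T)) (𝓑 := fun W => ∃ i, W ≤ U i) ?_ (U := V) z z' fun W i hW => ?_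
  · intro x W hx
    have : x ∈ ⨆ i, U i := by rw [hU]; trivial
    obtain ⟨i, hi⟩ := TopologicalSpace.Opens.mem_iSup.1 this
    exact ⟨W ⊓ U i, ⟨i, inf_le_right⟩, ⟨hx, hi⟩, inf_le_left⟩
  · obtain ⟨j, hj⟩ := hW
    change rs (GO h T) (inc i.le) z = rs (GO h T) (inc i.le) z'
    refine tw_ext_pt (T := T) (β := bΩ h) (er e j W hj) ?_ ?_
    · rw [ap_rs, ap_rs, hz.1, hz'.1]
    · obtain ⟨l, hl⟩ := exists_l h (S := S) V m W i.le j hj
      rw [hz.2 W i.le j hj l hl, hz'.2 W i.le j hj l hl]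

theorem Q_ex {V : X.Opens} (i : ι) (hi : V ≤ U i) (m : Γ(S.M, V)) : ∃ z, Q h TN TL e S V m z := by
  obtain ⟨l, hl⟩ : ∃ l : Γ(L, V), S.a.app V l = m - S.s i V hi (S.b.app V m) := by
    apply S.a_ex
    rw [map_sub, S.b_s, sub_self]
  refine ⟨ofPt T (bΩ h) (er e i V hi) (th h TN V (S.b.app V m)) (th h TL V l), rfl, fun W hW j hj l' hl' => ?_⟩
  have e1 : er e j W hj = T.tr (T.rp (inc hW) (er e i V hi)) (T.df (er e i W (hW.trans hi)) (er e j W hj)) := by
    rw [rp_er, T.tr_df]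
  rw [e1, ev_tr, ev_rs, ev_ofPt, ap_rs, ap_π_ofPt, ← th_re, ← th_re, ← th_phi, ← map_add]
  congr 1
  apply S.a_inj
  rw [map_add, ← S.s_sub, hl', app_re, hl, map_sub, S.s_nat]
  abel

/-- The comparison morphism. -/
theorem exists_c (hU : ⨆ i, U i = ⊤) : ∃ c : (ulZ X).obj (Coh.toAb S.M) ⟶ (EtZar.resZar X).obj (GO h T),
    ∀ (V : X.Opens) (m : Γ(S.M, V)) (z : EtCoh.sect (GO h T) (ob V)), Q h TN TL e S V m z →
      c.hom.app (op V) (ULift.up m : ULift.{u + 1} ((Coh.toAb S.M).obj.obj (op V))) = z := by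
  obtain ⟨c, hc⟩ := exists_hom_of_rel (M := (ulZ X).obj (Coh.toAb S.M)) (G := (EtZar.resZar X).obj (GO h T))
    (𝓑 := fun W => ∃ i, W ≤ U i) (by
      intro x W hx
      have : x ∈ ⨆ i, U i := by rw [hU]; trivial
      obtain ⟨i, hi⟩ := TopologicalSpace.Opens.mem_iSup.1 this
      exact ⟨W ⊓ U i, ⟨i, inf_le_right⟩, ⟨hx, hi⟩, inf_le_left⟩)
    (fun V m z => Q h TN TL e S V (ULift.down (show ULift.{u + 1} ((Coh.toAb S.M).obj.obj (op V)) from m)) z)
    (fun V x y x' y' h1 h2 => Q_add h h1 h2) (fun V W i x y h1 => Q_res h i.le h1)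
    (fun V x y y' h1 h2 => Q_uniq h hU h1 h2) (fun V hV x => by
      obtain ⟨i, hi⟩ := hV
      exact Q_ex h i hi _)
  exact ⟨c, fun V m z hz => hc V _ z hz⟩

/-- The comparison on `L`. -/
theorem Q_a (V : X.Opens) (l : Γ(L, V)) :
    Q h TN TL e S V (S.a.app V l) (ap (Tw.ι T (bΩ h)) (ob V) (th h TL V l)) := by
  refine ⟨?_, fun W hW i hi l' hl' => ?_⟩
  · rw [ap_π_ι, a_b, map_zero]
  · rw [← ap_rs, ev_ι, ← th_re]
    congr 1
    apply S.a_inj
    rw [hl', a_b, map_zero, map_zero, sub_zero, app_re]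

end cmp

end K720.Split
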