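import Groth.Agent.EtCoh.K720.Split

/-!
# The equivariant map attached to a retraction of the twisted module
-/

set_option autoImplicit false

universe u

open CategoryTheory CategoryTheory.Limits AlgebraicGeometry Opposite

noncomputable section

namespace K720.Split

open K611.Gam K611.Gam2 K611.Frame K611.Top K611.Om K611.Sh K611.Seq K611.Seq2 K611.Zar K611.Glue K611.Dict
  K611.Dual K720.Tw K720.Pair K720.Nu K720.Lev1 K720.Equi K720.Loc Groth.Agent.Etbase.ZarEtCoh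

variable {X : Scheme.{u}}

theorem hom_ob_unique {W : X.Etale} {V : X.Opens} (g g' : W ⟶ ob V) : g = g' :=
  (Groth.Agent.Etbase.ZarEt.subsingleton_hom X W V).elim g g'

theorem exists_inf {W : X.Etale} {V V' : X.Opens} (g : W ⟶ ob V) (g' : W ⟶ ob V') :
    ∃ m : W ⟶ ob (V ⊓ V'), m ≫ inc inf_le_left = g ∧ m ≫ inc inf_le_right = g' :=
  ⟨Groth.Agent.Etbase.ZarEt.liftOpen X (V ⊓ V') (by
    rw [Scheme.Opens.range_ι]
    exact Set.subset_inter (Groth.Agent.Etbase.ZarEt.range_str_subset X g)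
      (Groth.Agent.Etbase.ZarEt.range_str_subset X g')), hom_ob_unique _ _, hom_ob_unique _ _⟩

theorem exists_sub (V : X.Etale) (U : X.Opens) (x : V.left) (hx : V.hom x ∈ U) :
    ∃ (W : X.Etale) (k : W ⟶ V) (w : W.left), k.left w = x ∧ Nonempty (W ⟶ ob U) := by
  let P : V.left.Opens := V.hom ⁻¹ᵁ U
  let W : X.Etale := Scheme.Etale.mk (P.ι ≫ V.hom)
  let k : W ⟶ V := MorphismProperty.Over.homMk P.ι rfl
  refine ⟨W, k, ⟨x, hx⟩, rfl, ⟨Groth.Agent.Etbase.ZarEt.liftOpen X U ?_⟩⟩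
  rw [Scheme.Opens.range_ι]
  rintro _ ⟨z, rfl⟩
  exact z.2

section rho

variable {p : ℕ} [hp : Fact p.Prime] (h : (p : Γ(X, ⊤)) = 0) {N L : X.Modules} {TN : ModL (omBC p) N}
  {TL : ModL (om2BC p) L} {T : Tor (sh (nuF p) X)} {ι : Type u} {U : ι → X.Opens} {e : ∀ i, T.pt (ob (U i))}
  (S : Sp N L U (phi h TN TL e)) (r : S.M ⟶ L) (hr : S.a ≫ r = 𝟙 L)

/-- The underlying linear map of a morphism of modules. -/
def linApp {M M' : X.Modules} (f : M ⟶ M') (V : X.Opens) : Γ(M, V) →ₗ[Γ(X, V)] Γ(M', V) where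
  toFun := f.app V
  map_add' x y := map_add (f.app V).hom x y
  map_smul' a x := Scheme.Modules.Hom.app_smul f a x

theorem wa_add {V : X.Opens} (ω ω' : EtCoh.sect (sh OmF X) (ob V)) (n : Γ(N, V)) :
    wa (wOm p) h TN TL (ω + ω') n = wa (wOm p) h TN TL ω n + wa (wOm p) h TN TL ω' n := by
  apply (th_bijective h TL V).1
  rw [map_add, th_wa, th_wa, th_wa, map_add]
  rfl

/-- The characterization of `ρ i`. -/
def IsRho (ρ : ∀ i, EtCoh.sect (sh OmF X) (ob (U i))) : Prop :=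
  ∀ (i : ι) (V : X.Opens) (hV : V ≤ U i) (n : Γ(N, V)),
    wa (wOm p) h TN TL (rs _ (inc hV) (ρ i)) n = -r.app V (S.s i V hV n)

variable {𝓑 : X.Opens → Prop} (h𝓑 : IsBase X 𝓑) (haff : ∀ V, 𝓑 V → IsAffineOpen V) (hG : ∀ V, 𝓑 V → GoodN p 2 Γ(X, V))

include h𝓑 haff hG in
theorem exists_rho : ∃ ρ : ∀ i, EtCoh.sect (sh OmF X) (ob (U i)), IsRho h S r ρ := by
  have h1 : ∀ i, ∃ ω : EtCoh.sect (sh OmF X) (ob (U i)), ∀ (V : X.Opens) (hV : V ≤ U i) (n : Γ(N, V)),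
      wa (wOm p) h TN TL (rs _ (inc hV) ω) n = (-((linApp r V).comp (S.s i V hV))) n := fun i =>
    exists_wl h TN TL lbi_wOm h𝓑 haff hG (U i) (fun V hV => -((linApp r V).comp (S.s i V hV))) (by
      intro V V' hV k n
      change re L k (-(r.app V (S.s i V hV n))) = -(r.app V' (S.s i V' _ (re N k n)))
      rw [map_neg, ← S.s_nat i V V' k hV n, app_re])
  choose ρ hρ using h1
  exact ⟨ρ, fun i V hV n => hρ i V hV n⟩

variable {S r}

theorem r_a (hr : S.a ≫ r = 𝟙 L) (V : X.Opens) (l : Γ(L, V)) : r.app V (S.a.app V l) = l := by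
  have := congrArg (fun f => f.app V) hr
  exact ConcreteCategory.congr_hom this l

include h𝓑 haff hG hr in
theorem rho_change {ρ : ∀ i, EtCoh.sect (sh OmF X) (ob (U i))} (hρ : IsRho h S r ρ) (i j : ι) (V : X.Opens)
    (hi : V ≤ U i) (hj : V ≤ U j) : rs _ (inc hj) (ρ j) =
      rs _ (inc hi) (ρ i) + ap ((dlN p).sh h) (ob V) (T.df (er e i V hi) (er e j V hj)) := by
  refine wl_injective h TN TL (omBC p) lbi_wOm h𝓑 haff hG V _ _ fun W hW n => ?_
  rw [map_add, wa_add h, ← rs_comp, ← rs_comp, inc_comp, inc_comp, hρ, hρ, ← ap_rs, T.rs_df, rp_er, rp_er]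
  have e1 : wa (wOm p) h TN TL (ap ((dlN p).sh h) (ob W) (T.df (er e i W (hW.trans hi)) (er e j W (hW.trans hj)))) n =
      phi h TN TL e i j W (hW.trans hi) (hW.trans hj) n := rfl
  have e2 := congrArg (r.app W) (S.s_sub i j W (hW.trans hi) (hW.trans hj) n)
  rw [r_a h hr, map_sub] at e2
  rw [e1, ← e2]
  abel

include h𝓑 haff hG hr in
/-- The equivariant map. -/
theorem exists_eqv {ρ : ∀ i, EtCoh.sect (sh OmF X) (ob (U i))} (hρ : IsRho h S r ρ) (hU : ⨆ i, U i = ⊤) :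
    ∃ R : Eqv T ((dlN p).sh h), ∀ (W : X.Etale) (i : ι) (l : W ⟶ ob (U i)),
      R.r W (T.rp l (e i)) = rs _ l (ρ i) := by
  -- the local values
  let D : ∀ (W : X.Etale), T.pt W → EtCoh.sect (sh OmF X) W → Prop := fun W g s =>
    ∃ (i : ι) (l : W ⟶ ob (U i)), s = rs _ l (ρ i) + ap ((dlN p).sh h) W (T.df (T.rp l (e i)) g)
  have huniq : ∀ (W : X.Etale) (g : T.pt W) s s', D W g s → D W g s' → s = s' := by
    rintro W g s s' ⟨i, l, rfl⟩ ⟨j, l', rfl⟩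
    obtain ⟨m, hm, hm'⟩ := exists_inf l l'
    have e1 := congrArg (rs (sh OmF X) m) (rho_change h hr h𝓑 haff hG hρ i j (U i ⊓ U j) inf_le_left inf_le_right)
    rw [map_add, ← rs_comp, ← rs_comp, hm, hm', ← ap_rs, T.rs_df, er, er, ← T.rp_comp, ← T.rp_comp, hm, hm'] at e1
    rw [e1, add_assoc, ← map_add, T.df_add]
  have hres : ∀ (V W : X.Etale) (k : W ⟶ V) (g : T.pt V) s, D V g s → D W (T.rp k g) (rs _ k s) := by
    rintro V W k g s ⟨i, l, rfl⟩
    refine ⟨i, k ≫ l, ?_⟩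
    rw [map_add, rs_comp, ← ap_rs, T.rs_df, T.rp_comp]
  have hex : ∀ (V : X.Etale) (g : T.pt V), ∃ t : EtCoh.sect (sh OmF X) V, ∀ (W : X.Etale) (k : W ⟶ V) s,
      D W (T.rp k g) s → rs _ k t = s := fun V g =>
    K611.Pair.et_glue (sh OmF X) V (fun W k s => D W (T.rp k g) s) (fun x => by
      have : V.hom x ∈ ⨆ i, U i := by rw [hU]; trivial
      obtain ⟨i, hi⟩ := TopologicalSpace.Opens.mem_iSup.1 this
      obtain ⟨W, k, w, hw, ⟨l⟩⟩ := exists_sub V (U i) x hi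
      exact ⟨W, k, w, hw, _, i, l, rfl⟩) (fun W k s s' h1 h2 => huniq W _ s s' h1 h2) (fun W Z k m s hs => by
      have := hres W Z m (T.rp k g) s hs
      rw [← T.rp_comp] at this
      exact this)
  choose R hR using hex
  have hloc : ∀ (V : X.Etale) (x : V.left), ∃ (W : X.Etale) (k : W ⟶ V) (w : W.left), k.left w = x ∧
      ∀ (g : T.pt W), ∃ s, D W g s := by
    intro V x
    have : V.hom x ∈ ⨆ i, U i := by rw [hU]; trivial
    obtain ⟨i, hi⟩ := TopologicalSpace.Opens.mem_iSup.1 this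
    obtain ⟨W, k, w, hw, ⟨l⟩⟩ := exists_sub V (U i) x hi
    exact ⟨W, k, w, hw, fun g => ⟨_, i, l, rfl⟩⟩
  refine ⟨⟨R, ?_, ?_⟩, ?_⟩
  · intro V W k g
    refine Groth.Agent.Etbase.EtSite.sect_ext _ W _ _ fun x => ?_
    obtain ⟨Z, m, z, hz, hs⟩ := hloc W x
    refine ⟨Z, m, z, hz, ?_⟩
    obtain ⟨s, hs⟩ := hs (T.rp m (T.rp k g))
    change rs _ m (R W (T.rp k g)) = rs _ m (rs _ k (R V g))
    rw [hR W (T.rp k g) Z m s hs, ← rs_comp]
    refine (hR V g Z (m ≫ k) s ?_).symm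
    rw [T.rp_comp]
    exact hs
  · intro V g x
    refine Groth.Agent.Etbase.EtSite.sect_ext _ V _ _ fun y => ?_
    obtain ⟨Z, m, z, hz, hs⟩ := hloc V y
    refine ⟨Z, m, z, hz, ?_⟩
    obtain ⟨s, i, l, hs⟩ := hs (T.rp m g)
    change rs _ m (R V (T.tr g x)) = rs _ m (R V g + ap ((dlN p).sh h) V x)
    rw [map_add, hR V g Z m s ⟨i, l, hs⟩, ← ap_rs]
    refine hR V (T.tr g x) Z m _ ⟨i, l, ?_⟩
    rw [T.rp_tr, T.df_tr, map_add, ← add_assoc, ← hs]
  · intro W i l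
    have := hR W (T.rp l (e i)) W (𝟙 W) (rs _ l (ρ i)) ⟨i, l, by rw [T.rp_id, T.df_self, map_zero, add_zero]⟩
    rwa [rs_id] at this

include hr in
/-- The splitting. -/
theorem exists_split : ∃ σ : N ⟶ S.M, σ ≫ S.b = 𝟙 N ∧ σ ≫ r = 0 ∧ r ≫ S.a + S.b ≫ σ = 𝟙 S.M := by
  have := S.shortExact.epi_g
  let sp := ShortComplex.Splitting.ofExactOfRetraction _ S.shortExact.exact r hr this
  exact ⟨sp.s, sp.s_g, sp.s_r, sp.id⟩

theorem split_app {σ : N ⟶ S.M} (h1 : σ ≫ S.b = 𝟙 N) (h3 : r ≫ S.a + S.b ≫ σ = 𝟙 S.M) (i : ι) (V : X.Opens)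
    (hi : V ≤ U i) (n : Γ(N, V)) : σ.app V n = S.s i V hi n - S.a.app V (r.app V (S.s i V hi n)) := by
  have e1 := ConcreteCategory.congr_hom (congrArg (fun f => f.app V) h3) (S.s i V hi n)
  change S.a.app V (r.app V (S.s i V hi n)) + σ.app V (S.b.app V (S.s i V hi n)) = S.s i V hi n at e1
  rw [S.b_s] at e1
  exact eq_sub_iff_add_eq'.2 e1

/-- The comparison on the complement. -/
theorem Q_split {ρ : ∀ i, EtCoh.sect (sh OmF X) (ob (U i))} (hρ : IsRho h S r ρ) (R : Eqv T ((dlN p).sh h))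
    (hR : ∀ (W : X.Etale) (i : ι) (l : W ⟶ ob (U i)), R.r W (T.rp l (e i)) = rs _ l (ρ i)) {σ : N ⟶ S.M}
    (h1 : σ ≫ S.b = 𝟙 N) (h3 : r ≫ S.a + S.b ≫ σ = 𝟙 S.M) (V : X.Opens) (n : Γ(N, V)) :
    Q h TN TL e S V (σ.app V n) (ap (sg h R) (ob V) (th h TN V n)) := by
  have hb : ∀ (V : X.Opens) (n : Γ(N, V)), S.b.app V (σ.app V n) = n := fun V n =>
    ConcreteCategory.congr_hom (congrArg (fun f => f.app V) h1) n
  refine ⟨?_, fun W hW i hi l hl => ?_⟩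
  · rw [hb]
    rfl
  · rw [hb, ← app_re, split_app h h1 h3 i W hi] at hl
    have e1 : l = -r.app W (S.s i W hi (re N hW n)) := by
      apply S.a_inj
      rw [hl, map_neg]
      abel
    rw [← ap_rs, ev_sig, ← th_re, e1, ← hρ i W hi, th_wa, er, hR]

end rho

end K720.Split
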