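import Groth.Agent.EtCoh.K611.Gam2
import Mathlib.LinearAlgebra.TensorProduct.Basic
import Mathlib.RingTheory.Nilpotent.Basic

/-!
# Symbols and their logarithmic two-forms on lifts

`Tn B = Bˣ ⊗ Bˣ`, `dl u = u⁻¹ du`, `sy : Tn A →+ Om2 A`, `u ⊗ v ↦ dlog u ∧ dlog v`.
`exists_log`: if `p ^ n = 0` and `u = 1 + p w` is a unit, `dlog u = d (p l)`.
`IsLift π`: units lift along `π : A → B` and `dlog u` is exact for the units over `1`;
`syL π : Tn B →+ Q2 A` is then the canonical map `u ⊗ v ↦ [dlog u' ∧ dlog v']`.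
-/

set_option autoImplicit false

universe u v w'

noncomputable section

namespace K720.Sym

open KaehlerDifferential TensorProduct K611.Gam K611.Gam2

section basic

variable {B : Type u} [CommRing B]

/-- `dlog u`. -/
def dl (u : Bˣ) : Ω[B⁄ℤ] := (u⁻¹ : Bˣ).val • D ℤ B u.val

theorem dl_mul (u v : Bˣ) : dl (u * v) = dl u + dl v := by
  have h1 : (u⁻¹ : Bˣ).val * u.val = 1 := Units.inv_mul u
  have h2 : (v⁻¹ : Bˣ).val * v.val = 1 := Units.inv_mul v
  have e : ((u * v)⁻¹ : Bˣ).val = (u⁻¹ : Bˣ).val * (v⁻¹ : Bˣ).val := by rw [mul_inv]; rfl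
  unfold dl
  rw [e, Units.val_mul, Derivation.leibniz, smul_add, smul_smul, smul_smul]
  have h3 : (u⁻¹ : Bˣ).val * (v⁻¹ : Bˣ).val * u.val = (v⁻¹ : Bˣ).val := by
    rw [mul_right_comm, h1, one_mul]
  have h4 : (u⁻¹ : Bˣ).val * (v⁻¹ : Bˣ).val * v.val = (u⁻¹ : Bˣ).val := by
    rw [mul_assoc, h2, mul_one]
  rw [h3, h4, add_comm]

theorem dl_one : dl (1 : Bˣ) = 0 := by
  unfold dl
  rw [Units.val_one, Derivation.map_one_eq_zero, smul_zero]

variable (B) in
/-- `dlog` as an additive map. -/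
def dlh : Additive Bˣ →+ Ω[B⁄ℤ] where
  toFun u := dl u.toMul
  map_zero' := dl_one
  map_add' _ _ := dl_mul _ _

theorem dlh_ofMul (u : Bˣ) : dlh B (Additive.ofMul u) = dl u := rfl

theorem D_unit (u : Bˣ) : D ℤ B u.val = u.val • dl u := by
  unfold dl
  rw [smul_smul, Units.mul_inv, one_smul]

theorem dl_inv (u : Bˣ) : dl u⁻¹ = -dl u := by
  have := dl_mul u u⁻¹
  rw [mul_inv_cancel, dl_one] at this
  exact (neg_eq_of_add_eq_zero_right this.symm).symm

theorem dl_pow (u : Bˣ) (n : ℕ) : dl (u ^ n) = n • dl u := by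
  induction n with
  | zero => rw [pow_zero, dl_one, zero_smul]
  | succ n ih => rw [pow_succ, dl_mul, ih, succ_nsmul]

theorem d1_dl (u : Bˣ) : d1 (dl u) = 0 := by
  unfold dl
  rw [d1_smul_D]
  have h1 : D ℤ B ((u⁻¹ : Bˣ).val) = -(((u⁻¹ : Bˣ).val * (u⁻¹ : Bˣ).val) • D ℤ B u.val) := by
    have h2 : D ℤ B ((u⁻¹ : Bˣ).val * u.val) = 0 := by rw [Units.inv_mul, Derivation.map_one_eq_zero]
    rw [Derivation.leibniz] at h2
    have h3 := congrArg (fun z => (u⁻¹ : Bˣ).val • z) h2
    simp only [smul_add, smul_smul, smul_zero] at h3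
    rw [Units.inv_mul, one_smul] at h3
    exact eq_neg_of_add_eq_zero_right h3
  rw [h1, w_neg_left, w_smul_left, w_self, smul_zero, neg_zero]

variable {C : Type v} [CommRing C]

theorem omap_dl (f : B →+* C) (u : Bˣ) : omap f (dl u) = dl (Units.map f.toMonoidHom u) := by
  unfold dl
  rw [omap_smul, omap_D]
  rfl

variable (B) in
/-- Pairs of units. -/
abbrev Tn : Type u := Additive Bˣ ⊗[ℤ] Additive Bˣ

/-- The symbol `u ⊗ v`. -/
def sb (u v : Bˣ) : Tn B := Additive.ofMul u ⊗ₜ[ℤ] Additive.ofMul v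

theorem tn_induction {P : Tn B → Prop} (h0 : P 0) (hadd : ∀ x y, P x → P y → P (x + y)) (hs : ∀ u v, P (sb u v))
    (z : Tn B) : P z := by
  induction z using TensorProduct.induction_on with
  | zero => exact h0
  | tmul x y => exact hs x.toMul y.toMul
  | add x y hx hy => exact hadd x y hx hy

theorem tn_hom_ext {G : Type*} [AddCommGroup G] {a b : Tn B →+ G} (h : ∀ u v, a (sb u v) = b (sb u v)) :
    a = b := by
  ext z
  induction z using tn_induction with
  | h0 => rw [map_zero, map_zero]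
  | hadd x y hx hy => rw [map_add, map_add, hx, hy]
  | hs u v => exact h u v

theorem sb_mul_left (u u' v : Bˣ) : sb (u * u') v = sb u v + sb u' v := TensorProduct.add_tmul _ _ _
theorem sb_mul_right (u v v' : Bˣ) : sb u (v * v') = sb u v + sb u v' := TensorProduct.tmul_add _ _ _
theorem sb_pow_left (u v : Bˣ) (n : ℕ) : sb (u ^ n) v = n • sb u v := by
  unfold sb
  rw [ofMul_pow, ← TensorProduct.smul_tmul']
theorem sb_pow_right (u v : Bˣ) (n : ℕ) : sb u (v ^ n) = n • sb u v := by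
  unfold sb
  rw [ofMul_pow, TensorProduct.tmul_smul]

/-- Biadditive maps on units give maps on `Tn`. -/
def tlift {G : Type*} [AddCommGroup G] (f : Additive Bˣ →+ Additive Bˣ →+ G) : Tn B →+ G :=
  TensorProduct.liftAddHom f (fun r m n => by
    rw [map_zsmul, map_zsmul]
    rfl)

theorem tlift_sb {G : Type*} [AddCommGroup G] (f : Additive Bˣ →+ Additive Bˣ →+ G) (u v : Bˣ) :
    tlift f (sb u v) = f (Additive.ofMul u) (Additive.ofMul v) := by
  unfold tlift sb
  exact TensorProduct.liftAddHom_tmul _ _ _ _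

/-- Biadditive maps on units from functions. -/
def mk2 {G : Type*} [AddCommGroup G] (f : Bˣ → Bˣ → G) (hl : ∀ u u' v, f (u * u') v = f u v + f u' v)
    (hr : ∀ u v v', f u (v * v') = f u v + f u v') : Tn B →+ G :=
  tlift (AddMonoidHom.mk' (fun u => AddMonoidHom.mk' (fun v => f u.toMul v.toMul) (fun _ _ => hr _ _ _))
    (fun _ _ => AddMonoidHom.ext fun _ => hl _ _ _))

theorem mk2_sb {G : Type*} [AddCommGroup G] (f : Bˣ → Bˣ → G) (hl : ∀ u u' v, f (u * u') v = f u v + f u' v)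
    (hr : ∀ u v v', f u (v * v') = f u v + f u v') (u v : Bˣ) : mk2 f hl hr (sb u v) = f u v := by
  unfold mk2
  rw [tlift_sb]
  rfl

/-- The logarithmic two-form of a symbol. -/
def sy : Tn B →+ Om2 B :=
  mk2 (fun u v => w (dl u) (dl v)) (fun u u' v => by rw [dl_mul, w_add_left])
    (fun u v v' => by rw [dl_mul, w_add_right])

theorem sy_sb (u v : Bˣ) : sy (sb u v) = w (dl u) (dl v) := mk2_sb _ _ _ _ _

/-- Functoriality of `Tn`. -/
def tmap (f : B →+* C) : Tn B →+ Tn C :=
  mk2 (fun u v => sb (Units.map f.toMonoidHom u) (Units.map f.toMonoidHom v))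
    (fun u u' v => by rw [map_mul, sb_mul_left]) (fun u v v' => by rw [map_mul, sb_mul_right])

theorem tmap_sb (f : B →+* C) (u v : Bˣ) :
    tmap f (sb u v) = sb (Units.map f.toMonoidHom u) (Units.map f.toMonoidHom v) := mk2_sb _ _ _ _ _

theorem tmap_id : tmap (RingHom.id B) = AddMonoidHom.id _ := tn_hom_ext fun u v => by
  rw [tmap_sb]
  rfl

theorem tmap_comp {E : Type*} [CommRing E] (f : B →+* C) (g : C →+* E) :
    tmap (g.comp f) = (tmap g).comp (tmap f) := tn_hom_ext fun u v => by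
  rw [AddMonoidHom.comp_apply, tmap_sb, tmap_sb, tmap_sb]
  rfl

theorem omap2_sy (f : B →+* C) (z : Tn B) : omap2 f (sy z) = sy (tmap f z) := by
  refine DFunLike.congr_fun (tn_hom_ext (a := (omap2 f).comp sy) (b := sy.comp (tmap f)) fun u v => ?_) z
  rw [AddMonoidHom.comp_apply, AddMonoidHom.comp_apply, sy_sb, tmap_sb, sy_sb, omap2_w, omap_dl, omap_dl]

end basic

/-! ### The logarithm -/

section log

variable {A : Type u} [CommRing A] (p : ℕ) [hp : Fact p.Prime] (n : ℕ) (hA : (p : A) ^ n = 0)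

omit hp in
include hA in
theorem exists_inv_coprime (m : ℕ) (hm : Nat.Coprime m p) : ∃ c : A, c * (m : A) = 1 := by
  have h1 : IsUnit (m : A) := by
    obtain ⟨a, b, hab⟩ := (Nat.isCoprime_iff_coprime.2 hm)
    have h2 : (a : A) * m = 1 - b * p := by
      have := congrArg (fun z : ℤ => (z : A)) hab
      push_cast at this
      rw [← this]
      ring
    have h3 : IsUnit ((a : A) * m) := by
      rw [h2]
      apply IsNilpotent.isUnit_one_sub
      exact ⟨n, by rw [mul_pow, hA, mul_zero]⟩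
    exact isUnit_of_mul_isUnit_right h3
  obtain ⟨c, hc⟩ := h1.exists_left_inv
  exact ⟨c, hc⟩

theorem D_inv_nat (m : ℕ) (c : A) (hc : c * (m : A) = 1) : D ℤ A c = 0 := by
  have h1 := congrArg (D ℤ A) hc
  rw [Derivation.leibniz, Derivation.map_natCast, Derivation.map_one_eq_zero, smul_zero, zero_add] at h1
  have h2 := congrArg (fun z => c • z) h1
  simpa only [smul_smul, hc, one_smul, smul_zero] using h2

include hA in
/-- Divided powers of `p`: `e * k = p ^ (k - 1)`, `d e = 0`. -/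
theorem exists_e (k : ℕ) (hk : 0 < k) : ∃ e : A, e * (k : A) = (p : A) ^ (k - 1) ∧ D ℤ A e = 0 := by
  obtain ⟨a, m, hm, hkm⟩ := Nat.exists_eq_pow_mul_and_not_dvd hk.ne' p hp.out.ne_one
  obtain ⟨c, hc⟩ := exists_inv_coprime p n hA m ((Nat.Prime.coprime_iff_not_dvd hp.out).2 hm).symm
  have hm0 : 0 < m := Nat.pos_of_ne_zero (fun h => hm (h ▸ dvd_zero p))
  have h1 : a + 1 ≤ k := by
    have h2 : a < p ^ a := Nat.lt_pow_self hp.out.one_lt
    calc a + 1 ≤ p ^ a := h2
      _ ≤ p ^ a * m := Nat.le_mul_of_pos_right _ hm0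
      _ = k := hkm.symm
  refine ⟨(p : A) ^ (k - 1 - a) * c, ?_, ?_⟩
  · have h3 : (p : A) ^ (k - 1) = (p : A) ^ (k - 1 - a) * (p : A) ^ a := by
      rw [← pow_add]
      congr 1
      omega
    rw [h3]
    conv_lhs => rw [hkm]
    push_cast
    calc (p : A) ^ (p ^ a * m - 1 - a) * c * ((p : A) ^ a * m) =
        (p : A) ^ (p ^ a * m - 1 - a) * (p : A) ^ a * (c * m) := by ring
      _ = (p : A) ^ (k - 1 - a) * (p : A) ^ a := by rw [hc, mul_one, ← hkm]
  · rw [Derivation.leibniz, D_inv_nat m c hc, smul_zero, zero_add, Derivation.leibniz_pow,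
      Derivation.map_natCast, smul_zero, smul_zero, smul_zero]

include hA in
/-- `dlog (1 + p w) = d (p l)`. -/
theorem exists_log (u : Aˣ) (w : A) (hu : (u : A) = 1 + p * w) : ∃ l : A, D ℤ A (p * l) = dl u := by
  choose! e he he' using fun k hk => exists_e (A := A) p n hA k hk
  refine ⟨∑ j ∈ Finset.range n, (-1) ^ j * e (j + 1) * w ^ (j + 1), ?_⟩
  have h1 : ∀ j, D ℤ A ((p : A) * ((-1) ^ j * e (j + 1) * w ^ (j + 1))) =
      (-(p * w)) ^ j • (p : A) • D ℤ A w := by
    intro j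
    have e1 : D ℤ A ((-1 : A) ^ j) = 0 := by
      rw [Derivation.leibniz_pow, map_neg, Derivation.map_one_eq_zero]
      simp
    have e2 : D ℤ A ((p : A) * ((-1) ^ j * e (j + 1))) = 0 := by
      rw [Derivation.leibniz, Derivation.leibniz, e1, he' _ (Nat.succ_pos j), Derivation.map_natCast]
      simp
    have e3 : (p : A) * ((-1) ^ j * e (j + 1) * w ^ (j + 1)) = ((p : A) * ((-1) ^ j * e (j + 1))) * w ^ (j + 1) := by
      ring
    rw [e3, Derivation.leibniz, e2, smul_zero, add_zero, Derivation.leibniz_pow, ← Nat.cast_smul_eq_nsmul A,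
      smul_smul, smul_smul, smul_smul, Nat.add_sub_cancel]
    congr 1
    have h3 := he (j + 1) (Nat.succ_pos j)
    rw [Nat.add_sub_cancel] at h3
    calc (p : A) * ((-1) ^ j * e (j + 1)) * ((j + 1 : ℕ) : A) * w ^ j =
        p * (-1) ^ j * (e (j + 1) * ((j + 1 : ℕ) : A)) * w ^ j := by ring
      _ = (-(p * w)) ^ j * p := by rw [h3, neg_pow ((p : A) * w), mul_pow]; ring
  rw [Finset.mul_sum, map_sum, Finset.sum_congr rfl fun j _ => h1 j, ← Finset.sum_smul]
  have h4 : (∑ j ∈ Finset.range n, (-((p : A) * w)) ^ j) = (u⁻¹ : Aˣ).val := by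
    have h5 := mul_neg_geom_sum (-((p : A) * w)) n
    have h6 : 1 - -((p : A) * w) = u := by rw [hu]; ring
    have h7 : (-((p : A) * w)) ^ n = 0 := by rw [neg_pow, mul_pow, hA, zero_mul, mul_zero]
    rw [h6, h7, sub_zero] at h5
    calc (∑ j ∈ Finset.range n, (-((p : A) * w)) ^ j) =
        (u⁻¹ : Aˣ).val * (u.val * ∑ j ∈ Finset.range n, (-((p : A) * w)) ^ j) := by
          rw [← mul_assoc, Units.inv_mul, one_mul]
      _ = (u⁻¹ : Aˣ).val := by rw [h5, mul_one]
  rw [h4]
  unfold dl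
  rw [hu, map_add, Derivation.map_one_eq_zero, zero_add, Derivation.leibniz, Derivation.map_natCast, smul_zero,
    add_zero]

end log

/-! ### Lifts -/

section lift

variable {A : Type u} [CommRing A] {B : Type v} [CommRing B]

/-- Units lift along `π`, and `dlog` of the units over `1` is exact. -/
structure IsLift (π : A →+* B) : Prop where
  surj : ∀ b : Bˣ, ∃ a : Aˣ, Units.map π.toMonoidHom a = b
  exact' : ∀ a : Aˣ, π a = 1 → ∃ l : A, D ℤ A l = dl a

theorem isLift_of_nilpotent (p : ℕ) [hp : Fact p.Prime] (n : ℕ) (hA : (p : A) ^ n = 0) (π : A →+* B)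
    (hs : Function.Surjective π) (hk : RingHom.ker π = Ideal.span {(p : A)}) : IsLift π where
  surj b := by
    obtain ⟨a, ha⟩ := hs b
    obtain ⟨a', ha'⟩ := hs (b⁻¹ : Bˣ).val
    have h1 : a * a' - 1 ∈ RingHom.ker π := by
      rw [RingHom.mem_ker, map_sub, map_mul, ha, ha', Units.mul_inv, map_one, sub_self]
    rw [hk, Ideal.mem_span_singleton] at h1
    obtain ⟨c, hc⟩ := h1
    have h2 : IsUnit (a * a') := by
      have : a * a' = 1 + p * c := by rw [← hc]; ring
      rw [this]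
      apply IsNilpotent.isUnit_one_add
      exact ⟨n, by rw [mul_pow, hA, zero_mul]⟩
    have h3 : IsUnit a := isUnit_of_mul_isUnit_left h2
    refine ⟨h3.unit, ?_⟩
    apply Units.ext
    exact ha
  exact' a ha := by
    have h1 : (a : A) - 1 ∈ RingHom.ker π := by rw [RingHom.mem_ker, map_sub, ha, map_one, sub_self]
    rw [hk, Ideal.mem_span_singleton] at h1
    obtain ⟨c, hc⟩ := h1
    obtain ⟨l, hl⟩ := exists_log p n hA a c (by rw [← hc]; ring)
    exact ⟨_, hl⟩

variable {π : A →+* B} (h : IsLift π)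

/-- A chosen lift of a unit. -/
def IsLift.lu (b : Bˣ) : Aˣ := (h.surj b).choose

theorem IsLift.lu_spec (b : Bˣ) : Units.map π.toMonoidHom (h.lu b) = b := (h.surj b).choose_spec

include h in
/-- The class of `dlog a ∧ dlog a'` only depends on the classes of `a`, `a'`. -/
theorem IsLift.congr {a a' c c' : Aˣ} (h1 : Units.map π.toMonoidHom a = Units.map π.toMonoidHom a')
    (h2 : Units.map π.toMonoidHom c = Units.map π.toMonoidHom c') :
    cl2 (w (dl a) (dl c)) = cl2 (w (dl a') (dl c')) := by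
  have key : ∀ x y : Aˣ, Units.map π.toMonoidHom x = Units.map π.toMonoidHom y → cl (dl x) = cl (dl y) := by
    intro x y hxy
    obtain ⟨l, hl⟩ := h.exact' (x * y⁻¹) (by
      have := congrArg Units.val (show Units.map π.toMonoidHom (x * y⁻¹) = 1 by
        rw [map_mul, map_inv, hxy, mul_inv_cancel])
      exact this)
    rw [dl_mul, dl_inv] at hl
    rw [← sub_eq_zero, ← cl_sub, cl_eq_zero, mem_Ex]
    exact ⟨l, by rw [hl, sub_eq_add_neg]⟩
  exact cl2_w_congr (d1_dl a) (d1_dl c') (key _ _ h1) (key _ _ h2)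

/-- The canonical map `u ⊗ v ↦ [dlog u' ∧ dlog v']`. -/
def IsLift.syL : Tn B →+ Q2 A :=
  mk2 (fun u v => cl2 (w (dl (h.lu u)) (dl (h.lu v))))
    (fun u u' v => by
      rw [← cl2_add, ← w_add_left, ← dl_mul]
      refine h.congr ?_ rfl
      rw [map_mul, h.lu_spec, h.lu_spec, h.lu_spec])
    (fun u v v' => by
      rw [← cl2_add, ← w_add_right, ← dl_mul]
      apply h.congr rfl
      rw [map_mul, h.lu_spec, h.lu_spec, h.lu_spec])

theorem IsLift.syL_sb (a c : Aˣ) :
    h.syL (sb (Units.map π.toMonoidHom a) (Units.map π.toMonoidHom c)) = cl2 (w (dl a) (dl c)) := by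
  unfold IsLift.syL
  rw [mk2_sb]
  exact h.congr (h.lu_spec _) (h.lu_spec _)

theorem IsLift.syL_tmap (z : Tn A) : h.syL (tmap π z) = cl2 (sy z) := by
  refine DFunLike.congr_fun (tn_hom_ext (a := h.syL.comp (tmap π)) (b := (cl2Hom A).comp sy) fun u v => ?_) z
  rw [AddMonoidHom.comp_apply, AddMonoidHom.comp_apply, sy_sb, tmap_sb, h.syL_sb]
  rfl

include h in
theorem IsLift.tmap_surjective : Function.Surjective (tmap π) := by
  intro z
  induction z using tn_induction with
  | h0 => exact ⟨0, map_zero _⟩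
  | hadd x y hx hy =>
    obtain ⟨a, rfl⟩ := hx
    obtain ⟨b, rfl⟩ := hy
    exact ⟨a + b, map_add _ _ _⟩
  | hs u v => exact ⟨sb (h.lu u) (h.lu v), by rw [tmap_sb, h.lu_spec, h.lu_spec]⟩

include h in
/-- The logarithmic forms of two lifts of the same element differ by an exact form. -/
theorem IsLift.sy_congr (z z' : Tn A) (hz : tmap π z = tmap π z') : sy z - sy z' ∈ Ex2 A := by
  have h1 := h.syL_tmap z
  rw [hz, h.syL_tmap z'] at h1
  exact cl2_eq_zero.1 (by rw [cl2_sub, h1, sub_self])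

theorem IsLift.syL_nat {A' : Type*} [CommRing A'] {B' : Type*} [CommRing B'] {π' : A' →+* B'} (h' : IsLift π')
    (φ : A →+* A') (ψ : B →+* B') (hc : ψ.comp π = π'.comp φ) (z : Tn B) :
    qmap2 φ (h.syL z) = h'.syL (tmap ψ z) := by
  obtain ⟨y, rfl⟩ := h.tmap_surjective z
  rw [h.syL_tmap, qmap2_cl2, omap2_sy, ← h'.syL_tmap]
  congr 1
  have := congrArg (fun f => tmap f y) hc
  simp only [tmap_comp, AddMonoidHom.comp_apply] at this
  exact this.symm

end lift

end K720.Sym
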