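import Groth.Agent.Etbase.EtSections
import Groth.Agent.CurvesA.ArtinSchreier
import Groth.Agent.Dix.EtaleSieve

/-!
# Twists of a sheaf by a torsor along a pairing

`Pairing A B C`: biadditive pairings of abelian étale sheaves. `Tor A`: a torsor under `A` presented inside a sheaf
`G ⊇ A` (for instance the sections of `G` over a section of `G / A`). `Tw T β`: the sheaf of pairs `(b, h)`, `b ∈ B(U)`,
`h : T → C` with `h (g + x) = h g + β x b`; it is an extension of `B` by `C` (`shortExact`).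
-/

set_option autoImplicit false

universe u

open CategoryTheory CategoryTheory.Limits AlgebraicGeometry Opposite

noncomputable section

namespace K720.Tw

variable {X : Scheme.{u}}

/-- Restriction of sections. -/
abbrev rs (F : EtCoh.Ab X) {V W : X.Etale} (k : W ⟶ V) : EtCoh.sect F V →+ EtCoh.sect F W :=
  (F.obj.map k.op).hom

/-- The map on sections. -/
abbrev ap {F G : EtCoh.Ab X} (φ : F ⟶ G) (V : X.Etale) : EtCoh.sect F V →+ EtCoh.sect G V :=
  (φ.hom.app (op V)).hom

theorem rs_id (F : EtCoh.Ab X) {V : X.Etale} (s : EtCoh.sect F V) : rs F (𝟙 V) s = s := by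
  change (F.obj.map (𝟙 V).op) s = s
  rw [op_id, F.obj.map_id]
  rfl

theorem rs_comp (F : EtCoh.Ab X) {V W Z : X.Etale} (k : W ⟶ V) (l : Z ⟶ W) (s : EtCoh.sect F V) :
    rs F (l ≫ k) s = rs F l (rs F k s) := by
  change (F.obj.map (l ≫ k).op) s = _
  rw [op_comp, F.obj.map_comp]
  rfl

theorem ap_rs {F G : EtCoh.Ab X} (φ : F ⟶ G) {V W : X.Etale} (k : W ⟶ V) (s : EtCoh.sect F V) :
    ap φ W (rs F k s) = rs G k (ap φ V s) :=
  ConcreteCategory.congr_hom (φ.hom.naturality k.op) s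

theorem ap_comp {F G K : EtCoh.Ab X} (φ : F ⟶ G) (ψ : G ⟶ K) (V : X.Etale) (s : EtCoh.sect F V) :
    ap (φ ≫ ψ) V s = ap ψ V (ap φ V s) := rfl

theorem ap_injective {F G : EtCoh.Ab X} (φ : F ⟶ G) [Mono φ] (V : X.Etale) : Function.Injective (ap φ V) := by
  have h1 : Mono ((sheafToPresheaf X.smallEtaleTopology AddCommGrpCat.{u + 1}).map φ) := inferInstance
  have h2 : Mono (((sheafToPresheaf X.smallEtaleTopology AddCommGrpCat.{u + 1}).map φ).app (op V)) := inferInstance
  exact (AddCommGrpCat.mono_iff_injective _).1 h2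

/-- Morphisms of sheaves from maps on sections. -/
def mkHom {F G : EtCoh.Ab X} (f : ∀ V : X.Etale, EtCoh.sect F V →+ EtCoh.sect G V)
    (hf : ∀ {V W : X.Etale} (k : W ⟶ V) (s : EtCoh.sect F V), f W (rs F k s) = rs G k (f V s)) : F ⟶ G where
  hom :=
    { app := fun V => AddCommGrpCat.ofHom (f V.unop)
      naturality := fun V W k => by
        ext s
        exact hf k.unop s }

theorem ap_mkHom {F G : EtCoh.Ab X} (f : ∀ V : X.Etale, EtCoh.sect F V →+ EtCoh.sect G V)
    (hf : ∀ {V W : X.Etale} (k : W ⟶ V) (s : EtCoh.sect F V), f W (rs F k s) = rs G k (f V s)) (V : X.Etale)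
    (s : EtCoh.sect F V) : ap (mkHom f hf) V s = f V s := rfl

theorem hom_ext {F G : EtCoh.Ab X} {φ ψ : F ⟶ G} (h : ∀ V s, ap φ V s = ap ψ V s) : φ = ψ := by
  apply Sheaf.hom_ext
  ext V s
  exact h V.unop s

/-- Biadditive pairings of abelian étale sheaves. -/
structure Pairing (A B C : EtCoh.Ab X) where
  /-- the maps -/
  app : ∀ U : X.Etale, EtCoh.sect A U →+ EtCoh.sect B U →+ EtCoh.sect C U
  nat : ∀ {U V : X.Etale} (k : V ⟶ U) (a : EtCoh.sect A U) (b : EtCoh.sect B U),
    app V (rs A k a) (rs B k b) = rs C k (app U a b)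

/-- Torsors under `A` inside a sheaf containing `A`. -/
structure Tor (A : EtCoh.Ab X) where
  /-- the ambient sheaf -/
  G : EtCoh.Ab X
  /-- the inclusion -/
  i : A ⟶ G
  /-- the sections of the torsor -/
  P : ∀ V : X.Etale, Set (EtCoh.sect G V)
  res : ∀ {V W : X.Etale} (k : W ⟶ V) (g : EtCoh.sect G V), g ∈ P V → rs G k g ∈ P W
  add : ∀ (V : X.Etale) (g : EtCoh.sect G V) (x : EtCoh.sect A V), g ∈ P V → g + ap i V x ∈ P V
  inj : ∀ (V : X.Etale) (x : EtCoh.sect A V), ap i V x = 0 → x = 0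
  diff : ∀ (V : X.Etale) (g g' : EtCoh.sect G V), g ∈ P V → g' ∈ P V → ∃ x, g' = g + ap i V x
  loc : ∀ (V : X.Etale) (x : V.left), ∃ (W : X.Etale) (k : W ⟶ V) (w : W.left), k.left w = x ∧ ∃ g, g ∈ P W

namespace Tor

variable {A : EtCoh.Ab X} (T : Tor A)

/-- The sections of the torsor. -/
abbrev pt (V : X.Etale) : Type (u + 1) := {g : EtCoh.sect T.G V // g ∈ T.P V}

/-- Restriction. -/
def rp {V W : X.Etale} (k : W ⟶ V) (g : T.pt V) : T.pt W := ⟨rs T.G k g.1, T.res k g.1 g.2⟩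

/-- Translation. -/
def tr {V : X.Etale} (g : T.pt V) (x : EtCoh.sect A V) : T.pt V := ⟨g.1 + ap T.i V x, T.add V g.1 x g.2⟩

theorem rp_id {V : X.Etale} (g : T.pt V) : T.rp (𝟙 V) g = g := Subtype.ext (rs_id _ _)

theorem rp_comp {V W Z : X.Etale} (k : W ⟶ V) (l : Z ⟶ W) (g : T.pt V) :
    T.rp (l ≫ k) g = T.rp l (T.rp k g) := Subtype.ext (rs_comp _ _ _ _)

theorem rp_tr {V W : X.Etale} (k : W ⟶ V) (g : T.pt V) (x : EtCoh.sect A V) :
    T.rp k (T.tr g x) = T.tr (T.rp k g) (rs A k x) := by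
  apply Subtype.ext
  change rs T.G k (g.1 + ap T.i V x) = rs T.G k g.1 + ap T.i W (rs A k x)
  rw [map_add, ap_rs]

theorem tr_zero {V : X.Etale} (g : T.pt V) : T.tr g 0 = g := Subtype.ext (by
  change g.1 + ap T.i V 0 = g.1
  rw [map_zero, add_zero])

theorem tr_tr {V : X.Etale} (g : T.pt V) (x y : EtCoh.sect A V) : T.tr (T.tr g x) y = T.tr g (x + y) :=
  Subtype.ext (by
    change g.1 + ap T.i V x + ap T.i V y = g.1 + ap T.i V (x + y)
    rw [map_add, add_assoc])

/-- The difference of two sections of the torsor. -/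
def df {V : X.Etale} (g g' : T.pt V) : EtCoh.sect A V := (T.diff V g.1 g'.1 g.2 g'.2).choose

theorem tr_df {V : X.Etale} (g g' : T.pt V) : T.tr g (T.df g g') = g' :=
  Subtype.ext (T.diff V g.1 g'.1 g.2 g'.2).choose_spec.symm

theorem tr_injective {V : X.Etale} (g : T.pt V) {x y : EtCoh.sect A V} (h : T.tr g x = T.tr g y) : x = y := by
  have h1 : g.1 + ap T.i V x = g.1 + ap T.i V y := congrArg Subtype.val h
  have h2 := add_left_cancel h1
  rw [← sub_eq_zero]
  apply T.inj V
  rw [map_sub, h2, sub_self]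

theorem df_eq {V : X.Etale} {g g' : T.pt V} {x : EtCoh.sect A V} (h : T.tr g x = g') : T.df g g' = x :=
  T.tr_injective g (by rw [tr_df, h])

theorem df_self {V : X.Etale} (g : T.pt V) : T.df g g = 0 := T.df_eq (T.tr_zero g)

theorem df_tr {V : X.Etale} (g g' : T.pt V) (x : EtCoh.sect A V) : T.df g (T.tr g' x) = T.df g g' + x :=
  T.df_eq (by rw [← tr_tr, tr_df])

theorem rs_df {V W : X.Etale} (k : W ⟶ V) (g g' : T.pt V) :
    rs A k (T.df g g') = T.df (T.rp k g) (T.rp k g') :=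
  (T.df_eq (by rw [← rp_tr, tr_df])).symm

/-- The torsor of liftings of a section of the quotient. -/
def ofSES (S : ShortComplex (EtCoh.Ab X)) (hS : S.ShortExact) (a : ∀ V : X.Etale, EtCoh.sect S.X₃ V)
    (ha : ∀ {V W : X.Etale} (k : W ⟶ V), rs S.X₃ k (a V) = a W) : Tor S.X₁ where
  G := S.X₂
  i := S.f
  P V := {g | ap S.g V g = a V}
  res k g hg := by
    change ap S.g _ (rs S.X₂ k g) = a _
    rw [ap_rs, show ap S.g _ g = a _ from hg, ha]
  add V g x hg := by
    change ap S.g V (g + ap S.f V x) = a V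
    have h0 : ap S.g V (ap S.f V x) = 0 := by
      rw [← ap_comp, S.zero]
      rfl
    rw [map_add, show ap S.g V g = a V from hg, h0, add_zero]
  inj V x hx := by
    have := hS.mono_f
    exact ap_injective S.f V (by rw [hx, map_zero])
  diff V g g' hg hg' := by
    have := hS.mono_f
    have h0 : ap S.g V (g' - g) = 0 := by
      rw [map_sub, show ap S.g V g = a V from hg, show ap S.g V g' = a V from hg', sub_self]
    obtain ⟨x, hx⟩ : ∃ x, ap S.f V x = g' - g := by
      have e1 : (S.map (sheafToPresheaf X.smallEtaleTopology AddCommGrpCat.{u + 1})).Exact :=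
        hS.exact.map_of_mono_of_preservesKernel _ inferInstance inferInstance
      have e2 : ((S.map (sheafToPresheaf X.smallEtaleTopology AddCommGrpCat.{u + 1})).map
          ((evaluation _ _).obj (op V))).Exact := e1.map _
      exact (ShortComplex.ab_exact_iff _).1 e2 _ h0
    exact ⟨x, by rw [hx]; abel⟩
  loc V x := by
    have := hS.epi_g
    obtain ⟨W, k, ⟨w, hw⟩, t, ht⟩ := (Groth.Agent.Dix.EtaleSieve.epi_iff S.g).1 inferInstance V (a V) x
    refine ⟨W, k, w, hw, t, ?_⟩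
    exact ht.trans (ha k)

end Tor

section tw

variable {A B C : EtCoh.Ab X} (T : Tor A) (β : Pairing A B C)

/-- The sections of the twist. -/
def grp (U : X.Etale) : AddSubgroup (EtCoh.sect B U × ((V : X.Etale) → (V ⟶ U) → T.pt V → EtCoh.sect C V)) where
  carrier := {z | (∀ (V W : X.Etale) (k : W ⟶ V) (f : V ⟶ U) (g : T.pt V),
      z.2 W (k ≫ f) (T.rp k g) = rs C k (z.2 V f g)) ∧
    (∀ (V : X.Etale) (f : V ⟶ U) (g : T.pt V) (x : EtCoh.sect A V),
      z.2 V f (T.tr g x) = z.2 V f g + β.app V x (rs B f z.1))}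
  zero_mem' := by
    refine ⟨fun V W k f g => ?_, fun V f g x => ?_⟩
    · change (0 : EtCoh.sect C W) = rs C k 0
      rw [map_zero]
    · change (0 : EtCoh.sect C V) = 0 + β.app V x (rs B f 0)
      rw [map_zero, map_zero, add_zero]
  add_mem' := by
    rintro z z' ⟨h1, h2⟩ ⟨h1', h2'⟩
    refine ⟨fun V W k f g => ?_, fun V f g x => ?_⟩
    · change z.2 W (k ≫ f) (T.rp k g) + z'.2 W (k ≫ f) (T.rp k g) = rs C k (z.2 V f g + z'.2 V f g)
      rw [map_add, h1, h1']
    · change z.2 V f (T.tr g x) + z'.2 V f (T.tr g x) = z.2 V f g + z'.2 V f g + β.app V x (rs B f (z.1 + z'.1))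
      rw [map_add, map_add, h2, h2']
      abel
  neg_mem' := by
    rintro z ⟨h1, h2⟩
    refine ⟨fun V W k f g => ?_, fun V f g x => ?_⟩
    · change -z.2 W (k ≫ f) (T.rp k g) = rs C k (-z.2 V f g)
      rw [map_neg, h1]
    · change -z.2 V f (T.tr g x) = -z.2 V f g + β.app V x (rs B f (-z.1))
      rw [map_neg, map_neg, h2]
      abel

variable {T β}

theorem grp_ext {U : X.Etale} {z z' : grp T β U} (h1 : z.1.1 = z'.1.1)
    (h2 : ∀ (V : X.Etale) (f : V ⟶ U) (g : T.pt V), z.1.2 V f g = z'.1.2 V f g) : z = z' := by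
  apply Subtype.ext
  apply Prod.ext h1
  funext V f g
  exact h2 V f g

variable (T β)

/-- Restriction. -/
def rg {U U' : X.Etale} (l : U' ⟶ U) : grp T β U →+ grp T β U' where
  toFun z := ⟨(rs B l z.1.1, fun V f g => z.1.2 V (f ≫ l) g), by
    obtain ⟨z, h1, h2⟩ := z
    refine ⟨fun V W k f g => ?_, fun V f g x => ?_⟩
    · change z.2 W ((k ≫ f) ≫ l) (T.rp k g) = rs C k (z.2 V (f ≫ l) g)
      rw [← h1 V W k (f ≫ l) g, Category.assoc]
    · change z.2 V (f ≫ l) (T.tr g x) = z.2 V (f ≫ l) g + β.app V x (rs B f (rs B l z.1))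
      rw [h2, rs_comp]⟩
  map_zero' := grp_ext (map_zero _) fun _ _ _ => rfl
  map_add' _ _ := grp_ext (map_add _ _ _) fun _ _ _ => rfl

/-- The presheaf. -/
def psh : X.Etaleᵒᵖ ⥤ AddCommGrpCat.{u + 1} where
  obj U := AddCommGrpCat.of (grp T β U.unop)
  map l := AddCommGrpCat.ofHom (rg T β l.unop)
  map_id U := by
    apply AddCommGrpCat.hom_ext
    refine AddMonoidHom.ext fun (z : grp T β U.unop) => ?_
    change rg T β (𝟙 U.unop) z = z
    refine grp_ext (rs_id B z.1.1) fun V f g => ?_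
    change z.1.2 V (f ≫ 𝟙 _) g = z.1.2 V f g
    rw [Category.comp_id]
  map_comp {U U' U''} l l' := by
    apply AddCommGrpCat.hom_ext
    refine AddMonoidHom.ext fun (z : grp T β U.unop) => ?_
    change rg T β (l'.unop ≫ l.unop) z = rg T β l'.unop (rg T β l.unop z)
    refine grp_ext (rs_comp B l.unop l'.unop z.1.1) fun V f g => ?_
    change z.1.2 V (f ≫ l'.unop ≫ l.unop) g = z.1.2 V ((f ≫ l'.unop) ≫ l.unop) g
    rw [Category.assoc]

theorem isSheaf : Presheaf.IsSheaf X.smallEtaleTopology (psh T β) := by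
  rw [Presheaf.isSheaf_iff_isSheaf_forget _ _ (forget AddCommGrpCat.{u + 1}), isSheaf_iff_isSheaf_of_type]
  intro U R hR x hx
  have hR' := (Groth.Agent.Etbase.EtSite.mem_iff U R).1 hR
  -- the members of the family
  let z : ∀ (V : X.Etale) (g : V ⟶ U), R g → grp T β V := fun V g hg => x g hg
  have hz : ∀ (V W : X.Etale) (g : V ⟶ U) (hg : R g) (k : W ⟶ V) (hk : R (k ≫ g)),
      rg T β k (z V g hg) = z W (k ≫ g) hk := fun V W g hg k hk =>
    ((Presieve.compatible_iff_sieveCompatible _).1 hx g k hg).symm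
  have hRp : ∀ (V : X.Etale) (f : V ⟶ U) (y : V.left), ∃ (W : X.Etale) (k : W ⟶ V) (w : W.left),
      (R.pullback f) k ∧ k.left w = y :=
    fun V f => (Groth.Agent.Etbase.EtSite.mem_iff V (R.pullback f)).1 (X.smallEtaleTopology.pullback_stable f hR)
  obtain ⟨b, hb⟩ := Groth.Agent.Etbase.EtSections.exists_glue B U R hR' (fun V g hg => (z V g hg).1.1)
    (fun V W g hg k hk => congrArg (fun t => t.1.1) (hz V W g hg k hk))
  have hh : ∀ (V : X.Etale) (f : V ⟶ U) (g : T.pt V), ∃ c : EtCoh.sect C V, ∀ (W : X.Etale) (k : W ⟶ V)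
      (hk : R (k ≫ f)), rs C k c = (z W (k ≫ f) hk).1.2 W (𝟙 W) (T.rp k g) := by
    intro V f g
    obtain ⟨c, hc⟩ := Groth.Agent.Etbase.EtSections.exists_glue C V (R.pullback f) (hRp V f)
      (fun W k hk => (z W (k ≫ f) hk).1.2 W (𝟙 W) (T.rp k g)) (by
        intro W Z k hk l hl
        have e1 := (z W (k ≫ f) hk).2.1 W Z l (𝟙 W) (T.rp k g)
        refine e1.symm.trans ?_
        have e2 := congrArg (fun t => t.1.2 Z (𝟙 Z) (T.rp (l ≫ k) g)) (hz W Z (k ≫ f) hk l (by
          have := hl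
          rw [← Category.assoc]
          exact this))
        change (z W (k ≫ f) hk).1.2 Z (𝟙 Z ≫ l) (T.rp (l ≫ k) g) = _ at e2
        rw [Category.id_comp] at e2
        rw [Category.comp_id, ← T.rp_comp, e2]
        simp only [Category.assoc])
    exact ⟨c, fun W k hk => hc W k hk⟩
  choose h hh using hh
  have sep : ∀ (V : X.Etale) (f : V ⟶ U) (c c' : EtCoh.sect C V),
      (∀ (W : X.Etale) (k : W ⟶ V), R (k ≫ f) → rs C k c = rs C k c') → c = c' := by
    intro V f c c' hcc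
    refine Groth.Agent.Etbase.EtSite.sect_ext C V c c' fun y => ?_
    obtain ⟨W, k, w, hk, hw⟩ := hRp V f y
    exact ⟨W, k, w, hw, hcc W k hk⟩
  have hmem : ((b, h) : EtCoh.sect B U × ((V : X.Etale) → (V ⟶ U) → T.pt V → EtCoh.sect C V)) ∈ grp T β U := by
    refine ⟨fun V W k f g => ?_, fun V f g y => ?_⟩
    · change h W (k ≫ f) (T.rp k g) = rs C k (h V f g)
      apply sep W (k ≫ f)
      intro Z l hl
      have hl' : R ((l ≫ k) ≫ f) := by rw [Category.assoc]; exact hl
      rw [hh W (k ≫ f) (T.rp k g) Z l hl, ← rs_comp, hh V f g Z (l ≫ k) hl', T.rp_comp]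
      simp only [Category.assoc]
    · change h V f (T.tr g y) = h V f g + β.app V y (rs B f b)
      apply sep V f
      intro Z l hl
      rw [map_add, hh V f (T.tr g y) Z l hl, hh V f g Z l hl, T.rp_tr, (z Z (l ≫ f) hl).2.2, ← β.nat, ← rs_comp]
      congr 2
      rw [rs_id]
      exact (hb Z (l ≫ f) hl).symm
  refine ⟨(⟨(b, h), hmem⟩ : grp T β U), ?_, ?_⟩
  · intro V g hg
    refine grp_ext (hb V g hg) fun W k s => ?_
    change h W (k ≫ g) s = (z V g hg).1.2 W k s
    have hkg : R (k ≫ g) := R.downward_closed hg k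
    have e1 := hh W (k ≫ g) s W (𝟙 W) (by rw [Category.id_comp]; exact hkg)
    rw [rs_id, T.rp_id] at e1
    rw [e1]
    have e2 := congrArg (fun t => t.1.2 W (𝟙 W) s) (hz V W g hg k hkg)
    change (z V g hg).1.2 W (𝟙 W ≫ k) s = _ at e2
    rw [Category.id_comp] at e2
    rw [e2]
    simp only [Category.id_comp]
  · intro t ht
    refine grp_ext ?_ fun V f g => ?_
    · refine Groth.Agent.Etbase.EtSite.sect_ext B U _ _ fun y => ?_
      obtain ⟨V, k, v, hk, hv⟩ := hR' y
      refine ⟨V, k, v, hv, ?_⟩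
      have e1 : rg T β k t = z V k hk := ht k hk
      exact (congrArg (fun t => t.1.1) e1).trans (hb V k hk).symm
    · apply sep V f
      intro W k hk
      have e1 : rg T β (k ≫ f) t = z W (k ≫ f) hk := ht (k ≫ f) hk
      have e2 := congrArg (fun t => t.1.2 W (𝟙 W) (T.rp k g)) e1
      change (show grp T β U from t).1.2 W (𝟙 W ≫ k ≫ f) (T.rp k g) = _ at e2
      rw [Category.id_comp, (show grp T β U from t).2.1 V W k f g] at e2
      exact e2.trans (hh V f g W k hk).symm

/-- The twist. -/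
def tw : EtCoh.Ab X := ⟨psh T β, isSheaf T β⟩

/-- Elements of the twist. -/
def mk {U : X.Etale} (b : EtCoh.sect B U) (h : ∀ (V : X.Etale), (V ⟶ U) → T.pt V → EtCoh.sect C V)
    (h1 : ∀ (V W : X.Etale) (k : W ⟶ V) (f : V ⟶ U) (g : T.pt V), h W (k ≫ f) (T.rp k g) = rs C k (h V f g))
    (h2 : ∀ (V : X.Etale) (f : V ⟶ U) (g : T.pt V) (x : EtCoh.sect A V),
      h V f (T.tr g x) = h V f g + β.app V x (rs B f b)) : EtCoh.sect (tw T β) U :=
  (⟨(b, h), h1, h2⟩ : grp T β U)

/-- The projection. -/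
def π : tw T β ⟶ B := mkHom (fun U => (AddMonoidHom.fst _ _).comp (grp T β U).subtype) (fun _ _ => rfl)

/-- The value of the second component. -/
def ev {U : X.Etale} (g : T.pt U) : EtCoh.sect (tw T β) U →+ EtCoh.sect C U where
  toFun z := (show grp T β U from z).1.2 U (𝟙 U) g
  map_zero' := rfl
  map_add' _ _ := rfl

variable {T β}

theorem ev_tr {U : X.Etale} (g : T.pt U) (x : EtCoh.sect A U) (z : EtCoh.sect (tw T β) U) :
    ev T β (T.tr g x) z = ev T β g z + β.app U x (ap (π T β) U z) := by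
  refine ((show grp T β U from z).2.2 U (𝟙 U) g x).trans ?_
  rw [rs_id]
  rfl

theorem ev_rs {U V : X.Etale} (k : V ⟶ U) (g : T.pt U) (z : EtCoh.sect (tw T β) U) :
    ev T β (T.rp k g) (rs (tw T β) k z) = rs C k (ev T β g z) := by
  refine Eq.trans ?_ ((show grp T β U from z).2.1 U V k (𝟙 U) g)
  change (show grp T β U from z).1.2 V (𝟙 V ≫ k) (T.rp k g) = _
  rw [Category.id_comp, Category.comp_id]

theorem tw_ext {U : X.Etale} {z z' : EtCoh.sect (tw T β) U} (h1 : ap (π T β) U z = ap (π T β) U z')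
    (h2 : ∀ (V : X.Etale) (f : V ⟶ U) (g : T.pt V), ev T β g (rs (tw T β) f z) = ev T β g (rs (tw T β) f z')) :
    z = z' := by
  refine grp_ext h1 fun V f g => ?_
  have := h2 V f g
  change (show grp T β U from z).1.2 V (𝟙 V ≫ f) g = (show grp T β U from z').1.2 V (𝟙 V ≫ f) g at this
  rwa [Category.id_comp] at this

/-- Over an object with a point of the torsor, sections of the twist are determined by the value at the point. -/
theorem tw_ext_pt {U : X.Etale} (g : T.pt U) {z z' : EtCoh.sect (tw T β) U}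
    (h1 : ap (π T β) U z = ap (π T β) U z') (h2 : ev T β g z = ev T β g z') : z = z' := by
  refine tw_ext h1 fun V f g' => ?_
  rw [← T.tr_df (T.rp f g) g', ev_tr, ev_tr, ev_rs, ev_rs, ap_rs, ap_rs, h1, h2]

theorem ap_π_mk {U : X.Etale} (b : EtCoh.sect B U) (h : ∀ (V : X.Etale), (V ⟶ U) → T.pt V → EtCoh.sect C V)
    (h1 : ∀ (V W : X.Etale) (k : W ⟶ V) (f : V ⟶ U) (g : T.pt V), h W (k ≫ f) (T.rp k g) = rs C k (h V f g))
    (h2 : ∀ (V : X.Etale) (f : V ⟶ U) (g : T.pt V) (x : EtCoh.sect A V),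
      h V f (T.tr g x) = h V f g + β.app V x (rs B f b)) : ap (π T β) U (mk T β b h h1 h2) = b := rfl

theorem ev_mk {U : X.Etale} (b : EtCoh.sect B U) (h : ∀ (V : X.Etale), (V ⟶ U) → T.pt V → EtCoh.sect C V)
    (h1 : ∀ (V W : X.Etale) (k : W ⟶ V) (f : V ⟶ U) (g : T.pt V), h W (k ≫ f) (T.rp k g) = rs C k (h V f g))
    (h2 : ∀ (V : X.Etale) (f : V ⟶ U) (g : T.pt V) (x : EtCoh.sect A V),
      h V f (T.tr g x) = h V f g + β.app V x (rs B f b)) (g : T.pt U) :
    ev T β g (mk T β b h h1 h2) = h U (𝟙 U) g := rfl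

theorem ev_rs_mk {U : X.Etale} (b : EtCoh.sect B U) (h : ∀ (V : X.Etale), (V ⟶ U) → T.pt V → EtCoh.sect C V)
    (h1 : ∀ (V W : X.Etale) (k : W ⟶ V) (f : V ⟶ U) (g : T.pt V), h W (k ≫ f) (T.rp k g) = rs C k (h V f g))
    (h2 : ∀ (V : X.Etale) (f : V ⟶ U) (g : T.pt V) (x : EtCoh.sect A V),
      h V f (T.tr g x) = h V f g + β.app V x (rs B f b)) {V : X.Etale} (f : V ⟶ U) (g : T.pt V) :
    ev T β g (rs (tw T β) f (mk T β b h h1 h2)) = h V f g := by
  change h V (𝟙 V ≫ f) g = h V f g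
  rw [Category.id_comp]

variable (T β)

/-- Elements of the twist from a point of the torsor. -/
def ofPt {U : X.Etale} (g : T.pt U) (b : EtCoh.sect B U) (c : EtCoh.sect C U) : EtCoh.sect (tw T β) U :=
  mk T β b (fun V f g' => rs C f c + β.app V (T.df (T.rp f g) g') (rs B f b))
    (fun V W k f g' => by
      rw [map_add, ← β.nat, ← rs_comp, ← rs_comp, T.rs_df, T.rp_comp])
    (fun V f g' x => by
      rw [T.df_tr, map_add, AddMonoidHom.add_apply, add_assoc])

theorem ap_π_ofPt {U : X.Etale} (g : T.pt U) (b : EtCoh.sect B U) (c : EtCoh.sect C U) :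
    ap (π T β) U (ofPt T β g b c) = b := rfl

theorem ev_ofPt {U : X.Etale} (g : T.pt U) (b : EtCoh.sect B U) (c : EtCoh.sect C U) :
    ev T β g (ofPt T β g b c) = c := by
  unfold ofPt
  rw [ev_mk, rs_id, T.rp_id, T.df_self, map_zero, AddMonoidHom.zero_apply, add_zero]

/-- The inclusion. -/
def ι : C ⟶ tw T β := mkHom
  (fun U =>
    { toFun := fun c => mk T β 0 (fun V f _ => rs C f c) (fun V W k f g => by rw [rs_comp])
        (fun V f g x => by rw [map_zero, map_zero, add_zero])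
      map_zero' := grp_ext rfl fun V f g => map_zero _
      map_add' := fun c c' => grp_ext (add_zero _).symm fun V f g => map_add _ _ _ })
  (fun {V W} k s => grp_ext (map_zero _).symm fun Z f g => (rs_comp _ _ _ _).symm)

variable {T β}

theorem ap_π_ι {U : X.Etale} (c : EtCoh.sect C U) : ap (π T β) U (ap (ι T β) U c) = 0 := rfl

theorem ev_ι {U : X.Etale} (g : T.pt U) (c : EtCoh.sect C U) : ev T β g (ap (ι T β) U c) = c := rs_id _ _

theorem ι_π : ι T β ≫ π T β = 0 := hom_ext fun _ _ => rfl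

variable (T β)

/-- The extension `C → tw → B`. -/
def seq : ShortComplex (EtCoh.Ab X) := ShortComplex.mk (ι T β) (π T β) ι_π

theorem shortExact : (seq T β).ShortExact where
  exact := by
    refine Groth.Agent.CurvesA.ArtinSchreier.exact_of_local _ fun U z hz x => ?_
    obtain ⟨V, k, v, hv, g, hg⟩ := T.loc U x
    refine ⟨V, k, ⟨v, hv⟩, ev T β ⟨g, hg⟩ (rs (tw T β) k z), ?_⟩
    refine tw_ext_pt (T := T) (β := β) ⟨g, hg⟩ ?_ ?_
    · refine (ap_π_ι _).trans ?_
      refine Eq.trans ?_ (ap_rs (π T β) k z).symm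
      rw [show ap (π T β) U z = 0 from hz, map_zero]
    · exact ev_ι _ _
  mono_f := by
    refine Groth.Agent.CurvesA.ArtinSchreier.mono_of_injective _ fun U c hc => ?_
    refine Groth.Agent.Etbase.EtSite.sect_eq_zero C U c fun x => ?_
    obtain ⟨V, k, v, hv, g, hg⟩ := T.loc U x
    refine ⟨V, k, v, hv, ?_⟩
    have h1 : ap (ι T β) V (rs C k c) = 0 := by
      rw [ap_rs, show ap (ι T β) U c = 0 from hc, map_zero]
    have h2 := ev_ι (T := T) (β := β) ⟨g, hg⟩ (rs C k c)
    rw [h1, map_zero] at h2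
    exact h2.symm
  epi_g := by
    refine (Groth.Agent.Dix.EtaleSieve.epi_iff _).2 fun U b x => ?_
    obtain ⟨V, k, v, hv, g, hg⟩ := T.loc U x
    exact ⟨V, k, ⟨v, hv⟩, ofPt T β ⟨g, hg⟩ (rs B k b) 0, rfl⟩

end tw

/-! ### Functoriality -/

section functoriality

variable {A B C B' C' : EtCoh.Ab X} (T : Tor A) (β : Pairing A B C) (β' : Pairing A B' C') (φ : B ⟶ B') (ψ : C ⟶ C')
  (h : ∀ (U : X.Etale) (a : EtCoh.sect A U) (b : EtCoh.sect B U), ap ψ U (β.app U a b) = β'.app U a (ap φ U b))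

/-- Functoriality of the twist. -/
def map : tw T β ⟶ tw T β' := mkHom
  (fun U =>
    { toFun := fun z => mk T β' (ap φ U (show grp T β U from z).1.1)
        (fun V f g => ap ψ V ((show grp T β U from z).1.2 V f g))
        (fun V W k f g => by rw [(show grp T β U from z).2.1, ap_rs])
        (fun V f g x => by rw [(show grp T β U from z).2.2, map_add, h, ap_rs])
      map_zero' := grp_ext (map_zero _) fun V f g => map_zero _
      map_add' := fun c c' => grp_ext (map_add _ _ _) fun V f g => map_add _ _ _ })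
  (fun {V W} k s => grp_ext (ap_rs _ _ _) fun Z f g => rfl)

theorem map_π : map T β β' φ ψ h ≫ π T β' = π T β ≫ φ := hom_ext fun _ _ => rfl

theorem ι_map : ι T β ≫ map T β β' φ ψ h = ψ ≫ ι T β' := hom_ext fun _ c =>
  grp_ext (map_zero _) fun _ f _ => ap_rs ψ f c

theorem ev_map {U : X.Etale} (g : T.pt U) (z : EtCoh.sect (tw T β) U) :
    ev T β' g (ap (map T β β' φ ψ h) U z) = ap ψ U (ev T β g z) := rfl

/-- The morphism of extensions. -/
def mapSeq : seq T β ⟶ seq T β' where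
  τ₁ := ψ
  τ₂ := map T β β' φ ψ h
  τ₃ := φ
  comm₁₂ := (ι_map T β β' φ ψ h).symm
  comm₂₃ := map_π T β β' φ ψ h

end functoriality

end K720.Tw
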